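import Groth.Agent.RGBlowLib.Iso

/-!
# Strict transforms of proper birational maps
-/

set_option autoImplicit false
set_option linter.style.haveILetI false
set_option backward.isDefEq.respectTransparency false
set_option maxHeartbeats 1000000

universe u

open CategoryTheory CategoryTheory.Limits AlgebraicGeometry TopologicalSpace

noncomputable section

namespace Groth.Agent.RGBlowLib

variable {X S : Scheme.{u}}

theorem exists_isIso_strict [CompactSpace S] [QuasiSeparatedSpace S] (φ : X ⟶ S) [IsProper φ] (U : S.Opens)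
    (hU : IsCompact (U : Set S)) [IsIso (φ ∣_ U)] :
    ∃ (𝓘 : S.IdealSheafData) (S' : Scheme.{u}) (b : S' ⟶ S), BlowUp.IsBlowUp b 𝓘 ∧ BlowUp.IsAdmissibleFor U 𝓘 ∧
      (∀ x : S, x ∉ U → x ∈ 𝓘.support) ∧
      ∀ (X' : Scheme.{u}) (p₁ : X' ⟶ X) (p₂ : X' ⟶ S'), IsPullback p₁ p₂ φ b →
      ∀ (𝒥 : X'.IdealSheafData),
        (∀ (W : X'.affineOpens) (a : Γ(X', W.1)), a ∈ 𝒥.ideal W ↔
          BlowUp.KilledByPowerNear ((𝓘.comap φ).comap p₁) (Coh.structureModule X') W a) →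
        IsIso (𝒥.subschemeι ≫ p₂) := by
  obtain ⟨𝓘, S', b, hb, hadm, hex, H⟩ := exists_openImmersion φ U hU
  refine ⟨𝓘, S', b, hb, hadm, hex, fun X' p₁ p₂ hc 𝒥 hJ => ?_⟩
  obtain ⟨hopen, hiso⟩ := H X' p₁ p₂ hc 𝒥 hJ
  haveI := hopen
  haveI := hiso
  haveI : IsProper p₂ := MorphismProperty.of_isPullback hc inferInstance
  let g := 𝒥.subschemeι ≫ p₂
  haveI : IsProper g := MorphismProperty.comp_mem (W := @IsProper) _ _ inferInstance inferInstance
  haveI : Mono g := inferInstanceAs (Mono (𝒥.subschemeι ≫ p₂))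
  haveI : IsClosedImmersion g := (IsClosedImmersion.iff_isProper_and_mono g).2 ⟨inferInstance, inferInstance⟩
  have hD : (𝓘.comap b).support.compl = b ⁻¹ᵁ U := by
    ext s
    show s ∉ (𝓘.comap b).support ↔ b s ∈ U
    rw [Scheme.IdealSheafData.support_comap]
    exact ⟨fun h => by_contra fun h' => h (hex _ h'), fun h h' => Set.disjoint_left.1 hadm.2 h' h⟩
  obtain ⟨-, hdom⟩ := S1571.result S' (𝓘.comap b) hb.1
  rw [show ((𝓘.comap b).support.compl : S'.Opens) = b ⁻¹ᵁ U from hD] at hdom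
  haveI := hdom
  haveI : IsIso (g ∣_ (b ⁻¹ᵁ U)) := hiso
  haveI : IsSchemeTheoreticallyDominant g :=
    S0449.dominant_of_fac (inv (g ∣_ (b ⁻¹ᵁ U)) ≫ (g ⁻¹ᵁ (b ⁻¹ᵁ U)).ι) g (j := (b ⁻¹ᵁ U).ι) (by
      rw [Category.assoc, ← morphismRestrict_ι, IsIso.inv_hom_id_assoc])
  exact S0449.isIso_of_dominant g

end Groth.Agent.RGBlowLib
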