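import Groth.Agent.RGBlowLib.Section
import Groth.Agent.BlowExistsLib.Proper

/-!
# Dominating a compactification after a blow-up
-/

set_option autoImplicit false
set_option linter.style.haveILetI false
set_option backward.isDefEq.respectTransparency false
set_option maxHeartbeats 1000000

universe u

open CategoryTheory CategoryTheory.Limits AlgebraicGeometry TopologicalSpace

noncomputable section

namespace Groth.Agent.RGBlowLib

variable {X S : Scheme.{u}}

/-- Maps which agree after a morphism, landing where it is an isomorphism, agree. -/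
theorem eq_of_iso_over {T : Scheme.{u}} (z : X ⟶ S) (U : S.Opens) [IsIso (z ∣_ U)] (a b : T ⟶ X)
    (h : a ≫ z = b ≫ z) (hb : ∀ t, (b ≫ z) t ∈ U) : a = b := by
  have hr : ∀ m : T ⟶ X, m ≫ z = b ≫ z → Set.range m ⊆ Set.range (z ⁻¹ᵁ U).ι := fun m hm => by
    rintro _ ⟨y, rfl⟩
    rw [Scheme.Opens.range_ι]
    show z (m y) ∈ U
    rw [← Scheme.Hom.comp_apply, hm]
    exact hb y
  have hlift : IsOpenImmersion.lift (z ⁻¹ᵁ U).ι a (hr _ h) = IsOpenImmersion.lift (z ⁻¹ᵁ U).ι b (hr _ rfl) := by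
    rw [← cancel_mono (z ∣_ U), ← cancel_mono U.ι]
    simpa only [Category.assoc, morphismRestrict_ι, IsOpenImmersion.lift_fac_assoc] using h
  rw [← IsOpenImmersion.lift_fac (z ⁻¹ᵁ U).ι a (hr _ h), hlift, IsOpenImmersion.lift_fac]

theorem isProper_blowUp {S' : Scheme.{u}} {𝓘 : S.IdealSheafData} {b : S' ⟶ S} (hb : BlowUp.IsBlowUp b 𝓘)
    {U : S.Opens} (h : BlowUp.IsAdmissibleFor U 𝓘) : IsProper b :=
  BlowExistsLib.isProper_of_FG hb h.1

/-- After an admissible blow-up, the strict transform of a separated morphism of finite type which is an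
isomorphism over `U` is an open of the base. -/
theorem exists_open_strict [CompactSpace S] [QuasiSeparatedSpace S] (φ : X ⟶ S) [IsSeparated φ]
    [LocallyOfFiniteType φ] [QuasiCompact φ] (U : S.Opens) (hU : IsCompact (U : Set S)) [IsIso (φ ∣_ U)] :
    ∃ (𝓘 : S.IdealSheafData) (S' : Scheme.{u}) (b : S' ⟶ S), BlowUp.IsBlowUp b 𝓘 ∧ BlowUp.IsAdmissibleFor U 𝓘 ∧
      ∃ (V : S'.Opens) (m : (V : Scheme.{u}) ⟶ X),
        b ⁻¹ᵁ U ≤ V ∧ IsProper m ∧ m ≫ φ = V.ι ≫ b := by
  obtain ⟨𝓘, S', b, hb, hadm, -, H⟩ := exists_openImmersion φ U hU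
  refine ⟨𝓘, S', b, hb, hadm, ?_⟩
  have hc := IsPullback.of_hasPullback φ b
  obtain ⟨𝒥, hJ⟩ := exists_killed_of_fg ((𝓘.comap φ).comap (pullback.fst φ b)) (by
    rw [← Scheme.IdealSheafData.comap_comp, pullback.condition, Scheme.IdealSheafData.comap_comp]
    exact ModPairLib.fg_of_isLP ((ModPairLib.isLP_of_cart hb.1).comap _))
  obtain ⟨hopen, hiso⟩ := H _ _ _ hc 𝒥 hJ
  haveI := hopen
  haveI := hiso
  let g := 𝒥.subschemeι ≫ pullback.snd φ b
  haveI : IsProper b := isProper_blowUp hb hadm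
  haveI : IsProper (pullback.fst φ b) := MorphismProperty.pullback_fst (P := @IsProper) _ _ inferInstance
  haveI : IsProper (𝒥.subschemeι ≫ pullback.fst φ b) :=
    MorphismProperty.comp_mem (W := @IsProper) _ _ inferInstance inferInstance
  refine ⟨g.opensRange, g.isoOpensRange.inv ≫ 𝒥.subschemeι ≫ pullback.fst φ b, fun y hy => ?_, ?_, ?_⟩
  · obtain ⟨x, hx⟩ := (g ∣_ (b ⁻¹ᵁ U)).surjective ⟨y, hy⟩
    refine ⟨(g ⁻¹ᵁ (b ⁻¹ᵁ U)).ι x, ?_⟩
    rw [← Scheme.Hom.comp_apply, ← morphismRestrict_ι, Scheme.Hom.comp_apply, hx]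
    rfl
  · exact MorphismProperty.comp_mem (W := @IsProper) _ _ inferInstance inferInstance
  · simp only [Category.assoc, pullback.condition]
    rw [← Scheme.Hom.isoOpensRange_inv_comp g, Category.assoc, Category.assoc]

/-- After a blow-up, an open of a compactification of an open maps properly to the big scheme. -/
theorem exists_proper_extension {U Y : Scheme.{u}} [CompactSpace S] [QuasiSeparatedSpace S]
    (g : U ⟶ S) [IsSeparated g] [LocallyOfFiniteType g] [QuasiCompact g]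
    (V : U.Opens) (hV : IsCompact (V : Set U)) (j : (V : Scheme.{u}) ⟶ Y) [IsOpenImmersion j] [QuasiCompact j]
    (πY : Y ⟶ S) [IsProper πY] (hj : j ≫ πY = V.ι ≫ g) :
    ∃ (𝓘 : Y.IdealSheafData) (Y' : Scheme.{u}) (b : Y' ⟶ Y), BlowUp.IsBlowUp b 𝓘 ∧ BlowUp.IsAdmissibleFor j.opensRange 𝓘 ∧
      ∃ (V' : Y'.Opens) (hle : b ⁻¹ᵁ j.opensRange ≤ V') (h : (V' : Scheme.{u}) ⟶ U),
        IsProper h ∧
        ∃ k : ((b ⁻¹ᵁ j.opensRange : Y'.Opens) : Scheme.{u}) ⟶ V,
          k ≫ j = (b ∣_ j.opensRange) ≫ j.opensRange.ι ∧ Y'.homOfLE hle ≫ h = k ≫ V.ι := by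
  haveI : CompactSpace Y := QuasiCompact.compactSpace_of_compactSpace πY
  haveI : QuasiSeparatedSpace Y := quasiSeparatedSpace_of_quasiSeparated πY
  haveI : CompactSpace V := isCompact_iff_compactSpace.1 hV
  let R := j.opensRange
  have hR : IsCompact (R : Set Y) := isCompact_range j.continuous
  let e := j.isoOpensRange
  haveI : QuasiCompact R.ι := (quasiCompact_iff _).2 fun O hO hOc => by
    rw [R.ι.isOpenEmbedding.isEmbedding.isCompact_iff, Set.image_preimage_eq_inter_range, Scheme.Opens.range_ι]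
    exact hOc.inter_of_isOpen hR hO R.2
  let p₁ := pullback.fst πY g
  let p₂ := pullback.snd πY g
  let t : (R : Scheme.{u}) ⟶ pullback πY g := e.inv ≫ pullback.lift j V.ι hj
  have ht : t ≫ p₁ = R.ι := by
    simp only [t, p₁, Category.assoc, pullback.lift_fst]
    exact Scheme.Hom.isoOpensRange_inv_comp j
  haveI : IsSeparated p₁ := MorphismProperty.pullback_fst (P := @IsSeparated) _ _ inferInstance
  haveI : IsProper p₂ := MorphismProperty.pullback_snd (P := @IsProper) _ _ inferInstance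
  haveI : QuasiCompact (t ≫ p₁) := by rw [ht]; infer_instance
  haveI : QuasiCompact t := QuasiCompact.of_comp t p₁
  let q := t.imageι ≫ p₁
  haveI : IsIso (q ∣_ R) := isIso_image_restrict p₁ R t ht
  haveI : LocallyOfFiniteType p₁ := MorphismProperty.pullback_fst (P := @LocallyOfFiniteType) _ _ inferInstance
  haveI : QuasiCompact p₁ := MorphismProperty.pullback_fst (P := @QuasiCompact) _ _ inferInstance
  obtain ⟨𝓘, Y', b, hb, hadm, V', m, hle, hm, hmq⟩ := exists_open_strict q R hR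
  haveI := hm
  refine ⟨𝓘, Y', b, hb, hadm, V', hle, m ≫ t.imageι ≫ p₂, ?_, (b ∣_ R) ≫ e.inv, ?_, ?_⟩
  · exact MorphismProperty.comp_mem (W := @IsProper) _ _ inferInstance
      (MorphismProperty.comp_mem (W := @IsProper) _ _ inferInstance inferInstance)
  · rw [Category.assoc, Scheme.Hom.isoOpensRange_inv_comp]
  · have h0 : Y'.homOfLE hle ≫ m = (b ∣_ R) ≫ t.toImage := by
      refine eq_of_iso_over q R _ _ ?_ fun y => ?_
      · simp only [q, Category.assoc, Scheme.Hom.toImage_imageι_assoc, ht]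
        rw [show m ≫ t.imageι ≫ p₁ = V'.ι ≫ b from hmq, ← Category.assoc, Scheme.homOfLE_ι, morphismRestrict_ι]
      · simp only [q, Category.assoc, Scheme.Hom.toImage_imageι_assoc, ht]
        exact ((b ∣_ R) y).2
    rw [reassoc_of% h0]
    simp only [Scheme.Hom.toImage_imageι_assoc, t, p₂, Category.assoc, pullback.lift_snd]

end Groth.Agent.RGBlowLib
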