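import Groth.Agent.ModPairLib.Cartier
import Groth.Prelude.Def_BlowUp2
import Groth.Prelude.Def_Coh

/-!
# The ideal of sections killed by a power of a locally principal ideal
-/

set_option autoImplicit false
set_option linter.style.haveILetI false
set_option backward.isDefEq.respectTransparency false

universe u

open CategoryTheory CategoryTheory.Limits AlgebraicGeometry

noncomputable section

namespace Groth.Agent.RGBlowLib

variable {X : Scheme.{u}}

/-- The sections annihilated by a power of an ideal. -/
def killed {A : Type u} [CommRing A] (E : Ideal A) : Ideal A where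
  carrier := {a | ∃ n : ℕ, ∀ t ∈ E ^ n, t * a = 0}
  zero_mem' := ⟨0, fun t _ => mul_zero t⟩
  add_mem' := by
    rintro a b ⟨m, hm⟩ ⟨n, hn⟩
    exact ⟨m + n, fun t ht => by
      rw [mul_add, hm t (Ideal.pow_le_pow_right (Nat.le_add_right m n) ht),
        hn t (Ideal.pow_le_pow_right (Nat.le_add_left n m) ht), add_zero]⟩
  smul_mem' := by
    rintro c a ⟨n, hn⟩
    exact ⟨n, fun t ht => by rw [smul_eq_mul, mul_left_comm, hn t ht, mul_zero]⟩

theorem map_killed {A B : Type u} [CommRing A] [CommRing B] [Algebra A B] (f : A) [IsLocalization.Away f B]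
    (E : Ideal A) (hE : E.FG) : (killed E).map (algebraMap A B) = killed (E.map (algebraMap A B)) := by
  refine le_antisymm (Ideal.map_le_iff_le_comap.2 ?_) fun y hy => ?_
  · rintro a ⟨n, hn⟩
    refine ⟨n, fun t ht => ?_⟩
    rw [← Ideal.map_pow, Ideal.map] at ht
    induction ht using Submodule.span_induction with
    | mem t ht => obtain ⟨s, hs, rfl⟩ := ht; rw [← map_mul, hn s hs, map_zero]
    | zero => rw [zero_mul]
    | add u v _ _ hu hv => rw [add_mul, hu, hv, add_zero]
    | smul c u _ hu => rw [smul_eq_mul, mul_assoc, hu, mul_zero]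
  · obtain ⟨n, hn⟩ := hy
    obtain ⟨⟨z, ⟨_, k, rfl⟩⟩, hz⟩ := IsLocalization.surj (Submonoid.powers f) y
    obtain ⟨s, hs⟩ := Submodule.FG.pow hE n
    have key : ∀ t ∈ s, ∃ m : ℕ, f ^ m * (t * z) = 0 := fun t ht => by
      have h1 : algebraMap A B (t * z) = 0 := by
        rw [map_mul, ← hz, ← mul_assoc, hn _ (by rw [← Ideal.map_pow]; exact Ideal.mem_map_of_mem _ (hs ▸ Submodule.subset_span ht)),
          zero_mul]
      obtain ⟨⟨_, m, rfl⟩, hm⟩ := (IsLocalization.map_eq_zero_iff (Submonoid.powers f) B _).1 h1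
      exact ⟨m, hm⟩
    choose! m hm using key
    have h2 : f ^ s.sup m * z ∈ killed E := by
      refine ⟨n, fun t ht => ?_⟩
      rw [← hs] at ht
      induction ht using Submodule.span_induction with
      | mem t ht =>
        rw [show t * (f ^ s.sup m * z) = f ^ (s.sup m - m t) * (f ^ m t * (t * z)) by
          rw [← mul_assoc (f ^ (s.sup m - m t)), ← pow_add, Nat.sub_add_cancel (Finset.le_sup ht)]; ring,
          hm t ht, mul_zero]
      | zero => rw [zero_mul]
      | add u v _ _ hu hv => rw [add_mul, hu, hv, add_zero]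
      | smul c u _ hu => rw [smul_eq_mul, mul_assoc, hu, mul_zero]
    have hu : ∀ j, IsUnit (algebraMap A B (f ^ j)) := fun j => by
      rw [map_pow]
      exact (IsLocalization.Away.algebraMap_isUnit f).pow j
    have h3 := Ideal.mem_map_of_mem (algebraMap A B) h2
    rw [map_mul, Ideal.unit_mul_mem_iff_mem _ (hu _), ← hz, Ideal.mul_unit_mem_iff_mem _ (hu k)] at h3
    exact h3

/-- The ideal sheaf of sections killed by a power of an ideal sheaf of finite type exists. -/
theorem exists_killed_of_fg (E : X.IdealSheafData) (hE : BlowUp.IsFiniteTypeIdeal E) :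
    ∃ 𝒥 : X.IdealSheafData, ∀ (V : X.affineOpens) (a : Γ(X, V.1)), a ∈ 𝒥.ideal V ↔
      BlowUp.KilledByPowerNear E (Coh.structureModule X) V a := by
  refine ⟨{ ideal := fun V => killed (E.ideal V), map_ideal_basicOpen := fun V f => ?_ }, fun V a => ?_⟩
  · letI : Algebra Γ(X, V.1) Γ(X, X.basicOpen f) := (X.presheaf.map (homOfLE (X.basicOpen_le f)).op).hom.toAlgebra
    haveI : IsLocalization.Away f Γ(X, X.basicOpen f) := V.2.isLocalization_basicOpen f
    rw [← E.map_ideal_basicOpen V f]
    exact map_killed f (E.ideal V) (hE V)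
  · exact Iff.rfl

end Groth.Agent.RGBlowLib
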