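import Mathlib
import Groth.Agent.BlowExistsLib.Proper
import Groth.Agent.S8857
import Groth.Agent.S1683
import Groth.Agent.S8907

/-! The composite of two blow-ups in centres of finite type is a blow-up. -/

set_option autoImplicit false
set_option backward.isDefEq.respectTransparency false
set_option backward.defeqAttrib.useBackward true
set_option linter.style.haveILetI false
set_option maxHeartbeats 1000000

universe u

open CategoryTheory CategoryTheory.Limits AlgebraicGeometry TopologicalSpace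

namespace Groth.Agent.RGBlowLib

open BlowChartLib BlowExistsLib

theorem exists_step_le {X : Scheme.{u}} [QuasiSeparatedSpace X] (K : X.IdealSheafData) (W : X.Opens)
    (hW : IsCompact (W : Set X)) (hK : ∀ C : X.affineOpens, C.1 ≤ W → (K.ideal C).FG) (A : X.affineOpens) :
    ∃ K' : X.IdealSheafData, K' ≤ K ∧ (∀ C : X.affineOpens, C.1 ≤ W → K'.ideal C = K.ideal C) ∧
      ∀ C : X.affineOpens, C.1 ≤ W ⊔ A.1 → (K'.ideal C).FG := by
  have hc : IsCompact ((W : Set X) ∩ (A.1 : Set X)) :=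
    QuasiSeparatedSpace.inter_isCompact _ _ W.2 hW A.1.2 A.2.isCompact
  obtain ⟨F, hF⟩ := hc.elim_finite_subcover
    (fun f : {f : Γ(X, A.1) // X.basicOpen f ≤ W} => (X.basicOpen f.1 : Set X)) (fun f => (X.basicOpen f.1).2)
    (fun x hx => by
      obtain ⟨f, hf, hxf⟩ := A.2.exists_basicOpen_le (V := W) ⟨x, hx.1⟩ hx.2
      exact Set.mem_iUnion.2 ⟨⟨f, hf⟩, hxf⟩)
  obtain ⟨I, hIK, hI, hIm⟩ := S8857.exists_fg_map' (fun f : {f : Γ(X, A.1) // X.basicOpen f ≤ W} => Γ(X, X.basicOpen f.1))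
    (fun f => (X.presheaf.map (homOfLE (X.basicOpen_le f.1)).op).hom) (K.ideal A) F
    (fun f _ => by rw [K.map_ideal_basicOpen A f.1]; exact hK _ f.2)
  obtain ⟨D, hD⟩ := S8857.exists_map_ideal_eq A I
  haveI : QuasiCompact A.1.ι := inferInstance
  let L := D.map A.1.ι
  have hWA : ∀ C : X.affineOpens, C.1 ≤ W → C.1 ≤ A.1 → K.ideal C ≤ L.ideal C := fun C hCW hCA => by
    refine S8857.ideal_le_of_local K L C fun x hx => ?_
    obtain ⟨f, hf, hxf⟩ := Set.mem_iUnion₂.1 (hF ⟨hCW hx, hCA hx⟩)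
    obtain ⟨V, hV, hxV, hVC⟩ := exists_isAffineOpen_mem_and_subset (U := C.1 ⊓ X.basicOpen f.1) (x := x) ⟨hx, hxf⟩
    refine ⟨⟨V, hV⟩, hxV, fun y hy => (hVC hy).1, ?_⟩
    have e : K.ideal (X.affineBasicOpen f.1) = L.ideal (X.affineBasicOpen f.1) := by
      rw [← K.map_ideal_basicOpen A f.1, ← L.map_ideal_basicOpen A f.1, show L.ideal A = I from hD]
      exact (hIm f hf).symm
    rw [← K.map_ideal (U := ⟨V, hV⟩) (V := X.affineBasicOpen f.1) (fun y hy => (hVC hy).2),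
      ← L.map_ideal (U := ⟨V, hV⟩) (V := X.affineBasicOpen f.1) (fun y hy => (hVC hy).2), e]
  have hWL : ∀ C : X.affineOpens, C.1 ≤ W → K.ideal C ≤ L.ideal C := fun C hC r hr =>
    S8857.mem_map_ideal D C r fun V hVC hVA =>
      hWA V (hVC.trans hC) hVA (K.ideal_le_comap_ideal hVC hr)
  have hKW : ∀ C : X.affineOpens, C.1 ≤ W → (K ⊓ L).ideal C = K.ideal C := fun C hC => by
    rw [Scheme.IdealSheafData.ideal_inf, Pi.inf_apply, inf_eq_left]
    exact hWL C hC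
  refine ⟨K ⊓ L, inf_le_left, hKW, fun C hC => S8857.fg_of_local _ C fun x hx => ?_⟩
  rcases hC hx with hxW | hxA
  · obtain ⟨V, hV, hxV, hVW⟩ := exists_isAffineOpen_mem_and_subset (U := W) (x := x) hxW
    exact ⟨⟨V, hV⟩, hxV, by rw [hKW ⟨V, hV⟩ hVW]; exact hK _ hVW⟩
  · refine ⟨A, hxA, ?_⟩
    rw [Scheme.IdealSheafData.ideal_inf, Pi.inf_apply, show L.ideal A = I from hD, inf_eq_right.2 hIK]
    exact hI

/-- Extension of ideal sheaves of finite type from quasi-compact opens, inside the given one. -/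
theorem exists_extension_le {X : Scheme.{u}} [CompactSpace X] [QuasiSeparatedSpace X] (K : X.IdealSheafData)
    (W : X.Opens) (hW : IsCompact (W : Set X)) (hK : ∀ C : X.affineOpens, C.1 ≤ W → (K.ideal C).FG) :
    ∃ K' : X.IdealSheafData, K' ≤ K ∧ (∀ C : X.affineOpens, C.1 ≤ W → K'.ideal C = K.ideal C) ∧
      BlowUp.IsFiniteTypeIdeal K' := by
  classical
  obtain ⟨s, hs⟩ := isCompact_univ.elim_finite_subcover (fun A : X.affineOpens => (A.1 : Set X))
    (fun A => A.1.2) (fun x _ => by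
      obtain ⟨V, hV, hxV, -⟩ := exists_isAffineOpen_mem_and_subset (X := X) (U := ⊤) (x := x) trivial
      exact Set.mem_iUnion.2 ⟨⟨V, hV⟩, hxV⟩)
  have key : ∀ t : Finset X.affineOpens, ∃ K' : X.IdealSheafData, K' ≤ K ∧
      (∀ C : X.affineOpens, C.1 ≤ W → K'.ideal C = K.ideal C) ∧
      IsCompact ((W ⊔ t.sup Subtype.val : X.Opens) : Set X) ∧
      ∀ C : X.affineOpens, C.1 ≤ W ⊔ t.sup Subtype.val → (K'.ideal C).FG := by
    intro t
    induction t using Finset.induction_on with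
    | empty =>
      exact ⟨K, le_rfl, fun _ _ => rfl, by simpa using hW, fun C hC => hK C (by simpa using hC)⟩
    | insert A t hAt ih =>
      obtain ⟨K', h0, h1, h2, h3⟩ := ih
      obtain ⟨K'', h00, h4, h5⟩ := exists_step_le K' _ h2 h3 A
      have e : W ⊔ (insert A t).sup Subtype.val = W ⊔ t.sup Subtype.val ⊔ A.1 := by
        rw [Finset.sup_insert, sup_comm A.1, sup_assoc]
      refine ⟨K'', h00.trans h0, fun C hC => (h4 C (hC.trans le_sup_left)).trans (h1 C hC), ?_,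
        fun C hC => h5 C (e ▸ hC)⟩
      rw [e, Opens.coe_sup]
      exact h2.union A.2.isCompact
  obtain ⟨K', h0, h1, -, h3⟩ := key s
  refine ⟨K', h0, h1, fun C => h3 C fun x _ => ?_⟩
  obtain ⟨A, hA, hxA⟩ := Set.mem_iUnion₂.1 (hs (Set.mem_univ x))
  exact le_sup_right (a := W) (Finset.le_sup (f := Subtype.val) hA hxA)

/-- A finitely generated ideal on an affine open inside an ideal sheaf is reached by a finite type subsheaf. -/
theorem exists_finiteType_le {X : Scheme.{u}} [CompactSpace X] [QuasiSeparatedSpace X] (K' : X.IdealSheafData)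
    (A : X.affineOpens) (L : Ideal Γ(X, A.1)) (hL : L.FG) (hle : L ≤ K'.ideal A) :
    ∃ K : X.IdealSheafData, K ≤ K' ∧ BlowUp.IsFiniteTypeIdeal K ∧ L ≤ K.ideal A := by
  obtain ⟨D, hD⟩ := S8857.exists_map_ideal_eq A L
  haveI : QuasiCompact A.1.ι := inferInstance
  let K₁ := K' ⊓ D.map A.1.ι
  have hA : K₁.ideal A = L := by
    show (K' ⊓ D.map A.1.ι).ideal A = L
    rw [Scheme.IdealSheafData.ideal_inf, Pi.inf_apply, hD, inf_eq_right.2 hle]
  have hfg : ∀ C : X.affineOpens, C.1 ≤ A.1 → (K₁.ideal C).FG := fun C hC =>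
    S8857.fg_of_local K₁ C fun x hx => by
      obtain ⟨r, hr, hxr⟩ := A.2.exists_basicOpen_le (V := C.1) ⟨x, hx⟩ (hC hx)
      exact ⟨X.affineBasicOpen (U := A) r, hxr, by rw [← K₁.map_ideal_basicOpen A r, hA]; exact hL.map _⟩
  obtain ⟨K, h1, h2, h3⟩ := exists_extension_le K₁ A.1 A.2.isCompact hfg
  exact ⟨K, h1.trans inf_le_left, h3, by rw [h2 A le_rfl, hA]⟩

variable {X X' : Scheme.{u}} {𝓘 : X.IdealSheafData} {b : X' ⟶ X}
variable {U : X.affineOpens}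

/-- The ring map to a chart of the blow-up. -/
noncomputable abbrev chartHom (𝓘 : X.IdealSheafData) (b : X' ⟶ X) (U : X.affineOpens) (a : Γ(X, U.1)) :
    Γ(X, U.1) →+* Γ(X', chartOpen 𝓘 U a b) :=
  (b.appLE U.1 (chartOpen 𝓘 U a b) (chartOpen_le_preimage b)).hom

/-- The sections over a chart are the affine blow-up algebra. -/
theorem exists_chart_equiv (hb : BlowUp.IsBlowUp b 𝓘) {a : Γ(X, U.1)} (ha : a ∈ 𝓘.ideal U) :
    ∃ φ : Γ(X', chartOpen 𝓘 U a b) →+* ChartAlg 𝓘 U a, Function.Bijective φ ∧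
      ∀ r, φ (chartHom 𝓘 b U a r) = algebraMap Γ(X, U.1) (ChartAlg 𝓘 U a) r := by
  let B := ChartAlg 𝓘 U a
  let j := emb hb ha
  let O := chartOpen 𝓘 U a b
  have e : (⊤ : (Spec (CommRingCat.of B)).Opens) ≤ j ⁻¹ᵁ O := fun y _ => by
    show j y ∈ O
    rw [show O = j.opensRange from (opensRange_emb hb ha).symm]
    exact ⟨y, rfl⟩
  haveI h1 : IsIso (j.app O) := j.isIso_app O (opensRange_emb hb ha).ge
  haveI h2 : IsIso (homOfLE e) := ⟨⟨homOfLE le_top, Subsingleton.elim _ _, Subsingleton.elim _ _⟩⟩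
  haveI : IsIso (j.appLE O ⊤ e) := by rw [Scheme.Hom.appLE]; infer_instance
  refine ⟨(j.appLE O ⊤ e ≫ (Scheme.ΓSpecIso (CommRingCat.of B)).hom).hom,
    ConcreteCategory.bijective_of_isIso (j.appLE O ⊤ e ≫ (Scheme.ΓSpecIso (CommRingCat.of B)).hom), fun r => ?_⟩
  have h3 : b.appLE U.1 O (chartOpen_le_preimage b) ≫ j.appLE O ⊤ e =
      (chartMap 𝓘 U a).appLE U.1 ⊤ (le_preimage_chartMap 𝓘 U a) := by
    rw [Scheme.Hom.appLE_comp_appLE]
    simp only [j, emb_comp]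
  have h4 := congrArg (fun q => q.hom r) h3
  simp only [CommRingCat.hom_comp, RingHom.comp_apply] at h4
  show (Scheme.ΓSpecIso (CommRingCat.of B)).hom.hom ((j.appLE O ⊤ e).hom ((b.appLE U.1 O _).hom r)) = _
  rw [h4, appLE_chartMap, ← CommRingCat.comp_apply, Iso.inv_hom_id]
  rfl

/-- Sections over a chart are fractions with powers of the generator as denominators. -/
theorem exists_chart_frac (hb : BlowUp.IsBlowUp b 𝓘) {a : Γ(X, U.1)} (ha : a ∈ 𝓘.ideal U)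
    (z : Γ(X', chartOpen 𝓘 U a b)) :
    ∃ (m : ℕ) (f : Γ(X, U.1)), f ∈ 𝓘.ideal U ^ m ∧ z * chartHom 𝓘 b U a a ^ m = chartHom 𝓘 b U a f := by
  let B := ChartAlg 𝓘 U a
  obtain ⟨φ, ⟨hφi, -⟩, hφ⟩ := exists_chart_equiv hb ha
  suffices ∀ w : B, ∃ (m : ℕ) (f : Γ(X, U.1)), f ∈ 𝓘.ideal U ^ m ∧
      w * algebraMap Γ(X, U.1) B a ^ m = algebraMap Γ(X, U.1) B f by
    obtain ⟨m, f, hf, hw⟩ := this (φ z)
    exact ⟨m, f, hf, hφi (by rw [map_mul, map_pow, hφ, hφ, hw])⟩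
  intro w
  refine induction_frac (P := fun w => ∃ (m : ℕ) (f : Γ(X, U.1)), f ∈ 𝓘.ideal U ^ m ∧
      w * algebraMap Γ(X, U.1) B a ^ m = algebraMap Γ(X, U.1) B f)
    (fun r => ⟨0, r, by simp, by rw [pow_zero, mul_one]⟩) (fun x hx => ⟨1, x, by simpa using hx, by rw [pow_one]; exact frac_mul x hx⟩)
    ?_ ?_ w
  · rintro p q ⟨m, f, hf, hp⟩ ⟨n, g, hg, hq⟩
    refine ⟨m + n, f * a ^ n + g * a ^ m, add_mem ?_ ?_, ?_⟩
    · rw [pow_add]; exact Ideal.mul_mem_mul hf (Ideal.pow_mem_pow ha n)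
    · rw [add_comm m n, pow_add]; exact Ideal.mul_mem_mul hg (Ideal.pow_mem_pow ha m)
    · rw [map_add, map_mul, map_mul, map_pow, map_pow, ← hp, ← hq]; ring
  · rintro p q ⟨m, f, hf, hp⟩ ⟨n, g, hg, hq⟩
    refine ⟨m + n, f * g, by rw [pow_add]; exact Ideal.mul_mem_mul hf hg, ?_⟩
    rw [map_mul, ← hp, ← hq]; ring

/-- The centre becomes principal on a chart. -/
theorem ideal_comap_chart (hb : BlowUp.IsBlowUp b 𝓘) {a : Γ(X, U.1)} (ha : a ∈ 𝓘.ideal U) :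
    chartHom 𝓘 b U a a ∈ nonZeroDivisors Γ(X', chartOpen 𝓘 U a b) ∧
    (𝓘.comap b).ideal ⟨chartOpen 𝓘 U a b, isAffineOpen_chartOpen hb ha⟩ = Ideal.span {chartHom 𝓘 b U a a} := by
  let C : X'.affineOpens := ⟨chartOpen 𝓘 U a b, isAffineOpen_chartOpen hb ha⟩
  have hI : (𝓘.comap b).ideal C = (𝓘.ideal U).map (chartHom 𝓘 b U a) :=
    IdealStalkLib.comap_ideal 𝓘 b U.2 C.2 (chartOpen_le_preimage b)
  have hn : chartHom 𝓘 b U a a ∈ nonZeroDivisors Γ(X', chartOpen 𝓘 U a b) := by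
    rw [mem_nonZeroDivisors_iff_right]
    intro z hz
    refine TopCat.Sheaf.eq_of_locally_eq' X'.sheaf
      (fun V : {V : X'.affineOpens // IsGood 𝓘 U a b V} => V.1.1) (chartOpen 𝓘 U a b)
      (fun V => homOfLE (le_iSup (fun V : {V : X'.affineOpens // IsGood 𝓘 U a b V} => V.1.1) V)) le_rfl _ _ fun V => ?_
    obtain ⟨e, hn, -⟩ := V.2
    have hle : V.1.1 ≤ chartOpen 𝓘 U a b := le_iSup (fun V : {V : X'.affineOpens // IsGood 𝓘 U a b V} => V.1.1) V
    have h := congrArg (X'.presheaf.map (homOfLE hle).op).hom hz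
    rw [map_mul, map_zero] at h
    have h2 : (X'.presheaf.map (homOfLE hle).op).hom (chartHom 𝓘 b U a a) = (b.appLE U.1 V.1.1 e).hom a := by
      rw [← CommRingCat.comp_apply, Scheme.Hom.appLE_map]
    rw [h2] at h
    exact ((mem_nonZeroDivisors_iff_right.1 hn _ h).trans (map_zero _).symm)
  refine ⟨hn, le_antisymm ?_ ?_⟩
  · rw [hI, Ideal.map_le_iff_le_comap]
    intro x hx
    refine Ideal.mem_span_singleton'.2 ?_
    obtain ⟨φ, ⟨hi, hs⟩, hφ⟩ := exists_chart_equiv hb ha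
    obtain ⟨w, hw⟩ := hs (frac (a := a) x hx)
    exact ⟨w, hi (by
      rw [map_mul, hφ, hφ, hw, frac_mul])⟩
  · rw [hI, Ideal.span_singleton_le_iff_mem]
    exact Ideal.mem_map_of_mem _ ha

/-- Clearing denominators on a second chart. -/
theorem exists_chart_pow (hb : BlowUp.IsBlowUp b 𝓘) (𝓙 : X'.IdealSheafData) {a c : Γ(X, U.1)} (ha : a ∈ 𝓘.ideal U)
    (hc : c ∈ 𝓘.ideal U) {g : Γ(X', chartOpen 𝓘 U a b)}
    (hg : g ∈ 𝓙.ideal ⟨chartOpen 𝓘 U a b, isAffineOpen_chartOpen hb ha⟩)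
    {m : ℕ} {f : Γ(X, U.1)} (hf : f ∈ 𝓘.ideal U ^ m)
    (hgf : g * chartHom 𝓘 b U a a ^ m = chartHom 𝓘 b U a f) :
    ∃ M₀ : ℕ, ∀ M, M₀ ≤ M → chartHom 𝓘 b U c (f * a ^ M) ∈
      (𝓙 * (𝓘.comap b) ^ (m + M)).ideal ⟨chartOpen 𝓘 U c b, isAffineOpen_chartOpen hb hc⟩ := by
  let C : X'.affineOpens := ⟨chartOpen 𝓘 U c b, isAffineOpen_chartOpen hb hc⟩
  let θ := chartHom 𝓘 b U c
  obtain ⟨hn, hE⟩ := ideal_comap_chart hb hc
  have hI : (𝓘.ideal U).map θ = Ideal.span {θ c} :=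
    (IdealStalkLib.comap_ideal 𝓘 b U.2 C.2 (chartOpen_le_preimage b)).symm.trans hE
  obtain ⟨t, ht⟩ := Ideal.mem_span_singleton'.1 (hI.le (Ideal.mem_map_of_mem θ ha))
  obtain ⟨h, hh⟩ := Ideal.mem_span_singleton'.1 (show θ f ∈ Ideal.span {θ c ^ m} by
    rw [← Ideal.span_singleton_pow, ← hI, ← Ideal.map_pow]
    exact Ideal.mem_map_of_mem θ hf)
  have hgood := isGood_basicOpen 𝓘 U a b (V := C) (chartOpen_le_preimage b) hn hE ht.symm
  let D : X'.affineOpens := X'.affineBasicOpen (U := C) t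
  have hDa : D.1 ≤ chartOpen 𝓘 U a b :=
    le_iSup (fun V : {V : X'.affineOpens // IsGood 𝓘 U a b V} => V.1.1) ⟨D, hgood⟩
  let ρ : Γ(X', C.1) →+* Γ(X', D.1) := (X'.presheaf.map (homOfLE (X'.basicOpen_le t)).op).hom
  let ρa : Γ(X', chartOpen 𝓘 U a b) →+* Γ(X', D.1) := (X'.presheaf.map (homOfLE hDa).op).hom
  let θD : Γ(X, U.1) →+* Γ(X', D.1) :=
    (b.appLE U.1 D.1 (hDa.trans (chartOpen_le_preimage b))).hom
  have h1 : ∀ r, ρ (θ r) = θD r := fun r => by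
    show (b.appLE U.1 C.1 _ ≫ X'.presheaf.map (homOfLE (X'.basicOpen_le t)).op).hom r = _
    rw [Scheme.Hom.appLE_map]
    rfl
  have h2 : ∀ r, ρa (chartHom 𝓘 b U a r) = θD r := fun r => by
    show (b.appLE U.1 _ _ ≫ X'.presheaf.map (homOfLE hDa).op).hom r = _
    rw [Scheme.Hom.appLE_map]
  letI : Algebra Γ(X', C.1) Γ(X', D.1) := ρ.toAlgebra
  haveI : IsLocalization.Away t Γ(X', D.1) := C.2.isLocalization_basicOpen t
  have hnD : ρ (θ c) ∈ nonZeroDivisors Γ(X', D.1) :=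
    IsLocalization.map_nonZeroDivisors_le (Submonoid.powers t) Γ(X', D.1) ⟨_, hn, rfl⟩
  have hρh : ρ h = ρa g * ρ t ^ m := by
    refine (mul_cancel_right_mem_nonZeroDivisors (pow_mem hnD m)).1 ?_
    rw [← map_pow ρ (θ c), ← map_mul, hh, h1, ← h2, ← hgf, map_mul, map_pow, h2, ← h1, ← ht, map_mul, map_pow, mul_pow]
    ring
  have hmem : algebraMap Γ(X', C.1) Γ(X', D.1) h ∈ (𝓙.ideal C).map (algebraMap Γ(X', C.1) Γ(X', D.1)) := by
    show ρ h ∈ (𝓙.ideal C).map ρ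
    rw [show (𝓙.ideal C).map ρ = 𝓙.ideal D from 𝓙.map_ideal_basicOpen C t, hρh]
    exact Ideal.mul_mem_right _ _ (𝓙.ideal_le_comap_ideal hDa hg)
  obtain ⟨_, ⟨M₀, rfl⟩, hM⟩ := (IsLocalization.algebraMap_mem_map_algebraMap_iff (Submonoid.powers t) Γ(X', D.1) (𝓙.ideal C) h).1 hmem
  refine ⟨M₀, fun M hM' => ?_⟩
  show θ (f * a ^ M) ∈ (𝓙 * (𝓘.comap b) ^ (m + M)).ideal C
  rw [Scheme.IdealSheafData.ideal_mul, Pi.mul_apply, Scheme.IdealSheafData.ideal_pow, Pi.pow_apply,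
    show (𝓘.comap b).ideal C = Ideal.span {θ c} from hE, Ideal.span_singleton_pow]
  have e : θ (f * a ^ M) = (t ^ (M - M₀) * (t ^ M₀ * h)) * θ c ^ (m + M) := by
    rw [← mul_assoc, ← pow_add, Nat.sub_add_cancel hM', map_mul, map_pow, ← hh, ← ht, mul_pow, pow_add]
    ring
  rw [e]
  exact Ideal.mul_mem_mul (Ideal.mul_mem_left _ _ hM) (Ideal.mem_span_singleton_self _)

/-- An ideal over an affine open of the base which induces `𝓙 * E ^ d` above it. -/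
theorem exists_local_ideal (hb : BlowUp.IsBlowUp b 𝓘) (𝓙 : X'.IdealSheafData)
    (h𝓙 : BlowUp.IsFiniteTypeIdeal 𝓙) [QuasiCompact b] (U : X.affineOpens) (s : Finset Γ(X, U.1))
    (hs : Ideal.span (s : Set Γ(X, U.1)) = 𝓘.ideal U) :
    ∃ N : ℕ, ∀ d, N ≤ d → ∃ L : Ideal Γ(X, U.1), L.FG ∧ L ≤ ((𝓙 * (𝓘.comap b) ^ d).map b).ideal U ∧
      ∀ a (ha : a ∈ s), (𝓙 * (𝓘.comap b) ^ d).ideal ⟨chartOpen 𝓘 U a b,
        isAffineOpen_chartOpen hb (hs ▸ Ideal.subset_span ha)⟩ ≤ L.map (chartHom 𝓘 b U a) := by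
  classical
  have hsI : ∀ i : s, (i : Γ(X, U.1)) ∈ 𝓘.ideal U := fun i => hs ▸ Ideal.subset_span i.2
  let C : s → X'.affineOpens := fun i => ⟨chartOpen 𝓘 U (i : Γ(X, U.1)) b, isAffineOpen_chartOpen hb (hsI i)⟩
  choose G hG using fun i => h𝓙 (C i)
  let ι := Σ i : s, (G i : Finset _)
  have hgmem : ∀ k : ι, (k.2 : Γ(X', (C k.1).1)) ∈ 𝓙.ideal (C k.1) := fun k => hG k.1 ▸ Ideal.subset_span k.2.2
  choose m f hf hgf using fun k : ι => exists_chart_frac hb (hsI k.1) (k.2 : Γ(X', (C k.1).1))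
  choose M₀ hM₀ using fun (k : ι) (i : s) => exists_chart_pow hb 𝓙 (hsI k.1) (hsI i) (hgmem k) (hf k) (hgf k)
  refine ⟨(Finset.univ : Finset (ι × s)).sup (fun p => m p.1 + M₀ p.1 p.2) + (Finset.univ : Finset ι).sup m, fun d hd => ?_⟩
  have hmd : ∀ k, m k ≤ d := fun k =>
    ((Finset.le_sup (f := m) (Finset.mem_univ k)).trans (Nat.le_add_left _ _)).trans hd
  have hMd : ∀ k i, M₀ k i ≤ d - m k := fun k i => by
    have := ((Finset.le_sup (f := fun p : ι × s => m p.1 + M₀ p.1 p.2) (Finset.mem_univ (k, i))).trans (Nat.le_add_right _ _)).trans hd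
    simp only at this
    omega
  let r : ι → Γ(X, U.1) := fun k => f k * (k.1 : Γ(X, U.1)) ^ (d - m k)
  let D := 𝓙 * (𝓘.comap b) ^ d
  have hr : ∀ k, r k ∈ (D.map b).ideal U := fun k => by
    rw [Scheme.IdealSheafData.map, Scheme.Hom.ker_apply, RingHom.mem_ker]
    let g := D.subschemeι ≫ b
    have hcov : g ⁻¹ᵁ U.1 ≤ ⨆ i : s, D.subschemeι ⁻¹ᵁ (C i).1 := fun p hp => by
      have hp' : D.subschemeι p ∈ ⨆ i : s, (C i).1 := by
        show D.subschemeι p ∈ ⨆ i : s, chartOpen 𝓘 U (i : Γ(X, U.1)) b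
        rw [iSup_chartOpen hb s hs]
        exact hp
      obtain ⟨i, hi⟩ := Opens.mem_iSup.1 hp'
      exact Opens.mem_iSup.2 ⟨i, hi⟩
    refine TopCat.Sheaf.eq_of_locally_eq' D.subscheme.sheaf (fun i : s => D.subschemeι ⁻¹ᵁ (C i).1) (g ⁻¹ᵁ U.1)
      (fun i => homOfLE (D.subschemeι.preimage_mono (chartOpen_le_preimage b))) hcov _ _ fun i => ?_
    refine Eq.trans ?_ (map_zero _).symm
    have h1 : r k ∈ ((D.ideal (C i)).comap (chartHom 𝓘 b U i)) := by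
      have := hM₀ k i (d - m k) (hMd k i)
      rwa [Nat.add_sub_cancel' (hmd k)] at this
    rw [Ideal.mem_comap] at h1
    have h2 : D.ideal (C i) = RingHom.ker (D.subschemeι.app (C i).1).hom := by
      rw [← Scheme.Hom.ker_apply, Scheme.IdealSheafData.ker_subschemeι]
    rw [h2, RingHom.mem_ker] at h1
    refine Eq.trans ?_ h1
    show (g.app U.1 ≫ D.subscheme.presheaf.map _).hom (r k) = (b.appLE U.1 (C i).1 _ ≫ D.subschemeι.app (C i).1).hom (r k)
    rw [Scheme.Hom.comp_app, Scheme.Hom.appLE, Category.assoc, Category.assoc, Scheme.Hom.naturality]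
    rfl
  refine ⟨Ideal.span (Set.range r), ⟨Finset.univ.image r, by simp⟩, Ideal.span_le.2 (by rintro _ ⟨k, rfl⟩; exact hr k),
    fun a ha => ?_⟩
  obtain ⟨hn, hE⟩ := ideal_comap_chart hb (hsI ⟨a, ha⟩)
  show D.ideal (C ⟨a, ha⟩) ≤ _
  simp only [D, C, Scheme.IdealSheafData.ideal_mul, Pi.mul_apply, Scheme.IdealSheafData.ideal_pow, Pi.pow_apply]
  rw [hE, Ideal.span_singleton_pow, ← hG ⟨a, ha⟩, Ideal.span_mul_span, Ideal.span_le]
  intro _ hz
  obtain ⟨g, hg, _, rfl, rfl⟩ := Set.mem_mul.1 hz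
  let k : ι := ⟨⟨a, ha⟩, g, hg⟩
  have : chartHom 𝓘 b U a (r k) = g * chartHom 𝓘 b U a a ^ d := by
    rw [map_mul, map_pow, ← hgf k, mul_assoc, ← pow_add, Nat.add_sub_cancel' (hmd k)]
  rw [← this]
  exact Ideal.mem_map_of_mem _ (Ideal.subset_span ⟨k, rfl⟩)

/-- A finite type ideal on the base inducing `𝓙 * E ^ d` on the blow-up. -/
theorem exists_comap_eq [CompactSpace X] [QuasiSeparatedSpace X] (hb : BlowUp.IsBlowUp b 𝓘)
    (h𝓘 : BlowUp.IsFiniteTypeIdeal 𝓘) (𝓙 : X'.IdealSheafData) (h𝓙 : BlowUp.IsFiniteTypeIdeal 𝓙) :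
    ∃ (K : X.IdealSheafData) (d : ℕ), BlowUp.IsFiniteTypeIdeal K ∧ d ≠ 0 ∧
      K.comap b = 𝓙 * (𝓘.comap b) ^ d := by
  classical
  haveI : QuasiCompact b := quasiCompact_of_FG hb h𝓘
  obtain ⟨t, ht⟩ := isCompact_univ.elim_finite_subcover (fun A : X.affineOpens => (A.1 : Set X))
    (fun A => A.1.2) (fun x _ => by
      obtain ⟨V, hV, hxV, -⟩ := exists_isAffineOpen_mem_and_subset (X := X) (U := ⊤) (x := x) trivial
      exact Set.mem_iUnion.2 ⟨⟨V, hV⟩, hxV⟩)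
  choose s hs using fun A : X.affineOpens => h𝓘 A
  choose N hN using fun A : X.affineOpens => exists_local_ideal hb 𝓙 h𝓙 A (s A) (hs A)
  let d := t.sup N + 1
  let D := 𝓙 * (𝓘.comap b) ^ d
  choose L hLfg hLle hLC using fun A : t => hN A.1 d ((Finset.le_sup A.2).trans (Nat.le_succ _))
  choose K hKle hKft hKL using fun A : t => exists_finiteType_le (D.map b) A.1 (L A) (hLfg A) (hLle A)
  refine ⟨Finset.univ.sup K, d, ?_, Nat.succ_ne_zero _, ?_⟩
  · exact Finset.sup_induction (p := fun K : X.IdealSheafData => BlowUp.IsFiniteTypeIdeal K)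
      (fun V => Submodule.fg_bot) (fun _ h₁ _ h₂ V => Submodule.FG.sup (h₁ V) (h₂ V)) fun A _ => hKft A
  · have hle : (Finset.univ.sup K).comap b ≤ D :=
      Scheme.IdealSheafData.le_map_iff_comap_le.1 (Finset.sup_le fun A _ => hKle A)
    refine Scheme.IdealSheafData.ext_of_iSup_eq_top
      (fun p : Σ A : t, (s A.1 : Finset _) => ⟨chartOpen 𝓘 p.1.1 p.2.1 b,
        isAffineOpen_chartOpen hb (hs p.1.1 ▸ Ideal.subset_span p.2.2)⟩) (top_le_iff.1 fun x _ => ?_) fun p => ?_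
    · obtain ⟨A, hA, hxA⟩ := Set.mem_iUnion₂.1 (ht (Set.mem_univ (b x)))
      obtain ⟨a, ha, hxa⟩ := exists_mem_chartOpen hb.1 _ (hs A) x hxA
      exact Opens.mem_iSup.2 ⟨⟨⟨A, hA⟩, a, ha⟩, hxa⟩
    · refine le_antisymm (hle _) ((hLC p.1 p.2.1 p.2.2).trans ?_)
      rw [IdealStalkLib.comap_ideal _ b p.1.1.2 (isAffineOpen_chartOpen hb (hs p.1.1 ▸ Ideal.subset_span p.2.2))
        (chartOpen_le_preimage b)]
      exact Ideal.map_mono ((hKL p.1).trans ((Finset.le_sup (f := K) (Finset.mem_univ p.1)) p.1.1))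

/-- The composite of two blow-ups is a blow-up. -/
theorem exists_isBlowUp_comp [CompactSpace X] [QuasiSeparatedSpace X] {X'' : Scheme.{u}}
    (hb : BlowUp.IsBlowUp b 𝓘) (h𝓘 : BlowUp.IsFiniteTypeIdeal 𝓘)
    (𝓙 : X'.IdealSheafData) (h𝓙 : BlowUp.IsFiniteTypeIdeal 𝓙) {b' : X'' ⟶ X'} (hb' : BlowUp.IsBlowUp b' 𝓙) :
    ∃ 𝓚 : X.IdealSheafData, BlowUp.IsFiniteTypeIdeal 𝓚 ∧
      (𝓚.support : Set X) = (𝓘.support : Set X) ∪ (fun x' => b x') '' (𝓙.support : Set X') ∧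
      BlowUp.IsBlowUp (b' ≫ b) 𝓚 := by
  obtain ⟨K, d, hK, hd, hcomap⟩ := exists_comap_eq hb h𝓘 𝓙 h𝓙
  have hEd : BlowUp.IsEffCartierIdeal ((𝓘.comap b) ^ d) := by
    clear hd hcomap
    induction d with
    | zero => rw [pow_zero, Scheme.IdealSheafData.one_eq_top]; exact BlowCompLib.isEffCartier_top
    | succ n ih => rw [pow_succ]; exact BlowCompLib.isEffCartier_mul ih hb.1
  refine ⟨𝓘 * K, fun V => ?_, ?_, S1683.result 𝓘 K b hb b' (hcomap ▸ S8907.result 𝓙 _ hEd b' hb')⟩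
  · rw [Scheme.IdealSheafData.ideal_mul, Pi.mul_apply]
    exact Submodule.FG.mul (h𝓘 V) (hK V)
  · have hpre : ∀ x' : X', b x' ∈ K.support ↔ x' ∈ 𝓙.support ∨ b x' ∈ 𝓘.support := fun x' => by
      have h : ((K.comap b).support : Set X') = ((𝓙 * (𝓘.comap b) ^ d).support : Set X') := by rw [hcomap]
      rw [Scheme.IdealSheafData.support_comap, Scheme.IdealSheafData.support_mul, Scheme.IdealSheafData.support_pow _ _ hd,
        Scheme.IdealSheafData.support_comap] at h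
      exact Set.ext_iff.1 h x'
    rw [Scheme.IdealSheafData.support_mul, Closeds.coe_sup]
    ext x
    constructor
    · rintro (hx | hx)
      · exact Or.inl hx
      · by_cases hI : x ∈ 𝓘.support
        · exact Or.inl hI
        · haveI := BlowCompLib.isIso_restrict 𝓘 b hb
          obtain ⟨y, hy⟩ := (b ∣_ 𝓘.support.compl).surjective ⟨x, hI⟩
          have hbx : b y.1 = x := by
            rw [← morphismRestrict_base_coe, hy]
          exact Or.inr ⟨y.1, ((hpre y.1).1 (hbx.symm ▸ hx)).resolve_right (hbx.symm ▸ hI), hbx⟩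
    · rintro (hx | ⟨x', hx', rfl⟩)
      · exact Or.inl hx
      · exact Or.inr ((hpre x').2 (Or.inl hx'))

end Groth.Agent.RGBlowLib
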