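import Groth.Agent.RGBlowLib.BaseChange

/-!
# Transport of the torsion quotient to an abstract pushout
-/

set_option autoImplicit false
set_option linter.style.haveILetI false
set_option backward.isDefEq.respectTransparency false
set_option maxHeartbeats 1000000

universe u

open TensorProduct

noncomputable section

namespace Groth.Agent.RGBlowLib

attribute [local instance] Algebra.TensorProduct.rightAlgebra

theorem finitePresentation_of_bijective {E E' G : Type u} [CommRing E] [CommRing E'] [Algebra E E']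
    (h : Function.Bijective (algebraMap E E')) [AddCommGroup G] [Module E G] [Module E' G] [IsScalarTower E E' G]
    [Module.FinitePresentation E G] : Module.FinitePresentation E' G := by
  let i : (E' ⊗[E] G) →ₗ[E'] G := (LinearMap.id : G →ₗ[E] G).liftBaseChange E'
  refine Module.FinitePresentation.of_equiv (LinearEquiv.ofBijective i ⟨(injective_iff_map_eq_zero _).2 ?_, fun x => ⟨1 ⊗ₜ x, by simp [i]⟩⟩)
  have hs : ∀ z : E' ⊗[E] G, ∃ x, z = 1 ⊗ₜ x := by
    intro z
    induction z using TensorProduct.induction_on with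
    | zero => exact ⟨0, by simp⟩
    | tmul e x =>
      obtain ⟨e, rfl⟩ := h.2 e
      exact ⟨e • x, by rw [← smul_tmul, Algebra.algebraMap_eq_smul_one]⟩
    | add x y hx hy =>
      obtain ⟨a, rfl⟩ := hx
      obtain ⟨b, rfl⟩ := hy
      exact ⟨a + b, (tmul_add _ _ _).symm⟩
  intro z hz
  obtain ⟨x, rfl⟩ := hs z
  simp only [i, LinearMap.liftBaseChange_tmul, one_smul, LinearMap.id_apply] at hz
  rw [hz, tmul_zero]

/-- Flatness and finite presentation of a quotient of an abstract base change by power torsion. -/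
theorem flat_fp_of_transport {R B D B' M P G : Type u} [CommRing R] [CommRing B] [CommRing D] [CommRing B']
    [Algebra R B] [Algebra R D] [Algebra B B'] [Algebra D B'] [Algebra R B'] [IsScalarTower R B B']
    [IsScalarTower R D B'] [Algebra.IsPushout R D B B']
    [AddCommGroup M] [Module B M] [Module R M] [IsScalarTower R B M]
    [AddCommGroup P] [Module B' P] [Module B P] [IsScalarTower B B' P]
    (θ : M →ₗ[B] P) (hθ : IsBaseChange B' θ)
    [AddCommGroup G] [Module B' G] [Module D G] [IsScalarTower D B' G] (π : P →ₗ[B'] G) (hπ : Function.Surjective π)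
    (c e : D) (hce : c ∣ e) (hec : ∃ m : ℕ, e ∣ c ^ m)
    (hker : ∀ m, π m = 0 ↔ ∃ n : ℕ, algebraMap D B' e ^ n • m = 0)
    (hfl : Module.Flat D (BC R B M D ⧸ FlatCA.powTorsion (D ⊗[R] B) (algebraMap D (D ⊗[R] B) c) (BC R B M D)))
    (hfp : Module.FinitePresentation (D ⊗[R] B)
      (BC R B M D ⧸ FlatCA.powTorsion (D ⊗[R] B) (algebraMap D (D ⊗[R] B) c) (BC R B M D))) :
    Module.Flat D G ∧ Module.FinitePresentation B' G := by
  let σ : D ⊗[R] B ≃ₐ[D] B' := Algebra.IsPushout.equiv R D B B'
  have hσ : ∀ b : B, σ (algebraMap B (D ⊗[R] B) b) = algebraMap B B' b := fun b =>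
    Algebra.IsPushout.equiv_tmul R D B B' 1 b |>.trans (by simp)
  letI : Algebra (D ⊗[R] B) B' := σ.toRingEquiv.toRingHom.toAlgebra
  letI : Module (D ⊗[R] B) P := Module.compHom P σ.toRingEquiv.toRingHom
  letI : Module (D ⊗[R] B) G := Module.compHom G σ.toRingEquiv.toRingHom
  haveI : IsScalarTower (D ⊗[R] B) B' P := .of_algebraMap_smul fun _ _ => rfl
  haveI : IsScalarTower (D ⊗[R] B) B' G := .of_algebraMap_smul fun _ _ => rfl
  haveI : IsScalarTower B (D ⊗[R] B) P := .of_algebraMap_smul fun b x => by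
    show σ (algebraMap B (D ⊗[R] B) b) • x = b • x
    rw [hσ, algebraMap_smul]
  haveI : IsScalarTower D (D ⊗[R] B) G := .of_algebraMap_smul fun d x => by
    show σ (algebraMap D (D ⊗[R] B) d) • x = d • x
    rw [AlgEquiv.commutes, algebraMap_smul]
  let ψ : BC R B M D →ₗ[D ⊗[R] B] P := θ.liftBaseChange (D ⊗[R] B)
  let σB : (D ⊗[R] B) ≃ₗ[B] B' :=
    { σ.toRingEquiv.toAddEquiv with
      map_smul' := fun b x => by
        show σ (b • x) = b • σ x
        rw [Algebra.smul_def, map_mul, hσ, Algebra.smul_def] }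
  have hψe : ∀ z, ψ z = hθ.equiv (σB.toLinearMap.rTensor M z) := fun z => by
    induction z using TensorProduct.induction_on with
    | zero => simp
    | tmul x m =>
      rw [LinearMap.rTensor_tmul]
      show x • θ m = hθ.equiv (σ x ⊗ₜ m)
      rw [IsBaseChange.equiv_tmul]
      rfl
    | add x y hx hy => rw [map_add, map_add, map_add, hx, hy]
  have hψ : Function.Bijective ψ := by
    have : ⇑ψ = hθ.equiv ∘ σB.toLinearMap.rTensor M := funext hψe
    rw [this]
    exact hθ.equiv.bijective.comp (LinearEquiv.rTensor M σB).bijective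
  have hsm : ∀ (d : D) (n : ℕ) (y : P), algebraMap D (D ⊗[R] B) d ^ n • y = algebraMap D B' d ^ n • y := fun d n y => by
    show σ (algebraMap D (D ⊗[R] B) d ^ n) • y = _
    rw [map_pow, AlgEquiv.commutes]
  have hk : ∀ z, π (ψ z) = 0 ↔
      z ∈ FlatCA.powTorsion (D ⊗[R] B) (algebraMap D (D ⊗[R] B) c) (BC R B M D) := by
    intro z
    rw [hker, mem_powTorsion]
    constructor
    · rintro ⟨n, hn⟩
      obtain ⟨m, t, ht⟩ := hec
      refine ⟨m * n, hψ.1 ?_⟩
      rw [map_smul, map_zero, hsm, pow_mul, ← map_pow, ht, map_mul, mul_pow, mul_comm, mul_smul, hn, smul_zero]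
    · rintro ⟨n, hn⟩
      obtain ⟨t, rfl⟩ := hce
      refine ⟨n, ?_⟩
      rw [map_mul, mul_pow, mul_comm, mul_smul, ← hsm c, ← map_smul, hn, map_zero, smul_zero]
  let πE : P →ₗ[D ⊗[R] B] G := π.restrictScalars (D ⊗[R] B)
  let q := (FlatCA.powTorsion (D ⊗[R] B) (algebraMap D (D ⊗[R] B) c) (BC R B M D)).liftQ (πE.comp ψ)
    fun z hz => (hk z).2 hz
  let eqv := LinearEquiv.ofBijective q ⟨(injective_iff_map_eq_zero _).2 fun y hy => by
      obtain ⟨z, rfl⟩ := Submodule.Quotient.mk_surjective _ y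
      exact (Submodule.Quotient.mk_eq_zero _).2 ((hk z).1 hy), fun y => by
      obtain ⟨p, rfl⟩ := hπ y
      obtain ⟨z, rfl⟩ := hψ.2 p
      exact ⟨Submodule.Quotient.mk z, rfl⟩⟩
  haveI := hfl
  haveI := hfp
  haveI : Module.FinitePresentation (D ⊗[R] B) G := Module.FinitePresentation.of_equiv eqv
  exact ⟨Module.Flat.of_linearEquiv (eqv.restrictScalars D).symm,
    finitePresentation_of_bijective (E := D ⊗[R] B) σ.bijective⟩

end Groth.Agent.RGBlowLib
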