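import Groth.Agent.RGBlowLib.Affine
import Groth.Agent.RGBlowLib.Transport
import Groth.Agent.PullbackMod.Props
import Groth.Agent.QCohLib.FiniteType
import Groth.Agent.QCohLib.FPSections
import Groth.Agent.FlatModLib.Affine
import Groth.Agent.IdealStalkLib.Comap
import Groth.Agent.S8857
import Groth.Prelude.Def_CohB1

/-!
# The ideal of one affine chart
-/

set_option autoImplicit false
set_option linter.style.haveILetI false
set_option backward.isDefEq.respectTransparency false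
set_option maxHeartbeats 1000000

universe u

open CategoryTheory CategoryTheory.Limits AlgebraicGeometry TopologicalSpace TensorProduct

noncomputable section

namespace Groth.Agent.RGBlowLib

attribute [local instance] Algebra.TensorProduct.rightAlgebra

variable {X S : Scheme.{u}}

theorem finitePresentation_sections_of_restrict (F : X.Modules) [Coh.IsQCoh F] (O : X.Opens)
    (hO : CohB1.IsFP ((Scheme.Modules.pullback O.ι).obj F)) {W : X.Opens} (hW : IsAffineOpen W) (hWO : W ≤ O) :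
    Module.FinitePresentation Γ(X, W) Γ(F, W) := by
  let W' : (O : Scheme.{u}).Opens := O.ι ⁻¹ᵁ W
  have hW' : IsAffineOpen W' := hW.preimage_of_isOpenImmersion O.ι (by rwa [Scheme.Opens.opensRange_ι])
  haveI := PullbackMod.isQCoh_pullback O.ι F
  have hbij : Function.Bijective (O.ι.appLE W W' le_rfl).hom := by
    have : IsIso (O.ι.appLE W W' le_rfl) := by
      rw [← Scheme.Hom.app_eq_appLE]
      exact O.ι.isIso_app W (by rwa [Scheme.Opens.opensRange_ι])
    exact ConcreteCategory.bijective_of_isIso (O.ι.appLE W W' le_rfl)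
  letI : Algebra Γ(X, W) Γ(O, W') := (O.ι.appLE W W' le_rfl).hom.toAlgebra
  let N := (Scheme.Modules.pullback O.ι).obj F
  letI : Module Γ(X, W) Γ(N, W') := Module.compHom _ (O.ι.appLE W W' le_rfl).hom
  haveI : IsScalarTower Γ(X, W) Γ(O, W') Γ(N, W') := .of_algebraMap_smul fun _ _ => rfl
  haveI : Module.FinitePresentation Γ(O, W') Γ(N, W') := QCohLib.finitePresentation_sections N hO hW'
  have hb : IsBaseChange Γ(O, W') (PullbackMod.pullMapL O.ι F le_rfl) :=
    PullbackMod.isBaseChange_pullMapL O.ι F hW hW' le_rfl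
  haveI : Module.FinitePresentation Γ(X, W) Γ(O, W') :=
    Module.FinitePresentation.of_equiv (LinearEquiv.ofBijective (Algebra.linearMap Γ(X, W) Γ(O, W')) hbij)
  haveI : Module.FinitePresentation Γ(X, W) Γ(N, W') :=
    Module.FinitePresentation.trans Γ(X, W) Γ(N, W') Γ(O, W')
  haveI : Module.FinitePresentation Γ(X, W) (Γ(O, W') ⊗[Γ(X, W)] Γ(F, W)) :=
    Module.FinitePresentation.of_equiv (hb.equiv.restrictScalars Γ(X, W)).symm
  exact Module.FinitePresentation.of_equiv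
    (((LinearEquiv.ofBijective (Algebra.linearMap Γ(X, W) Γ(O, W')) hbij).symm.rTensor Γ(F, W)).trans
      (TensorProduct.lid _ _))

/-- The hypotheses on a basic open inside `U`, read on the localised module of sections. -/
theorem localized_hyp (f : X ⟶ S) (F : X.Modules) [Coh.IsQCoh F] {U V : S.Opens} (hV : IsAffineOpen V)
    {W : X.Opens} (hW : IsAffineOpen W) (e : W ≤ f ⁻¹ᵁ V)
    (hfpU : CohB1.IsFP ((Scheme.Modules.pullback (f ⁻¹ᵁ U).ι).obj F))
    (hflU : ∀ x : X, f.base x ∈ U → FlatMod.IsFlatOverAt f F x) (a : Γ(S, V)) (ha : S.basicOpen a ≤ U) :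
    letI := (f.appLE V W e).hom.toAlgebra
    letI := Module.compHom Γ(F, W) (f.appLE V W e).hom
    Module.FinitePresentation (Localization.Away (algebraMap Γ(S, V) Γ(X, W) a))
      (LocalizedModule (Submonoid.powers (algebraMap Γ(S, V) Γ(X, W) a)) Γ(F, W)) ∧
      Module.Flat Γ(S, V) (LocalizedModule (Submonoid.powers a) Γ(F, W)) := by
  let φ := f.appLE V W e
  letI : Algebra Γ(S, V) Γ(X, W) := φ.hom.toAlgebra
  letI : Module Γ(S, V) Γ(F, W) := Module.compHom Γ(F, W) φ.hom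
  haveI : IsScalarTower Γ(S, V) Γ(X, W) Γ(F, W) := .of_algebraMap_smul fun _ _ => rfl
  let b : Γ(X, W) := algebraMap Γ(S, V) Γ(X, W) a
  let Wb := X.basicOpen b
  have hWb : IsAffineOpen Wb := hW.basicOpen b
  have hle : Wb ≤ f ⁻¹ᵁ U := fun x hx => by
    have : x ∈ f ⁻¹ᵁ S.basicOpen a := by
      have h1 : Wb = W ⊓ f ⁻¹ᵁ S.basicOpen a := by
        simp only [Wb, b, RingHom.algebraMap_toAlgebra, φ, Scheme.basicOpen_appLE]
      exact (h1 ▸ hx : x ∈ W ⊓ f ⁻¹ᵁ S.basicOpen a).2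
    exact ha this
  obtain ⟨r, hr⟩ := QCohLib.exists_isLocalizedModule_res F hW b
  letI : Module Γ(X, W) Γ(F, Wb) := Module.compHom _ (X.presheaf.map (homOfLE (X.basicOpen_le b)).op).hom
  letI : Algebra Γ(X, W) Γ(X, Wb) := (X.presheaf.map (homOfLE (X.basicOpen_le b)).op).hom.toAlgebra
  haveI : IsScalarTower Γ(X, W) Γ(X, Wb) Γ(F, Wb) := .of_algebraMap_smul fun _ _ => rfl
  haveI : IsLocalization.Away b Γ(X, Wb) := hW.isLocalization_basicOpen b
  haveI := hr
  refine ⟨?_, ?_⟩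
  · haveI := finitePresentation_sections_of_restrict F (f ⁻¹ᵁ U) hfpU hWb hle
    let ε : Γ(X, Wb) ≃ₐ[Γ(X, W)] Localization.Away b :=
      IsLocalization.algEquiv (Submonoid.powers b) _ _
    letI : Algebra Γ(X, Wb) (Localization.Away b) := ε.toAlgHom.toRingHom.toAlgebra
    letI : Module (Localization.Away b) Γ(F, Wb) := Module.compHom _ ε.symm.toAlgHom.toRingHom
    haveI : IsScalarTower Γ(X, Wb) (Localization.Away b) Γ(F, Wb) := .of_algebraMap_smul fun x m => by
      show ε.symm (ε x) • m = x • m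
      rw [AlgEquiv.symm_apply_apply]
    haveI : IsScalarTower Γ(X, W) (Localization.Away b) Γ(F, Wb) := .of_algebraMap_smul fun x m => by
      show ε.symm (algebraMap _ (Localization.Away b) x) • m = x • m
      rw [AlgEquiv.commutes, algebraMap_smul]
    haveI : Module.FinitePresentation (Localization.Away b) Γ(F, Wb) :=
      finitePresentation_of_bijective (E := Γ(X, Wb)) ε.bijective
    exact Module.FinitePresentation.of_equiv
      ((IsLocalizedModule.iso (Submonoid.powers b) r).extendScalarsOfIsLocalization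
        (Submonoid.powers b) (Localization.Away b)).symm
  · have hV' : Wb ≤ f ⁻¹ᵁ V := (X.basicOpen_le b).trans e
    haveI hfl : FlatModLib.SecFlat f F Wb V hV' :=
      FlatModLib.secFlat_of_isFlatOver f F hWb hV hV' fun x hx => hflU x (hle hx)
    letI : Module Γ(S, V) Γ(F, Wb) := Module.compHom _ (f.appLE V Wb hV').hom
    haveI : Module.Flat Γ(S, V) Γ(F, Wb) := hfl
    haveI : IsScalarTower Γ(S, V) Γ(X, W) Γ(F, Wb) := .of_algebraMap_smul fun x m => by
      show (X.presheaf.map (homOfLE (X.basicOpen_le b)).op).hom ((f.appLE V W e).hom x) • m =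
        (f.appLE V Wb hV').hom x • m
      rw [← CommRingCat.comp_apply, Scheme.Hom.appLE_map]
    haveI : IsLocalizedModule (Submonoid.powers a) (r.restrictScalars Γ(S, V)) := by
      refine IsLocalizedModule.Away.mk_of_addCommGroup ?_ (fun y => ?_) (fun s hs => ?_)
      · refine (Module.End.isUnit_iff _).mpr ?_
        have h := (Module.End.isUnit_iff _).mp (IsLocalizedModule.map_units r ⟨b, Submonoid.mem_powers b⟩)
        refine Function.Bijective.of_comp_iff' (Function.bijective_id) _ |>.1 ?_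
        convert h using 1
        funext m
        exact (algebraMap_smul Γ(X, W) a m).symm
      · obtain ⟨⟨x, ⟨_, n, rfl⟩⟩, hx⟩ := IsLocalizedModule.surj (Submonoid.powers b) r y
        refine ⟨n, x, ?_⟩
        rw [← algebraMap_smul Γ(X, W) (a ^ n) y, map_pow]
        exact hx
      · obtain ⟨⟨_, n, rfl⟩, hn⟩ := (IsLocalizedModule.eq_zero_iff (Submonoid.powers b) r).1 hs
        refine ⟨n, ?_⟩
        rw [← algebraMap_smul Γ(X, W) (a ^ n) s, map_pow]
        exact hn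
    exact Module.Flat.of_linearEquiv (IsLocalizedModule.iso (Submonoid.powers a) (r.restrictScalars Γ(S, V)))

/-- An ideal attached to finitely many basic opens inside `U`, spread out to an admissible ideal sheaf. -/
theorem exists_spread [CompactSpace S] [QuasiSeparatedSpace S] (U : S.Opens) (hU : IsCompact (U : Set S))
    {V : S.Opens} (hV : IsAffineOpen V) (Q : Ideal Γ(S, V) → Prop)
    (h : ∀ (n : ℕ) (a : Fin n → Γ(S, V)), (∀ i, S.basicOpen (a i) ≤ U) →
      ∃ T : Ideal Γ(S, V), T.FG ∧ T.radical = (Ideal.span (Set.range a)).radical ∧ Q T) :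
    ∃ 𝓙 : S.IdealSheafData, BlowUp.IsAdmissibleFor U 𝓙 ∧
      (∀ 𝓘 : S.IdealSheafData, BlowUp.IsAdmissibleFor U 𝓘 → ∃ m : ℕ, 𝓙.ideal ⟨V, hV⟩ ^ m ≤ 𝓘.ideal ⟨V, hV⟩) ∧
      Q (𝓙.ideal ⟨V, hV⟩) := by
  classical
  -- finitely many basic opens covering `U ⊓ V`
  have hUV : IsCompact ((U ⊓ V : S.Opens) : Set S) := hU.inter_of_isOpen hV.isCompact U.isOpen V.isOpen
  choose r hr hxr using fun x : (U ⊓ V : S.Opens) => hV.exists_basicOpen_le (V := U) ⟨x.1, x.2.1⟩ x.2.2
  obtain ⟨s, hs⟩ := hUV.elim_finite_subcover (fun x => (S.basicOpen (r x) : Set S))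
    (fun x => (S.basicOpen (r x)).isOpen) fun x hx => Set.mem_iUnion.2 ⟨⟨x, hx⟩, hxr ⟨x, hx⟩⟩
  let a : Fin s.card → Γ(S, V) := fun i => r (s.equivFin.symm i).1
  have haU : ∀ i, S.basicOpen (a i) ≤ U := fun i => hr _
  obtain ⟨T, hTfg, hTrad, hT⟩ := h s.card a haU
  -- spread `T` out to an ideal sheaf on `S`
  haveI : IsAffine V := hV
  let T₀ : Ideal Γ(V, ⊤) := T.map V.topIso.inv.hom
  let 𝓘₀ : (V : Scheme.{u}).IdealSheafData := Scheme.IdealSheafData.ofIdealTop T₀
  have h2 : V.ι.appLE V ⊤ (fun y _ => y.2) = V.topIso.inv := by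
    simp [Scheme.Hom.appLE, Scheme.Opens.ι_app, ← Functor.map_comp]; rfl
  have hadm : BlowUp.IsAdmissibleFor (V.ι ⁻¹ᵁ U) 𝓘₀ := by
    refine ⟨fun O => ?_, ?_⟩
    · rw [Scheme.IdealSheafData.ofIdealTop_ideal]
      exact Ideal.FG.map (Ideal.FG.map hTfg _) _
    · rw [Scheme.IdealSheafData.coe_support_ofIdealTop, Set.disjoint_left]
      intro y hy hyU
      obtain ⟨x, hx, hyx⟩ := Set.mem_iUnion₂.1 (hs (show V.ι y ∈ U ⊓ V from ⟨hyU, y.2⟩))
      let i := s.equivFin ⟨x, hx⟩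
      have hai : a i = r x := by simp [a, i]
      obtain ⟨m, hm⟩ : a i ∈ T.radical := hTrad.ge (Ideal.le_radical (Ideal.subset_span ⟨i, rfl⟩))
      have h1 := (Scheme.mem_zeroLocus_iff _ _ _).1 hy (V.topIso.inv.hom (a i ^ m)) (Ideal.mem_map_of_mem _ hm)
      refine h1 ?_
      rw [map_pow]
      have hy' : y ∈ (V : Scheme.{u}).basicOpen (V.topIso.inv.hom (a i)) := by
        rw [hai]
        rw [show (V : Scheme.{u}).basicOpen (V.topIso.inv.hom (r x)) = ⊤ ⊓ V.ι ⁻¹ᵁ S.basicOpen (r x) by rw [← h2]; exact Scheme.basicOpen_appLE V.ι _ _ _ _, top_inf_eq]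
        exact hyx
      rcases eq_or_ne m 0 with rfl | hm0
      · simpa using Scheme.basicOpen_one_eq_top (V : Scheme.{u}) ▸ trivial
      · rwa [Scheme.basicOpen_pow _ _ (Nat.pos_of_ne_zero hm0)]
  obtain ⟨𝓙, h𝓙, hcomap, -⟩ := S8857.result S U V hU hV.isCompact 𝓘₀ hadm
  have hideal : 𝓙.ideal ⟨V, hV⟩ = T := by
    have h1 := IdealStalkLib.comap_ideal 𝓙 V.ι hV (isAffineOpen_top (V : Scheme.{u}))
      (show (⊤ : (V : Scheme.{u}).Opens) ≤ V.ι ⁻¹ᵁ V from fun y _ => y.2)
    rw [hcomap, Scheme.IdealSheafData.ofIdealTop_ideal] at h1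
    rw [h2] at h1
    have h3 : T₀ = (𝓙.ideal ⟨V, hV⟩).map V.topIso.inv.hom := by
      rw [← h1]
      exact (Ideal.map_id _).symm.trans (by congr 1; simp; rfl)
    have hb := ConcreteCategory.bijective_of_isIso V.topIso.inv
    calc 𝓙.ideal ⟨V, hV⟩ = ((𝓙.ideal ⟨V, hV⟩).map V.topIso.inv.hom).comap V.topIso.inv.hom :=
          (Ideal.comap_map_of_bijective _ hb).symm
      _ = (T.map V.topIso.inv.hom).comap V.topIso.inv.hom := by rw [← h3]
      _ = T := Ideal.comap_map_of_bijective _ hb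
  refine ⟨𝓙, h𝓙, fun 𝓘 h𝓘 => ?_, hideal ▸ hT⟩
  have hsub : T.radical ≤ (𝓘.ideal ⟨V, hV⟩).radical := by
    rw [hTrad, Ideal.radical_le_radical_iff, Ideal.span_le]
    rintro _ ⟨i, rfl⟩
    rw [SetLike.mem_coe, Ideal.radical_eq_sInf, Ideal.mem_sInf]
    rintro p ⟨hp, hpp⟩
    by_contra hai
    let y := hV.fromSpec ⟨p, hpp⟩
    have hyb : y ∈ S.basicOpen (a i) := by
      rw [← Scheme.Hom.mem_preimage, hV.fromSpec_preimage_basicOpen]
      exact hai
    refine Set.disjoint_left.1 h𝓘.2 ?_ (haU i hyb)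
    have hyV : y ∈ V := S.basicOpen_le _ hyb
    rw [SetLike.mem_coe, Scheme.IdealSheafData.mem_support_iff_of_mem (U := ⟨V, hV⟩) hyV, Scheme.mem_zeroLocus_iff]
    intro z hz hyz
    rw [← Scheme.Hom.mem_preimage, hV.fromSpec_preimage_basicOpen] at hyz
    exact hyz (hp hz)
  exact hideal ▸ Ideal.exists_pow_le_of_le_radical_of_fg (Ideal.le_radical.trans hsub) hTfg


/-- The flattening ideal of a chart, as an ideal sheaf on the base. -/
theorem exists_chart_sheaf [CompactSpace S] [QuasiSeparatedSpace S] (f : X ⟶ S) [LocallyOfFinitePresentation f]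
    (U : S.Opens) (hU : IsCompact (U : Set S)) (F : X.Modules) [Coh.IsQCoh F] (hft : CohB1.IsFT F)
    (hfpU : CohB1.IsFP ((Scheme.Modules.pullback (f ⁻¹ᵁ U).ι).obj F))
    (hflU : ∀ x : X, f.base x ∈ U → FlatMod.IsFlatOverAt f F x)
    {V : S.Opens} (hV : IsAffineOpen V) {W : X.Opens} (hW : IsAffineOpen W) (e : W ≤ f ⁻¹ᵁ V) :
    ∃ 𝓙 : S.IdealSheafData, BlowUp.IsAdmissibleFor U 𝓙 ∧
      (∀ 𝓘 : S.IdealSheafData, BlowUp.IsAdmissibleFor U 𝓘 → ∃ m : ℕ, 𝓙.ideal ⟨V, hV⟩ ^ m ≤ 𝓘.ideal ⟨V, hV⟩) ∧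
      (letI := (f.appLE V W e).hom.toAlgebra
      letI := Module.compHom Γ(F, W) (f.appLE V W e).hom
      haveI : IsScalarTower Γ(S, V) Γ(X, W) Γ(F, W) := .of_algebraMap_smul fun _ _ => rfl
      ∀ (D : Type u) [CommRing D] [Algebra Γ(S, V) D] (c : D), c ∈ nonZeroDivisors D →
        (𝓙.ideal ⟨V, hV⟩).map (algebraMap Γ(S, V) D) = Ideal.span {c} →
        ∀ (q : Ideal D) [q.IsPrime], ∃ g ∉ q,
          ∀ (D' : Type u) [CommRing D'] [Algebra D D'] [Algebra Γ(S, V) D'] [IsScalarTower Γ(S, V) D D']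
            [IsLocalization.Away g D'],
            Module.Flat D' (BC Γ(S, V) Γ(X, W) Γ(F, W) D' ⧸
              FlatCA.powTorsion (D' ⊗[Γ(S, V)] Γ(X, W))
                (algebraMap D' (D' ⊗[Γ(S, V)] Γ(X, W)) (algebraMap D D' c)) (BC Γ(S, V) Γ(X, W) Γ(F, W) D')) ∧
            Module.FinitePresentation (D' ⊗[Γ(S, V)] Γ(X, W)) (BC Γ(S, V) Γ(X, W) Γ(F, W) D' ⧸
              FlatCA.powTorsion (D' ⊗[Γ(S, V)] Γ(X, W))
                (algebraMap D' (D' ⊗[Γ(S, V)] Γ(X, W)) (algebraMap D D' c)) (BC Γ(S, V) Γ(X, W) Γ(F, W) D'))) := by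
  classical
  letI : Algebra Γ(S, V) Γ(X, W) := (f.appLE V W e).hom.toAlgebra
  letI : Module Γ(S, V) Γ(F, W) := Module.compHom Γ(F, W) (f.appLE V W e).hom
  haveI : IsScalarTower Γ(S, V) Γ(X, W) Γ(F, W) := .of_algebraMap_smul fun _ _ => rfl
  haveI : Algebra.FinitePresentation Γ(S, V) Γ(X, W) := f.finitePresentation_appLE hV hW e
  haveI : Module.Finite Γ(X, W) Γ(F, W) := QCohLib.finite_sections F hft hW
  obtain ⟨𝓙, h1, h2, h3⟩ := exists_spread U hU hV (Q := fun T => ∀ (D : Type u) [CommRing D] [Algebra Γ(S, V) D] (c : D),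
      c ∈ nonZeroDivisors D → T.map (algebraMap Γ(S, V) D) = Ideal.span {c} →
        ∀ (q : Ideal D) [q.IsPrime], ∃ g ∉ q,
          ∀ (D' : Type u) [CommRing D'] [Algebra D D'] [Algebra Γ(S, V) D'] [IsScalarTower Γ(S, V) D D']
            [IsLocalization.Away g D'],
            Module.Flat D' (BC Γ(S, V) Γ(X, W) Γ(F, W) D' ⧸
              FlatCA.powTorsion (D' ⊗[Γ(S, V)] Γ(X, W))
                (algebraMap D' (D' ⊗[Γ(S, V)] Γ(X, W)) (algebraMap D D' c)) (BC Γ(S, V) Γ(X, W) Γ(F, W) D')) ∧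
            Module.FinitePresentation (D' ⊗[Γ(S, V)] Γ(X, W)) (BC Γ(S, V) Γ(X, W) Γ(F, W) D' ⧸
              FlatCA.powTorsion (D' ⊗[Γ(S, V)] Γ(X, W))
                (algebraMap D' (D' ⊗[Γ(S, V)] Γ(X, W)) (algebraMap D D' c)) (BC Γ(S, V) Γ(X, W) Γ(F, W) D')))
    fun n a haU => exists_ideal (R := Γ(S, V)) (B := Γ(X, W)) (M := Γ(F, W)) a
      (fun i => (localized_hyp f F hV hW e hfpU hflU (a i) (haU i)).1)
      (fun i => (localized_hyp f F hV hW e hfpU hflU (a i) (haU i)).2)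
  exact ⟨𝓙, h1, h2, h3⟩

end Groth.Agent.RGBlowLib
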