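import Groth.Agent.RGBlowLib.Chart
import Groth.Agent.RGBlowLib.Sheaf
import Groth.Agent.BlowCompLib.Compose

/-!
# The strict transform near a point
-/

set_option autoImplicit false
set_option linter.style.haveILetI false
set_option backward.isDefEq.respectTransparency false
set_option maxHeartbeats 1000000

universe u

open CategoryTheory CategoryTheory.Limits AlgebraicGeometry TopologicalSpace TensorProduct

noncomputable section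

namespace Groth.Agent.RGBlowLib

attribute [local instance] Algebra.TensorProduct.rightAlgebra

variable {X S X' S' : Scheme.{u}}

theorem ideal_basicOpen_span (E : X.IdealSheafData) {U : X.Opens} (hU : IsAffineOpen U) {c : Γ(X, U)}
    (hc : c ∈ nonZeroDivisors Γ(X, U)) (h : E.ideal ⟨U, hU⟩ = Ideal.span {c}) (g : Γ(X, U)) :
    (X.presheaf.map (homOfLE (X.basicOpen_le g)).op c) ∈ nonZeroDivisors Γ(X, X.basicOpen g) ∧
      E.ideal ⟨X.basicOpen g, hU.basicOpen g⟩ = Ideal.span {X.presheaf.map (homOfLE (X.basicOpen_le g)).op c} := by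
  refine ⟨?_, ?_⟩
  · letI : Algebra Γ(X, U) Γ(X, X.basicOpen g) := (X.presheaf.map (homOfLE (X.basicOpen_le g)).op).hom.toAlgebra
    haveI : IsLocalization.Away g Γ(X, X.basicOpen g) := hU.isLocalization_basicOpen g
    exact IsLocalization.map_nonZeroDivisors_le (Submonoid.powers g) Γ(X, X.basicOpen g) ⟨c, hc, rfl⟩
  · rw [← E.map_ideal (U := ⟨X.basicOpen g, hU.basicOpen g⟩) (V := ⟨U, hU⟩) (X.basicOpen_le g), h, Ideal.map_span,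
      Set.image_singleton]
    rfl

theorem exists_common_gen {A B : X.IdealSheafData} (hA : BlowUp.IsEffCartierIdeal A) (hB : BlowUp.IsEffCartierIdeal B)
    {x : X} {O : X.Opens} (hx : x ∈ O) :
    ∃ (Ω : X.Opens) (hΩ : IsAffineOpen Ω), x ∈ Ω ∧ Ω ≤ O ∧
      ∃ a c : Γ(X, Ω), a ∈ nonZeroDivisors Γ(X, Ω) ∧ c ∈ nonZeroDivisors Γ(X, Ω) ∧
        A.ideal ⟨Ω, hΩ⟩ = Ideal.span {a} ∧ B.ideal ⟨Ω, hΩ⟩ = Ideal.span {c} := by
  obtain ⟨⟨U₁, hU₁⟩, hx₁, a₁, ha₁, hA₁⟩ := hA x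
  obtain ⟨⟨U₂, hU₂⟩, hx₂, c₂, hc₂, hB₂⟩ := hB x
  obtain ⟨f, g, hfg, hxf⟩ := exists_basicOpen_le_affine_inter hU₁ hU₂ x ⟨hx₁, hx₂⟩
  obtain ⟨ha₃, hA₃⟩ := ideal_basicOpen_span A hU₁ ha₁ hA₁ f
  obtain ⟨hc₃, hB₃⟩ := ideal_basicOpen_span B hU₂ hc₂ hB₂ g
  generalize X.presheaf.map (homOfLE (X.basicOpen_le g)).op c₂ = c₃ at hc₃ hB₃
  revert c₃
  generalize hU₂.basicOpen g = p
  revert p
  rw [← hfg]
  intro p c₃ hc₃ hB₃
  obtain ⟨h, hhO, hxh⟩ := (hU₁.basicOpen f).exists_basicOpen_le (V := O) ⟨x, hx⟩ hxf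
  obtain ⟨ha₄, hA₄⟩ := ideal_basicOpen_span A (hU₁.basicOpen f) ha₃ hA₃ h
  obtain ⟨hc₄, hB₄⟩ := ideal_basicOpen_span B (hU₁.basicOpen f) hc₃ hB₃ h
  exact ⟨_, (hU₁.basicOpen f).basicOpen h, hxh, hhO, _, _, ha₄, hc₄, hA₄, hB₄⟩

theorem local_good (f : X ⟶ S) (F : X.Modules) [Coh.IsQCoh F] {V : S.Opens} (hV : IsAffineOpen V) {W : X.Opens}
    (hW : IsAffineOpen W) (e : W ≤ f ⁻¹ᵁ V) (𝓙 𝓘 : S.IdealSheafData)
    (hle : 𝓘.ideal ⟨V, hV⟩ ≤ 𝓙.ideal ⟨V, hV⟩) (hpow : ∃ m : ℕ, 𝓙.ideal ⟨V, hV⟩ ^ m ≤ 𝓘.ideal ⟨V, hV⟩)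
    (hT : letI := (f.appLE V W e).hom.toAlgebra
      letI := Module.compHom Γ(F, W) (f.appLE V W e).hom
      haveI : IsScalarTower Γ(S, V) Γ(X, W) Γ(F, W) := .of_algebraMap_smul fun _ _ => rfl
      ∀ (D : Type u) [CommRing D] [Algebra Γ(S, V) D] (c : D), c ∈ nonZeroDivisors D →
        (𝓙.ideal ⟨V, hV⟩).map (algebraMap Γ(S, V) D) = Ideal.span {c} →
        ∀ (q : Ideal D) [q.IsPrime], ∃ g ∉ q,
          ∀ (D' : Type u) [CommRing D'] [Algebra D D'] [Algebra Γ(S, V) D'] [IsScalarTower Γ(S, V) D D']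
            [IsLocalization.Away g D'],
            Module.Flat D' (BC Γ(S, V) Γ(X, W) Γ(F, W) D' ⧸
              FlatCA.powTorsion (D' ⊗[Γ(S, V)] Γ(X, W))
                (algebraMap D' (D' ⊗[Γ(S, V)] Γ(X, W)) (algebraMap D D' c)) (BC Γ(S, V) Γ(X, W) Γ(F, W) D')) ∧
            Module.FinitePresentation (D' ⊗[Γ(S, V)] Γ(X, W)) (BC Γ(S, V) Γ(X, W) Γ(F, W) D' ⧸
              FlatCA.powTorsion (D' ⊗[Γ(S, V)] Γ(X, W))
                (algebraMap D' (D' ⊗[Γ(S, V)] Γ(X, W)) (algebraMap D D' c)) (BC Γ(S, V) Γ(X, W) Γ(F, W) D')))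
    (b : S' ⟶ S) (h𝓘 : BlowUp.IsEffCartierIdeal (𝓘.comap b)) (h𝓙 : BlowUp.IsEffCartierIdeal (𝓙.comap b))
    (p₁ : X' ⟶ X) (p₂ : X' ⟶ S') (hc : IsPullback p₁ p₂ f b) (G : X'.Modules) [Coh.IsQCoh G]
    (π : (Scheme.Modules.pullback p₁).obj F ⟶ G) (hπ : ∀ O : X'.Opens, IsAffineOpen O → Function.Surjective (π.app O))
    (hker : ∀ (O : X'.affineOpens) (m : ((Scheme.Modules.pullback p₁).obj F).presheaf.obj (Opposite.op O.1)),
      π.app O.1 m = 0 ↔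
        BlowUp.KilledByPowerNear ((𝓘.comap f).comap p₁) ((Scheme.Modules.pullback p₁).obj F) O m)
    (x' : X') (hx' : p₁ x' ∈ W) :
    ∃ W' : X'.Opens, IsAffineOpen W' ∧ x' ∈ W' ∧ Module.FinitePresentation Γ(X', W') Γ(G, W') ∧
      FlatMod.IsFlatOverAt p₂ G x' := by
  letI : Algebra Γ(S, V) Γ(X, W) := (f.appLE V W e).hom.toAlgebra
  letI : Module Γ(S, V) Γ(F, W) := Module.compHom Γ(F, W) (f.appLE V W e).hom
  haveI : IsScalarTower Γ(S, V) Γ(X, W) Γ(F, W) := .of_algebraMap_smul fun _ _ => rfl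
  let s := p₂ x'
  have hsV : b s ∈ V := by
    have h : f (p₁ x') ∈ V := e hx'
    rwa [← Scheme.Hom.comp_apply, hc.w, Scheme.Hom.comp_apply] at h
  obtain ⟨Ω, hΩ, hsΩ, hΩV, ε, c, -, hcn, hεI, hcJ⟩ := exists_common_gen h𝓘 h𝓙 (O := b ⁻¹ᵁ V) hsV
  letI : Algebra Γ(S, V) Γ(S', Ω) := (b.appLE V Ω hΩV).hom.toAlgebra
  have hJD : (𝓙.ideal ⟨V, hV⟩).map (algebraMap Γ(S, V) Γ(S', Ω)) = Ideal.span {c} :=
    (IdealStalkLib.comap_ideal 𝓙 b hV hΩ hΩV).symm.trans hcJ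
  have hID : (𝓘.ideal ⟨V, hV⟩).map (algebraMap Γ(S, V) Γ(S', Ω)) = Ideal.span {ε} :=
    (IdealStalkLib.comap_ideal 𝓘 b hV hΩ hΩV).symm.trans hεI
  have hcε : c ∣ ε := by
    rw [← Ideal.mem_span_singleton, ← hJD]
    exact Ideal.map_mono hle (hID.ge (Ideal.mem_span_singleton_self ε))
  have hεc : ∃ m : ℕ, ε ∣ c ^ m := by
    obtain ⟨m, hm⟩ := hpow
    refine ⟨m, ?_⟩
    have h := Ideal.map_mono (f := algebraMap Γ(S, V) Γ(S', Ω)) hm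
    rw [Ideal.map_pow, hJD, hID, Ideal.span_singleton_pow, Ideal.span_singleton_le_iff_mem,
      Ideal.mem_span_singleton] at h
    exact h
  obtain ⟨g, hgq, hg⟩ := hT Γ(S', Ω) c hcn hJD (hΩ.primeIdealOf ⟨s, hsΩ⟩).asIdeal
  let Ω' := S'.basicOpen g
  have hΩ' : IsAffineOpen Ω' := hΩ.basicOpen g
  have hsΩ' : s ∈ Ω' := by
    have h := hΩ.fromSpec_preimage_basicOpen g
    have h2 : hΩ.primeIdealOf ⟨s, hsΩ⟩ ∈ hΩ.fromSpec ⁻¹ᵁ S'.basicOpen g := by rw [h]; exact hgq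
    rw [Scheme.Hom.mem_preimage, hΩ.fromSpec_primeIdealOf ⟨s, hsΩ⟩] at h2
    exact h2
  have e' : Ω' ≤ b ⁻¹ᵁ V := (S'.basicOpen_le g).trans hΩV
  letI : Algebra Γ(S', Ω) Γ(S', Ω') := (S'.presheaf.map (homOfLE (S'.basicOpen_le g)).op).hom.toAlgebra
  letI : Algebra Γ(S, V) Γ(S', Ω') := (b.appLE V Ω' e').hom.toAlgebra
  haveI : IsScalarTower Γ(S, V) Γ(S', Ω) Γ(S', Ω') := .of_algebraMap_eq' (by
    show (b.appLE V Ω' e').hom = (b.appLE V Ω hΩV ≫ S'.presheaf.map (homOfLE (S'.basicOpen_le g)).op).hom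
    rw [Scheme.Hom.appLE_map])
  haveI : IsLocalization.Away g Γ(S', Ω') := hΩ.isLocalization_basicOpen g
  obtain ⟨hfl, hfp⟩ := hg Γ(S', Ω')
  obtain ⟨hW', hpo⟩ := PullbackMod.isPushout_appLE hc hV hW hΩ' e e'
  let W' := p₁ ⁻¹ᵁ W ⊓ p₂ ⁻¹ᵁ Ω'
  refine ⟨W', hW', ⟨hx', hsΩ'⟩, ?_⟩
  letI : Algebra Γ(X, W) Γ(X', W') := (p₁.appLE W W' inf_le_left).hom.toAlgebra
  letI : Algebra Γ(S', Ω') Γ(X', W') := (p₂.appLE Ω' W' inf_le_right).hom.toAlgebra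
  letI : Algebra Γ(S, V) Γ(X', W') :=
    ((p₁.appLE W W' inf_le_left).hom.comp (f.appLE V W e).hom).toAlgebra
  haveI : IsScalarTower Γ(S, V) Γ(X, W) Γ(X', W') := .of_algebraMap_eq fun _ => rfl
  haveI : IsScalarTower Γ(S, V) Γ(S', Ω') Γ(X', W') := .of_algebraMap_eq' (by
    show ((f.appLE V W e) ≫ p₁.appLE W W' inf_le_left).hom =
      ((b.appLE V Ω' e') ≫ p₂.appLE Ω' W' inf_le_right).hom
    simp only [Scheme.Hom.appLE_comp_appLE, hc.w])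
  haveI : Algebra.IsPushout Γ(S, V) Γ(S', Ω') Γ(X, W) Γ(X', W') := hpo
  let P := (Scheme.Modules.pullback p₁).obj F
  letI : Module Γ(X, W) Γ(P, W') := Module.compHom _ (p₁.appLE W W' inf_le_left).hom
  haveI : IsScalarTower Γ(X, W) Γ(X', W') Γ(P, W') := .of_algebraMap_smul fun _ _ => rfl
  letI : Module Γ(S', Ω') Γ(G, W') := Module.compHom _ (p₂.appLE Ω' W' inf_le_right).hom
  haveI : IsScalarTower Γ(S', Ω') Γ(X', W') Γ(G, W') := .of_algebraMap_smul fun _ _ => rfl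
  have hE : ((𝓘.comap f).comap p₁).ideal ⟨W', hW'⟩ =
      Ideal.span {algebraMap Γ(S', Ω') Γ(X', W') (algebraMap Γ(S', Ω) Γ(S', Ω') ε)} := by
    rw [← Scheme.IdealSheafData.comap_comp, hc.w, Scheme.IdealSheafData.comap_comp,
      IdealStalkLib.comap_ideal (𝓘.comap b) p₂ hΩ' hW' inf_le_right,
      ← (𝓘.comap b).map_ideal (U := ⟨Ω', hΩ'⟩) (V := ⟨Ω, hΩ⟩) (S'.basicOpen_le g), hεI, Ideal.map_span,
      Set.image_singleton, Ideal.map_span, Set.image_singleton]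
    rfl
  have hk : ∀ m : Γ(P, W'), QCohLib.appLinear π W' m = 0 ↔
      ∃ n : ℕ, algebraMap Γ(S', Ω') Γ(X', W') (algebraMap Γ(S', Ω) Γ(S', Ω') ε) ^ n • m = 0 := by
    intro m
    refine (hker ⟨W', hW'⟩ m).trans (exists_congr fun n => ?_)
    rw [Scheme.IdealSheafData.ideal_pow, Pi.pow_apply, hE, Ideal.span_singleton_pow]
    refine ⟨fun h => h _ (Ideal.mem_span_singleton_self _), fun h a ha => ?_⟩
    obtain ⟨t, rfl⟩ := Ideal.mem_span_singleton'.1 ha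
    rw [mul_smul, h, smul_zero]
  obtain ⟨hflG, hfpG⟩ := flat_fp_of_transport (R := Γ(S, V)) (B := Γ(X, W)) (D := Γ(S', Ω')) (B' := Γ(X', W'))
    (PullbackMod.pullMapL p₁ F inf_le_left) (PullbackMod.isBaseChange_pullMapL p₁ F hW hW' inf_le_left)
    (QCohLib.appLinear π W') (hπ W' hW') (algebraMap Γ(S', Ω) Γ(S', Ω') c) (algebraMap Γ(S', Ω) Γ(S', Ω') ε)
    (map_dvd _ hcε) (hεc.imp fun m hm => by rw [← map_pow]; exact map_dvd _ hm) hk hfl hfp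
  exact ⟨hfpG, FlatModLib.isFlatOverAt_of_secFlat p₂ G hW' hΩ' inf_le_right hflG x' ⟨hx', hsΩ'⟩⟩

end Groth.Agent.RGBlowLib
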