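import Groth.Agent.RGBlowLib.Local
import Groth.Agent.S8859

/-!
# Flattening by a blow-up
-/

set_option autoImplicit false
set_option linter.style.haveILetI false
set_option backward.isDefEq.respectTransparency false
set_option maxHeartbeats 1000000

universe u

open CategoryTheory CategoryTheory.Limits AlgebraicGeometry TopologicalSpace TensorProduct

noncomputable section

namespace Groth.Agent.RGBlowLib

attribute [local instance] Algebra.TensorProduct.rightAlgebra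

variable {X S X' S' : Scheme.{u}}

theorem isAdmissibleFor_prod {U : S.Opens} {ι : Type*} (s : Finset ι) (J : ι → S.IdealSheafData)
    (h : ∀ i ∈ s, BlowUp.IsAdmissibleFor U (J i)) : BlowUp.IsAdmissibleFor U (∏ i ∈ s, J i) := by
  refine Finset.prod_induction J (fun I => BlowUp.IsAdmissibleFor U I) (fun A B hA hB => ⟨fun O => ?_, ?_⟩) ⟨fun O => ?_, ?_⟩ h
  · rw [Scheme.IdealSheafData.ideal_mul, Pi.mul_apply]
    exact (hA.1 O).mul (hB.1 O)
  · rw [Scheme.IdealSheafData.support_mul, TopologicalSpace.Closeds.coe_sup]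
    exact hA.2.union_left hB.2
  · exact ⟨{1}, by simp [show (1 : S.IdealSheafData) = ⊤ from rfl]⟩
  · simp [show (1 : S.IdealSheafData) = ⊤ from rfl]

theorem exists_finite_cover (f : X ⟶ S) [CompactSpace X] :
    ∃ (n : ℕ) (V : Fin n → S.affineOpens) (W : Fin n → X.affineOpens),
      (∀ i, (W i).1 ≤ f ⁻¹ᵁ (V i).1) ∧ ∀ x : X, ∃ i, x ∈ (W i).1 := by
  classical
  choose W V hW hV hWV hx using FlatModLib.exists_affines f
  obtain ⟨s, hs⟩ := isCompact_univ.elim_finite_subcover (fun x : X => (W x : Set X)) (fun x => (W x).isOpen)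
    fun x _ => Set.mem_iUnion.2 ⟨x, hx x⟩
  refine ⟨s.card, fun i => ⟨V (s.equivFin.symm i).1, hV _⟩, fun i => ⟨W (s.equivFin.symm i).1, hW _⟩,
    fun i => hWV _, fun x => ?_⟩
  obtain ⟨y, hy, hxy⟩ := Set.mem_iUnion₂.1 (hs (Set.mem_univ x))
  exact ⟨s.equivFin ⟨y, hy⟩, by simp only [Equiv.symm_apply_apply]; exact hxy⟩

theorem exists_flattening [CompactSpace S] [QuasiSeparatedSpace S] [CompactSpace X]
    (f : X ⟶ S) [LocallyOfFinitePresentation f] (U : S.Opens) (hU : IsCompact (U : Set S))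
    (F : X.Modules) [Coh.IsQCoh F] (hft : CohB1.IsFT F)
    (hfpU : CohB1.IsFP ((Scheme.Modules.pullback (f ⁻¹ᵁ U).ι).obj F))
    (hflU : ∀ x : X, f.base x ∈ U → FlatMod.IsFlatOverAt f F x) :
    ∃ (𝓘 : S.IdealSheafData) (S' : Scheme.{u}) (b : S' ⟶ S), BlowUp.IsBlowUp b 𝓘 ∧ BlowUp.IsAdmissibleFor U 𝓘 ∧
      ∀ (X' : Scheme.{u}) (p₁ : X' ⟶ X) (p₂ : X' ⟶ S'), IsPullback p₁ p₂ f b →
      ∀ (G : X'.Modules) (π : (Scheme.Modules.pullback p₁).obj F ⟶ G),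
        BlowUp.IsStrictTransform p₁ (𝓘.comap f) F G π → CohB1.IsFP G ∧ FlatMod.IsFlatOver p₂ G := by
  classical
  obtain ⟨n, V, W, hWV, hcov⟩ := exists_finite_cover f
  choose 𝓙 hadm hpow hT using fun i => exists_chart_sheaf f U hU F hft hfpU hflU (V i).2 (W i).2 (hWV i)
  let 𝓘 := ∏ i, 𝓙 i
  have h𝓘 : BlowUp.IsAdmissibleFor U 𝓘 := isAdmissibleFor_prod _ _ fun i _ => hadm i
  obtain ⟨S', b, hb⟩ := S8859.result S 𝓘
  refine ⟨𝓘, S', b, hb, h𝓘, fun X' p₁ p₂ hc G π hst => ?_⟩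
  haveI := hst.1
  have hmul : ∀ i, 𝓘 = 𝓙 i * ∏ j ∈ Finset.univ.erase i, 𝓙 j := fun i =>
    (Finset.mul_prod_erase _ _ (Finset.mem_univ i)).symm
  have hcart : ∀ i, BlowUp.IsEffCartierIdeal ((𝓙 i).comap b) := fun i => by
    have h := hb.1
    rw [hmul i, BlowCompLib.comap_mul] at h
    exact BlowCompLib.isEffCartier_of_mul h
  haveI := PullbackMod.isQCoh_pullback p₁ F
  obtain ⟨hG, hsurj⟩ := isQCoh_of_kill (BlowUp.exceptional p₁ (𝓘.comap f)) (fun x => by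
    obtain ⟨Ω, hxΩ, ε, -, hε⟩ := hb.1 (p₂ x)
    obtain ⟨_, ⟨O : X'.Opens, hO, rfl⟩, hxO, hOΩ⟩ := X'.isBasis_affineOpens.exists_subset_of_mem_open
      (a := x) (u := ↑(p₂ ⁻¹ᵁ Ω.1)) hxΩ (p₂ ⁻¹ᵁ Ω.1).2
    refine ⟨⟨O, hO⟩, hxO, p₂.appLE Ω.1 O hOΩ ε, ?_⟩
    show ((𝓘.comap f).comap p₁).ideal ⟨O, hO⟩ = _
    rw [← Scheme.IdealSheafData.comap_comp, hc.w, Scheme.IdealSheafData.comap_comp,
      IdealStalkLib.comap_ideal (𝓘.comap b) p₂ Ω.2 hO hOΩ, hε, Ideal.map_span, Set.image_singleton])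
    inferInstance π hst.2
  haveI := hG
  choose i hi using fun x' : X' => hcov (p₁ x')
  choose W' hW' hxW' hfp hfl using fun x' : X' =>
    local_good f F (V (i x')).2 (W (i x')).2 (hWV (i x')) (𝓙 (i x')) 𝓘
      (by rw [hmul (i x'), Scheme.IdealSheafData.ideal_mul, Pi.mul_apply]; exact Ideal.mul_le_left)
      (hpow (i x') 𝓘 h𝓘) (hT (i x')) b hb.1 (hcart (i x')) p₁ p₂ hc G π hsurj hst.2 x' (hi x')
  exact ⟨PullbackMod.isFP_of_finitePresentation G W' hW'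
    (eq_top_iff.2 fun x _ => Opens.mem_iSup.2 ⟨x, hxW' x⟩) hfp, hfl⟩

end Groth.Agent.RGBlowLib
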