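import Groth.Agent.RGBlowLib.Stage
import Groth.Agent.RGFlatLib.Dense
import Groth.Agent.BlowCompLib.Compose

/-!
# Flattening by a blow-up, affine form
-/

set_option autoImplicit false
set_option linter.style.haveILetI false
set_option backward.isDefEq.respectTransparency false
set_option maxHeartbeats 2000000

universe u

open TensorProduct

noncomputable section

namespace Groth.Agent.RGBlowLib

attribute [local instance] Algebra.TensorProduct.rightAlgebra

theorem powTorsion_le_of_dvd {S N : Type u} [CommRing S] [AddCommGroup N] [Module S N] {x y : S} {k : ℕ}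
    (h : x ∣ y ^ k) : FlatCA.powTorsion S x N ≤ FlatCA.powTorsion S y N := fun z hz => by
  rw [mem_powTorsion] at hz ⊢
  obtain ⟨n, hn⟩ := hz
  obtain ⟨t, ht⟩ := h
  exact ⟨k * n, by rw [pow_mul, ht, mul_pow, mul_comm, mul_smul, hn, smul_zero]⟩

/-- The relation of a family of divisibility data. -/
def rel {R : Type u} (v : R × R → Bool) (r s : R) : Prop := v (r, s) = true

/-- The relations of valuations at which `a i` has least value. -/
def Wset {R : Type u} [CommRing R] {n : ℕ} (a : Fin n → R) (i : Fin n) : Set (R × R → Bool) :=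
  {v | IsVR (rel v) ∧ ¬ rel v 0 (a i) ∧ ∀ j, rel v (a i) (a j)}

theorem isClosed_Wset {R : Type u} [CommRing R] {n : ℕ} (a : Fin n → R) (i : Fin n) : IsClosed (Wset a i) := by
  have hc : ∀ p : R × R, IsClopen {v : R × R → Bool | v p = true} := fun p =>
    (isClopen_discrete ({true} : Set Bool)).preimage (continuous_apply (A := fun _ : R × R => Bool) p)
  have h1 : ∀ r s : R, IsClosed {v : R × R → Bool | rel v r s} := fun r s => (hc (r, s)).1
  have h2 : ∀ r s : R, IsOpen {v : R × R → Bool | rel v r s} := fun r s => (hc (r, s)).2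
  have h3 : ∀ r s : R, IsClosed {v : R × R → Bool | ¬ rel v r s} := fun r s => (h2 r s).isClosed_compl
  have e : Wset a i =
      {v | ∀ r s t, rel v r s → rel v s t → rel v r t} ∩ {v | ∀ r s, rel v r s ∨ rel v s r} ∩
      {v | ∀ r s t, rel v r s → rel v r t → rel v r (s + t)} ∩ {v | ∀ r s t, rel v r s → rel v (r * t) (s * t)} ∩
      {v | ∀ r s t, rel v (r * t) (s * t) → ¬ rel v 0 t → rel v r s} ∩ {v | ∀ r, rel v 1 r} ∩
      {v | ¬ rel v 0 1} ∩ {v | ¬ rel v 0 (a i)} ∩ {v | ∀ j, rel v (a i) (a j)} :=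
    Set.ext fun v => ⟨fun ⟨h, ha, hj⟩ => ⟨⟨⟨⟨⟨⟨⟨⟨h.trans, h.total⟩, h.add⟩, h.mul⟩, h.cancel⟩, h.one⟩, h.ntriv⟩, ha⟩, hj⟩,
      fun ⟨⟨⟨⟨⟨⟨⟨⟨htr, hto⟩, had⟩, hmu⟩, hca⟩, hone⟩, hnt⟩, ha⟩, hj⟩ => ⟨⟨htr, hto, had, hmu, hca, hone, hnt⟩, ha, hj⟩⟩
  rw [e]
  refine ((((((((?_ : IsClosed _).inter ?_).inter ?_).inter ?_).inter ?_).inter ?_).inter (h3 _ _)).inter (h3 _ _)).inter ?_
  · simp only [Set.setOf_forall]
    exact isClosed_iInter fun r => isClosed_iInter fun s => isClosed_iInter fun t =>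
      isClosed_imp (h2 r s) (isClosed_imp (h2 s t) (h1 r t))
  · simp only [Set.setOf_forall]
    exact isClosed_iInter fun r => isClosed_iInter fun s => (h1 r s).union (h1 s r)
  · simp only [Set.setOf_forall]
    exact isClosed_iInter fun r => isClosed_iInter fun s => isClosed_iInter fun t =>
      isClosed_imp (h2 r s) (isClosed_imp (h2 r t) (h1 r (s + t)))
  · simp only [Set.setOf_forall]
    exact isClosed_iInter fun r => isClosed_iInter fun s => isClosed_iInter fun t =>
      isClosed_imp (h2 r s) (h1 _ _)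
  · simp only [Set.setOf_forall]
    exact isClosed_iInter fun r => isClosed_iInter fun s => isClosed_iInter fun t =>
      isClosed_imp (h2 _ _) (isClosed_imp (h1 0 t).isOpen_compl (h1 r s))
  · simp only [Set.setOf_forall]
    exact isClosed_iInter fun r => h1 1 r
  · simp only [Set.setOf_forall]
    exact isClosed_iInter fun j => h1 _ _

/-- A valuation ring dominating a prime along a map to a field. -/
theorem exists_valuation_of_map {D K : Type u} [CommRing D] [Field K] (ι : D →+* K) (q : Ideal D) [q.IsPrime]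
    (hker : ∀ d, ι d = 0 → d ∈ q) :
    ∃ (V : ValuationSubring K) (φ : D →+* V), (∀ d, IsUnit (φ d) ↔ d ∉ q) ∧ ∀ d, φ d = 0 → ι d = 0 := by
  let P₀ : Ideal ι.range := q.map ι.rangeRestrict
  haveI hP₀ : P₀.IsPrime := Ideal.map_isPrime_of_surjective ι.rangeRestrict_surjective fun d hd =>
    hker d (congrArg Subtype.val hd)
  obtain ⟨V, hle, hloc⟩ := (LocalSubring.ofPrime ι.range P₀).exists_le_valuationSubring
  have hA₀V : ∀ d, ι d ∈ V.toSubring := fun d => hle (LocalSubring.le_ofPrime ι.range P₀ ⟨d, rfl⟩)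
  refine ⟨V, ι.codRestrict V.toSubring hA₀V, fun d => ?_, fun d h => congrArg Subtype.val h⟩
  have hmem : ι.rangeRestrict d ∈ P₀ ↔ d ∈ q := by
    refine ⟨fun h => ?_, fun h => Ideal.mem_map_of_mem _ h⟩
    obtain ⟨d', hd', he⟩ := (Ideal.mem_map_iff_of_surjective _ ι.rangeRestrict_surjective).1 h
    have h1 := hker (d - d') (by rw [map_sub, sub_eq_zero]; exact (congrArg Subtype.val he).symm)
    simpa using add_mem h1 hd'
  let z : (LocalSubring.ofPrime ι.range P₀).toSubring := ⟨ι d, LocalSubring.le_ofPrime ι.range P₀ ⟨d, rfl⟩⟩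
  have hz : IsUnit z ↔ d ∉ q := by
    have he : LocalSubring.ofPrimeEquiv ι.range P₀ (algebraMap ι.range _ (ι.rangeRestrict d)) = z :=
      Subtype.ext (congrArg Subtype.val
        (AlgEquiv.commutes (LocalSubring.ofPrimeEquiv ι.range P₀) (ι.rangeRestrict d)))
    rw [← he, MulEquiv.isUnit_map, IsLocalization.AtPrime.isUnit_to_map_iff _ P₀, ← hmem]
    rfl
  rw [← hz]
  haveI := hloc
  exact ⟨fun h => isUnit_of_map_unit (Subring.inclusion hle) z h, fun h => h.map (Subring.inclusion hle)⟩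

/-- A valuation ring dominating a prime, in which a given nonzerodivisor is nonzero. -/
theorem exists_valuation {D : Type u} [CommRing D] (q : Ideal D) [q.IsPrime] {c : D} (hc : c ∈ nonZeroDivisors D) :
    ∃ (K : Type u) (_ : Field K) (V : ValuationSubring K) (φ : D →+* V),
      (∀ d, IsUnit (φ d) ↔ d ∉ q) ∧ φ c ≠ 0 := by
  obtain ⟨p₀, hp₀, hp₀q⟩ := Ideal.exists_minimalPrimes_le (bot_le : (⊥ : Ideal D) ≤ q)
  haveI := hp₀.1.1
  have hker₀ : ∀ d, (algebraMap (D ⧸ p₀) (FractionRing (D ⧸ p₀))).comp (Ideal.Quotient.mk p₀) d = 0 → d ∈ p₀ :=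
    fun d hd => Ideal.Quotient.eq_zero_iff_mem.1
      (IsFractionRing.injective (D ⧸ p₀) (FractionRing (D ⧸ p₀)) (by rw [map_zero]; exact hd))
  obtain ⟨V, φ, h1, h2⟩ := exists_valuation_of_map _ q fun d hd => hp₀q (hker₀ d hd)
  exact ⟨_, inferInstance, V, φ, h1, fun h => Set.disjoint_left.mp
    (Ideal.disjoint_nonZeroDivisors_of_mem_minimalPrimes hp₀) (hker₀ c (h2 c h)) hc⟩

/-- Near a prime at which an invertible product has least value given by `x`, `x` generates. -/
theorem exists_gen {D V : Type u} [CommRing D] [CommRing V] [IsDomain V] [IsLocalRing V] (φ : D →+* V)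
    (q : Ideal D) [q.IsPrime] (hq : ∀ d, IsUnit (φ d) ↔ d ∉ q) {c : D} (hc : c ∈ nonZeroDivisors D) (hφc : φ c ≠ 0)
    {A B : Ideal D} (hAB : A * B = Ideal.span {c}) {x : D} (hxA : x ∈ A) (hx : ∀ z ∈ A, φ x ∣ φ z) :
    ∃ g ∉ q, ∀ (T : Type u) [CommRing T] [Algebra D T], IsUnit (algebraMap D T g) →
      algebraMap D T c ∈ nonZeroDivisors T →
        algebraMap D T x ∈ nonZeroDivisors T ∧ ∀ z ∈ A, algebraMap D T x ∣ algebraMap D T z := by
  obtain ⟨r, hr, y, hy, hloc⟩ := BlowCompLib.exists_principal_of_mul hc hAB q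
  obtain ⟨-, hmap⟩ := hloc (Localization.Away r) inferInstance
  have hx0 : φ x ≠ 0 := fun h0 => hφc (by
    obtain ⟨t, ht⟩ := hx c (by
      have : c ∈ A * B := hAB ▸ Ideal.mem_span_singleton_self c
      exact Ideal.mul_le_left this)
    rw [ht, h0, zero_mul])
  have hrel : ∀ z ∈ A, ∃ (m : ℕ) (e : D), r ^ m * z = y * e := by
    intro z hz
    obtain ⟨t, ht⟩ := Ideal.mem_span_singleton'.1 (hmap ▸ Ideal.mem_map_of_mem (algebraMap D (Localization.Away r)) hz)
    obtain ⟨⟨e, ⟨_, n, rfl⟩⟩, he⟩ := IsLocalization.surj (Submonoid.powers r) t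
    simp only at he
    have h1 : algebraMap D (Localization.Away r) (r ^ n * z) = algebraMap D (Localization.Away r) (y * e) := by
      rw [map_mul, map_mul, ← ht, ← he]; ring
    obtain ⟨⟨_, k, rfl⟩, hk⟩ := (IsLocalization.eq_iff_exists (Submonoid.powers r) (Localization.Away r)).1 h1
    exact ⟨k + n, r ^ k * e, by rw [pow_add, mul_assoc, hk]; ring⟩
  obtain ⟨m, e, he⟩ := hrel x hxA
  have he0 : e ∉ q := by
    obtain ⟨t, ht⟩ := hx y hy
    have h1 := congrArg φ he
    rw [map_mul, map_mul, map_pow, ht] at h1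
    have h2 : φ r ^ m = t * φ e := mul_right_cancel₀ hx0 (h1.trans (by ring))
    exact (hq e).1 (isUnit_of_mul_isUnit_right (h2 ▸ ((hq r).2 hr).pow m))
  refine ⟨r * e, fun h => (Ideal.IsPrime.mem_or_mem ‹_› h).elim hr he0, fun T _ _ hu hcT => ?_⟩
  rw [map_mul, IsUnit.mul_iff] at hu
  have hdvd : ∀ z ∈ A, algebraMap D T x ∣ algebraMap D T z := by
    intro z hz
    obtain ⟨m', e', he'⟩ := hrel z hz
    have h1 : algebraMap D T y ∣ algebraMap D T z := by
      have h2 : algebraMap D T y ∣ algebraMap D T (r ^ m' * z) := ⟨algebraMap D T e', by rw [he', map_mul]⟩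
      rwa [map_mul, map_pow, (hu.1.pow m').dvd_mul_left] at h2
    have h3 : algebraMap D T x ∣ algebraMap D T y := by
      have h2 : algebraMap D T x ∣ algebraMap D T (y * e) := ⟨algebraMap D T (r ^ m), by rw [← he, map_mul, mul_comm]⟩
      rwa [map_mul, hu.2.dvd_mul_right] at h2
    exact h3.trans h1
  refine ⟨?_, hdvd⟩
  obtain ⟨t, ht⟩ := hdvd c (Ideal.mul_le_left (hAB ▸ Ideal.mem_span_singleton_self c : c ∈ A * B))
  rw [ht] at hcT
  exact (mul_mem_nonZeroDivisors.1 hcT).1

variable {R B M : Type u} [CommRing R] [CommRing B] [Algebra R B] [AddCommGroup M] [Module B M] [Module R M]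
  [IsScalarTower R B M]

/-- A finitely presented cover with torsion kernel. -/
theorem exists_fp_cover [Module.Finite B M] {n : ℕ} (a : Fin n → R)
    (hfp : ∀ i, Module.FinitePresentation (Localization.Away (algebraMap R B (a i)))
      (LocalizedModule (Submonoid.powers (algebraMap R B (a i))) M)) :
    ∃ (M' : Type u) (_ : AddCommGroup M') (_ : Module B M') (_ : Module R M') (_ : IsScalarTower R B M')
      (π : M' →ₗ[B] M), Module.FinitePresentation B M' ∧ Function.Surjective π ∧
        ∀ (i : Fin n) (x : M'), π x = 0 → ∃ k : ℕ, a i ^ k • x = 0 := by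
  obtain ⟨m, q₀, hq₀⟩ := Module.Finite.exists_fin' B M
  choose W hW hle hsat using fun i => by
    haveI := hfp i
    exact RGFlatLib.exists_fg_ker_of_fp_localized q₀ hq₀ (algebraMap R B (a i))
  let W₀ : Submodule B (Fin m → B) := ⨆ i, W i
  have hW₀ : W₀ ≤ LinearMap.ker q₀ := iSup_le hle
  refine ⟨(Fin m → B) ⧸ W₀, inferInstance, inferInstance, inferInstance, inferInstance, W₀.liftQ q₀ hW₀,
    Module.finitePresentation_of_surjective W₀.mkQ W₀.mkQ_surjective
      (by rw [Submodule.ker_mkQ]; exact Submodule.fg_iSup _ hW), fun y => ?_, fun i x hx => ?_⟩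
  · obtain ⟨v, rfl⟩ := hq₀ y
    exact ⟨Submodule.Quotient.mk v, rfl⟩
  · obtain ⟨v, rfl⟩ := Submodule.Quotient.mk_surjective W₀ x
    obtain ⟨_, ⟨k, rfl⟩, hk⟩ := hsat i (show v ∈ LinearMap.ker q₀ from hx)
    refine ⟨k, ?_⟩
    rw [← Submodule.Quotient.mk_smul, Submodule.Quotient.mk_eq_zero, ← algebraMap_smul B (a i ^ k), map_pow]
    exact le_iSup W i hk

/-- Flattening by a blow-up, affine form. -/
theorem exists_ideal [Algebra.FinitePresentation R B] [Module.Finite B M] {n : ℕ} (a : Fin n → R)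
    (hfp : ∀ i, Module.FinitePresentation (Localization.Away (algebraMap R B (a i)))
      (LocalizedModule (Submonoid.powers (algebraMap R B (a i))) M))
    (hflat : ∀ i, Module.Flat R (LocalizedModule (Submonoid.powers (a i)) M)) :
    ∃ T : Ideal R, T.FG ∧ T.radical = (Ideal.span (Set.range a)).radical ∧
      ∀ (D : Type u) [CommRing D] [Algebra R D] (c : D), c ∈ nonZeroDivisors D →
        T.map (algebraMap R D) = Ideal.span {c} →
        ∀ (q : Ideal D) [q.IsPrime], ∃ g ∉ q,
          ∀ (D' : Type u) [CommRing D'] [Algebra D D'] [Algebra R D'] [IsScalarTower R D D'] [IsLocalization.Away g D'],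
            Module.Flat D' (BC R B M D' ⧸
              FlatCA.powTorsion (D' ⊗[R] B) (algebraMap D' (D' ⊗[R] B) (algebraMap D D' c)) (BC R B M D')) ∧
            Module.FinitePresentation (D' ⊗[R] B) (BC R B M D' ⧸
              FlatCA.powTorsion (D' ⊗[R] B) (algebraMap D' (D' ⊗[R] B) (algebraMap D D' c)) (BC R B M D')) := by
  classical
  obtain ⟨M', _, _, _, _, π, hM', hπ, hker⟩ := exists_fp_cover a hfp
  haveI := hM'
  have hflat' : ∀ i, Module.Flat R (LocalizedModule (Submonoid.powers (a i)) M') := fun i => by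
    haveI := hflat i
    refine Module.Flat.of_linearEquiv ((LinearEquiv.ofBijective
      (LocalizedModule.map (Submonoid.powers (a i)) (π.restrictScalars R))
      ⟨(FibBasisLib.injective_map_iff _ _).2 fun x hx => ?_, LocalizedModule.map_surjective _ _ hπ⟩).restrictScalars R)
    obtain ⟨k, hk⟩ := hker i x hx
    exact ⟨_, ⟨k, rfl⟩, hk⟩
  have key : ∀ (i : Fin n) (v : Wset a i), ∃ (x : R) (S : Finset R) (N : ℕ), (∀ s ∈ S, rel v.1 x s) ∧
      (∀ j, a j ^ N ∈ S) ∧
      ∀ (D : Type u) [CommRing D] [Algebra R D], algebraMap R D (a i) ∈ nonZeroDivisors D →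
        algebraMap R D x ∈ nonZeroDivisors D → (∀ s ∈ S, algebraMap R D x ∣ algebraMap R D s) →
          Module.Flat D (BC R B M' D ⧸ tors R B M' D (a i)) ∧
            Module.FinitePresentation (D ⊗[R] B) (BC R B M' D ⧸ tors R B M' D (a i)) := by
    intro i v
    obtain ⟨hv, hvi, hvj⟩ := v.2
    haveI := hflat' i
    obtain ⟨x, S, N, hN, hS, hgood⟩ := exists_good (B := B) (M := M') hv (a i) hvi
    refine ⟨x, S ∪ Finset.univ.image (fun j => a j ^ N), N, fun s hs => ?_, fun j =>
      Finset.mem_union_right _ (Finset.mem_image_of_mem (fun j => a j ^ N) (Finset.mem_univ j)), fun D _ _ h1 h2 h3 =>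
        hgood D h1 h2 fun s hs => h3 s (Finset.mem_union_left _ hs)⟩
    rcases Finset.mem_union.1 hs with hs | hs
    · exact hS s hs
    · obtain ⟨j, -, rfl⟩ := Finset.mem_image.1 hs
      exact hv.trans _ _ _ hN (hv.pow (hvj j) N)
  choose x S N hxS haS hgood using key
  have hopen : ∀ (i : Fin n) (v : Wset a i), IsOpen {u : R × R → Bool | ∀ s ∈ S i v, u (x i v, s) = true} := by
    intro i v
    rw [show {u : R × R → Bool | ∀ s ∈ S i v, u (x i v, s) = true} =
      ⋂ s ∈ S i v, {u : R × R → Bool | u (x i v, s) = true} by ext; simp]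
    exact isOpen_biInter_finset fun s _ =>
      (isOpen_discrete ({true} : Set Bool)).preimage (continuous_apply (A := fun _ : R × R => Bool) _)
  have hfin : ∀ i : Fin n, ∃ K : Finset (Wset a i),
      ∀ u ∈ Wset a i, ∃ v ∈ K, ∀ s ∈ S i v, u (x i v, s) = true := by
    intro i
    obtain ⟨K, hK⟩ := (isClosed_Wset a i).isCompact.elim_finite_subcover _ (hopen i)
      (fun u hu => Set.mem_iUnion.2 ⟨⟨u, hu⟩, hxS i ⟨u, hu⟩⟩)
    exact ⟨K, fun u hu => by simpa using hK hu⟩
  choose K hK using hfin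
  let κ := Σ i : Fin n, {v // v ∈ K i}
  let I : κ → Ideal R := fun k => Ideal.span (insert (x k.1 k.2.1) (S k.1 k.2.1) : Finset R)
  let J : Ideal R := Ideal.span (Set.range a)
  let T : Ideal R := J * ∏ k, I k
  have hIrad : ∀ k, J ≤ (I k).radical := fun k => Ideal.span_le.2 fun z hz => by
    obtain ⟨j, rfl⟩ := hz
    exact ⟨N k.1 k.2.1, Ideal.subset_span (Finset.mem_coe.2 (Finset.mem_insert_of_mem (haS k.1 k.2.1 j)))⟩
  have hfg : (∏ k, I k).FG := by
    refine Finset.prod_induction I (fun J' : Ideal R => J'.FG) (fun _ _ => Submodule.FG.mul)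
      ⟨{1}, by simp⟩ fun k _ => ⟨_, rfl⟩
  have hTrad : J.radical ≤ T.radical := by
    rw [Ideal.radical_le_radical_iff, Ideal.radical_mul]
    refine le_inf Ideal.le_radical ?_
    exact Finset.prod_induction I (fun J' : Ideal R => J ≤ J'.radical)
      (fun _ _ h h' => by rw [Ideal.radical_mul]; exact le_inf h h') (by rw [Ideal.one_eq_top, Ideal.radical_top]; exact le_top) fun k _ => hIrad k
  refine ⟨T, Submodule.FG.mul (Submodule.fg_span (Set.finite_range a)) hfg, ?_, ?_⟩
  · exact le_antisymm (Ideal.radical_mono Ideal.mul_le_left) hTrad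
  intro D _ _ c hc hTD q _
  obtain ⟨K₀, _, V, φ, hφq, hφc⟩ := exists_valuation q hc
  let ψ : R →+* V := φ.comp (algebraMap R D)
  let u : R × R → Bool := fun p => decide (ψ p.1 ∣ ψ p.2)
  have hu : ∀ r s, rel u r s ↔ ψ r ∣ ψ s := fun r s => by simp [rel, u]
  have huV : IsVR (rel u) :=
    { trans := fun r s t h h' => (hu r t).2 (((hu r s).1 h).trans ((hu s t).1 h'))
      total := fun r s => (ValuationRing.dvd_total (ψ r) (ψ s)).imp (hu r s).2 (hu s r).2
      add := fun r s t h h' => (hu r (s + t)).2 (by rw [map_add]; exact dvd_add ((hu r s).1 h) ((hu r t).1 h'))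
      mul := fun r s t h => (hu _ _).2 (by rw [map_mul, map_mul]; exact mul_dvd_mul_right ((hu r s).1 h) _)
      cancel := fun r s t h h0 => (hu r s).2 (by
        have ht : ψ t ≠ 0 := fun h' => h0 ((hu 0 t).2 (by rw [map_zero, h']))
        have h2 := (hu _ _).1 h
        rw [map_mul, map_mul] at h2
        exact (mul_dvd_mul_iff_right ht).1 h2)
      one := fun r => (hu 1 r).2 (by rw [map_one]; exact one_dvd _)
      ntriv := fun h => by
        have h2 := (hu 0 1).1 h
        rw [map_zero, map_one, zero_dvd_iff] at h2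
        exact one_ne_zero h2 }
  have hspan : ∀ (G : Set R) (r : R), (∀ z ∈ G, ψ r ∣ ψ z) →
      ∀ z ∈ (Ideal.span G).map (algebraMap R D), φ (algebraMap R D r) ∣ φ z := by
    intro G r h z hz
    rw [Ideal.map_span] at hz
    induction hz using Submodule.span_induction with
    | mem z hz => obtain ⟨z, hz, rfl⟩ := hz; exact h z hz
    | zero => rw [map_zero]; exact dvd_zero _
    | add a b _ _ ha hb => rw [map_add]; exact dvd_add ha hb
    | smul t a _ ha => rw [smul_eq_mul, map_mul]; exact dvd_mul_of_dvd_right ha _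
  haveI : Nonempty (Fin n) := by
    by_contra h
    rw [not_nonempty_iff] at h
    have h2 : T.map (algebraMap R D) = ⊥ := by
      simp only [T, J, Set.range_eq_empty, Ideal.span_empty, Ideal.bot_mul, Ideal.map_bot]
    rw [hTD, Ideal.span_singleton_eq_bot] at h2
    exact hφc (by rw [h2, map_zero])
  have hex : ∀ s : Finset (Fin n), s.Nonempty → ∃ i ∈ s, ∀ j ∈ s, ψ (a i) ∣ ψ (a j) := by
    intro s hs
    induction hs using Finset.Nonempty.cons_induction with
    | singleton i => exact ⟨i, by simp, by simp⟩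
    | cons i s hi hs ih =>
      obtain ⟨j, hj, hjm⟩ := ih
      rcases ValuationRing.dvd_total (ψ (a i)) (ψ (a j)) with h | h
      · exact ⟨i, by simp, fun t ht => (Finset.mem_cons.1 ht).elim (fun e => e ▸ dvd_rfl) fun ht => h.trans (hjm t ht)⟩
      · exact ⟨j, by simp [hj], fun t ht => (Finset.mem_cons.1 ht).elim (fun e => e ▸ h) fun ht => hjm t ht⟩
  obtain ⟨i, -, hi⟩ := hex Finset.univ Finset.univ_nonempty
  have hJD : J.map (algebraMap R D) * (∏ k, I k).map (algebraMap R D) = Ideal.span {c} := by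
    rw [← Ideal.map_mul]; exact hTD
  have hJz := hspan (Set.range a) (a i) (by rintro _ ⟨j, rfl⟩; exact hi j (Finset.mem_univ j))
  have hai : ψ (a i) ≠ 0 := fun h0 => hφc (by
    obtain ⟨t, ht⟩ := hJz c (Ideal.mul_le_left (hJD ▸ Ideal.mem_span_singleton_self c :
      c ∈ J.map (algebraMap R D) * (∏ k, I k).map (algebraMap R D)))
    rw [ht, show φ (algebraMap R D (a i)) = 0 from h0, zero_mul])
  obtain ⟨v, hvK, hv⟩ := hK i u ⟨huV, fun h => hai (by simpa [hu] using h), fun j => (hu _ _).2 (hi j (Finset.mem_univ j))⟩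
  let k : κ := ⟨i, v, hvK⟩
  have hID : (I k).map (algebraMap R D) * (J * ∏ k' ∈ Finset.univ.erase k, I k').map (algebraMap R D) =
      Ideal.span {c} := by
    rw [← Ideal.map_mul, ← hTD, ← mul_assoc, mul_comm (I k) J, mul_assoc,
      Finset.mul_prod_erase Finset.univ I (Finset.mem_univ k)]
  obtain ⟨g₁, hg₁, hgen₁⟩ := exists_gen φ q hφq hc hφc hJD (Ideal.mem_map_of_mem _ (Ideal.subset_span ⟨i, rfl⟩)) hJz
  obtain ⟨g₂, hg₂, hgen₂⟩ := exists_gen φ q hφq hc hφc hID
    (Ideal.mem_map_of_mem _ (Ideal.subset_span (Finset.mem_coe.2 (Finset.mem_insert_self (x i v) (S i v)))))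
    (hspan _ (x i v) (fun z hz => by
      rcases Finset.mem_insert.1 (Finset.mem_coe.1 hz) with rfl | hz
      · exact dvd_rfl
      · exact (hu _ _).1 (hv z hz)))
  refine ⟨g₁ * g₂, fun h => (Ideal.IsPrime.mem_or_mem ‹_› h).elim hg₁ hg₂, fun D' _ _ _ _ _ => ?_⟩
  have hu12 : IsUnit (algebraMap D D' g₁) ∧ IsUnit (algebraMap D D' g₂) := by
    rw [← IsUnit.mul_iff, ← map_mul]
    exact IsLocalization.Away.algebraMap_isUnit (g₁ * g₂)
  have hcD' : algebraMap D D' c ∈ nonZeroDivisors D' :=
    IsLocalization.map_nonZeroDivisors_le (Submonoid.powers (g₁ * g₂)) D' ⟨c, hc, rfl⟩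
  obtain ⟨h1, h1d⟩ := hgen₁ D' hu12.1 hcD'
  obtain ⟨h2, h2d⟩ := hgen₂ D' hu12.2 hcD'
  simp only [← IsScalarTower.algebraMap_apply] at h1 h2
  obtain ⟨hFl, hFP⟩ := hgood i v D' h1 h2 fun s hs => by
    have := h2d (algebraMap R D s) (Ideal.mem_map_of_mem _
      (Ideal.subset_span (Finset.mem_coe.2 (Finset.mem_insert_of_mem hs))))
    simpa only [← IsScalarTower.algebraMap_apply] using this
  -- the two torsions agree
  let E := D' ⊗[R] B
  have hcT : algebraMap D D' c ∈ (T.map (algebraMap R D)).map (algebraMap D D') :=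
    Ideal.mem_map_of_mem _ (hTD ▸ Ideal.mem_span_singleton_self c)
  have hai_c : algebraMap R D' (a i) ∣ algebraMap D D' c := by
    have := h1d c (Ideal.mul_le_left (hJD ▸ Ideal.mem_span_singleton_self c :
      c ∈ J.map (algebraMap R D) * (∏ k, I k).map (algebraMap R D)))
    rwa [← IsScalarTower.algebraMap_apply] at this
  have hc_ai : ∃ m : ℕ, algebraMap D D' c ∣ algebraMap R D' (a i) ^ m := by
    have hai' : a i ∈ T.radical := hTrad (Ideal.le_radical (Ideal.subset_span ⟨i, rfl⟩))
    obtain ⟨m, hm⟩ := hai'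
    refine ⟨m, ?_⟩
    have h3 := Ideal.mem_map_of_mem (algebraMap R D) hm
    rw [hTD, Ideal.mem_span_singleton] at h3
    rw [← map_pow, IsScalarTower.algebraMap_apply R D D' (a i ^ m)]
    exact map_dvd _ h3
  have htors : FlatCA.powTorsion E (algebraMap D' E (algebraMap D D' c)) (BC R B M D') = tors R B M D' (a i) := by
    obtain ⟨m, hm⟩ := hc_ai
    refine le_antisymm (powTorsion_le_of_dvd (k := m) ?_) (powTorsion_le_of_dvd (k := 1) ?_)
    · rw [IsScalarTower.algebraMap_apply R D' E, ← map_pow]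
      exact map_dvd _ hm
    · rw [IsScalarTower.algebraMap_apply R D' E, pow_one]
      exact map_dvd _ hai_c
  rw [htors]
  -- compare the module with its cover
  let p : BC R B M' D' →ₗ[E] BC R B M D' := π.baseChange E
  have hp : Function.Surjective p := LinearMap.lTensor_surjective E hπ
  have hpk : ∀ z, p z = 0 → z ∈ tors R B M' D' (a i) := by
    intro z hz
    obtain ⟨w, rfl⟩ := ((lTensor_exact E (LinearMap.exact_subtype_ker_map π) hπ) z).1 hz
    clear hz
    induction w using TensorProduct.induction_on with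
    | zero => rw [map_zero]; exact zero_mem _
    | add x y hx hy =>
      rw [map_add]
      exact add_mem hx hy
    | tmul e m =>
      obtain ⟨l, hl⟩ := hker i m.1 m.2
      rw [mem_tors]
      refine ⟨l, ?_⟩
      rw [← map_pow, algebraMap_smul, LinearMap.lTensor_tmul, ← TensorProduct.tmul_smul,
        show a i ^ l • (LinearMap.ker π).subtype m = 0 from hl, TensorProduct.tmul_zero]
  have hle : tors R B M' D' (a i) ≤ (tors R B M D' (a i)).comap p := fun z hz => by
    obtain ⟨l, hl⟩ := mem_tors.1 hz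
    rw [Submodule.mem_comap, mem_tors]
    refine ⟨l, ?_⟩
    rw [← algebraMap_pow_smul, ← map_smul, algebraMap_pow_smul, hl, map_zero]
  let P := Submodule.mapQ _ _ p hle
  have hbij : Function.Bijective P := by
    refine ⟨(injective_iff_map_eq_zero _).2 fun y hy => ?_, fun y => ?_⟩
    · obtain ⟨z, rfl⟩ := Submodule.Quotient.mk_surjective _ y
      rw [show P (Submodule.Quotient.mk z) = Submodule.Quotient.mk (p z) from rfl, Submodule.Quotient.mk_eq_zero,
        mem_tors] at hy
      obtain ⟨l, hl⟩ := hy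
      rw [← algebraMap_pow_smul, ← map_smul, algebraMap_pow_smul] at hl
      obtain ⟨l', hl'⟩ := mem_tors.1 (hpk _ hl)
      rw [Submodule.Quotient.mk_eq_zero, mem_tors]
      exact ⟨l' + l, by rw [pow_add, mul_smul]; exact hl'⟩
    · obtain ⟨z, rfl⟩ := Submodule.Quotient.mk_surjective _ y
      obtain ⟨z', rfl⟩ := hp z
      exact ⟨Submodule.Quotient.mk z', rfl⟩
  let e := LinearEquiv.ofBijective P hbij
  exact ⟨Module.Flat.of_linearEquiv (e.restrictScalars D').symm, Module.FinitePresentation.of_equiv e⟩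

end Groth.Agent.RGBlowLib
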