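import Groth.Agent.RGBlowLib.RingMain
import Groth.Agent.S0449
import Groth.Agent.S1571

/-!
# Blow-ups with centre exactly the complement of an open, and strict transforms of birational maps
-/

set_option autoImplicit false
set_option linter.style.haveILetI false
set_option backward.isDefEq.respectTransparency false
set_option maxHeartbeats 1000000

universe u

open CategoryTheory CategoryTheory.Limits AlgebraicGeometry TopologicalSpace

noncomputable section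

namespace Groth.Agent.RGBlowLib

variable {X S X' S' : Scheme.{u}}

/-- An admissible ideal whose support is exactly the complement of `U`. -/
theorem exists_exact_admissible [CompactSpace S] [QuasiSeparatedSpace S] (U : S.Opens) (hU : IsCompact (U : Set S)) :
    ∃ 𝓘 : S.IdealSheafData, BlowUp.IsAdmissibleFor U 𝓘 ∧ ∀ x : S, x ∉ U → x ∈ 𝓘.support := by
  classical
  obtain ⟨n, V, W, hWV, hcov⟩ := exists_finite_cover (𝟙 S)
  choose 𝓙 hadm hpow hQ using fun i => exists_spread U hU (V i).2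
    (Q := fun T => ∀ x ∈ (V i).1, x ∉ U → x ∈ S.zeroLocus (U := (V i).1) (T : Set Γ(S, (V i).1)))
    (fun m a ha => ⟨Ideal.span (Set.range a), Submodule.fg_span (Set.finite_range a), rfl, fun x hx hxU => by
      rw [Scheme.zeroLocus_span, Scheme.mem_zeroLocus_iff]
      rintro _ ⟨j, rfl⟩ hxj
      exact hxU (ha j hxj)⟩)
  refine ⟨∏ i, 𝓙 i, isAdmissibleFor_prod _ _ fun i _ => hadm i, fun x hx => ?_⟩
  obtain ⟨i, hi⟩ := hcov x
  have hxV : x ∈ (V i).1 := hWV i hi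
  rw [← Finset.mul_prod_erase _ _ (Finset.mem_univ i), Scheme.IdealSheafData.support_mul]
  exact Or.inl ((Scheme.IdealSheafData.mem_support_iff_of_mem (U := V i) hxV).2 (hQ i x hxV hx))

/-- Flattening with centre containing a given one. -/
theorem exists_flattening_scheme_mul [CompactSpace S] [QuasiSeparatedSpace S]
    (f : X ⟶ S) [LocallyOfFiniteType f] [QuasiCompact f] (U : S.Opens) (hU : IsCompact (U : Set S))
    [Flat (f ∣_ U)] [LocallyOfFinitePresentation (f ∣_ U)] (𝓘₀ : S.IdealSheafData) (h₀ : BlowUp.IsAdmissibleFor U 𝓘₀) :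
    ∃ (𝓚 : S.IdealSheafData) (S' : Scheme.{u}) (b : S' ⟶ S), BlowUp.IsBlowUp b (𝓘₀ * 𝓚) ∧
      BlowUp.IsAdmissibleFor U (𝓘₀ * 𝓚) ∧
      ∀ (X' : Scheme.{u}) (p₁ : X' ⟶ X) (p₂ : X' ⟶ S'), IsPullback p₁ p₂ f b →
      ∀ (𝒥 : X'.IdealSheafData),
        (∀ (V : X'.affineOpens) (a : Γ(X', V.1)), a ∈ 𝒥.ideal V ↔
          BlowUp.KilledByPowerNear (((𝓘₀ * 𝓚).comap f).comap p₁) (Coh.structureModule X') V a) →
        Flat (𝒥.subschemeι ≫ p₂) ∧ LocallyOfFinitePresentation (𝒥.subschemeι ≫ p₂) := by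
  classical
  haveI : CompactSpace X := QuasiCompact.compactSpace_of_compactSpace f
  obtain ⟨n, V, W, hWV, hcov⟩ := exists_finite_cover f
  choose 𝓙 hadm hpow hT using fun i => exists_ring_chart f U hU (V i).2 (W i).2 (hWV i)
  let 𝓘 := 𝓘₀ * ∏ i, 𝓙 i
  have h𝓘 : BlowUp.IsAdmissibleFor U 𝓘 := by
    have h := isAdmissibleFor_prod (U := U) (Finset.univ : Finset (Option (Fin n)))
      (fun o => o.elim 𝓘₀ 𝓙) (fun o _ => by cases o with | none => exact h₀ | some i => exact hadm i)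
    rwa [Fintype.prod_option] at h
  obtain ⟨S', b, hb⟩ := S8859.result S 𝓘
  refine ⟨∏ i, 𝓙 i, S', b, hb, h𝓘, fun X' p₁ p₂ hc 𝒥 hJ => ?_⟩
  have hmul : ∀ i, 𝓘 = 𝓙 i * (𝓘₀ * ∏ j ∈ Finset.univ.erase i, 𝓙 j) := fun i => by
    rw [mul_left_comm, Finset.mul_prod_erase _ _ (Finset.mem_univ i)]
  have hcart : ∀ i, BlowUp.IsEffCartierIdeal ((𝓙 i).comap b) := fun i => by
    have h := hb.1
    rw [hmul i, BlowCompLib.comap_mul] at h
    exact BlowCompLib.isEffCartier_of_mul h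
  have key : ∀ z : 𝒥.subscheme, ∃ (O : S'.affineOpens) (Z : 𝒥.subscheme.affineOpens) (_ : z ∈ Z.1)
      (h : Z.1 ≤ (𝒥.subschemeι ≫ p₂) ⁻¹ᵁ O.1), ((𝒥.subschemeι ≫ p₂).appLE O.1 Z.1 h).hom.Flat ∧
        ((𝒥.subschemeι ≫ p₂).appLE O.1 Z.1 h).hom.FinitePresentation := fun z => by
    obtain ⟨i, hi⟩ := hcov (p₁ (𝒥.subschemeι z))
    exact local_flat_fp f (V i).2 (W i).2 (hWV i) (𝓙 i) 𝓘
      (by rw [hmul i, Scheme.IdealSheafData.ideal_mul, Pi.mul_apply]; exact Ideal.mul_le_left)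
      (hpow i 𝓘 h𝓘) (hT i) b hb.1 (hcart i) p₁ p₂ hc 𝒥 hJ z hi
  refine ⟨?_, ?_⟩
  · refine (HasRingHomProperty.iff_exists_appLE (P := @Flat)
      (RingHom.Flat.stableUnderComposition.stableUnderCompositionWithLocalizationAway
        RingHom.Flat.holdsForLocalizationAway).1).2 fun z => ?_
    obtain ⟨O, Z, hz, h, hfl, -⟩ := key z
    exact ⟨O, Z, hz, h, hfl⟩
  · refine (HasRingHomProperty.iff_exists_appLE (P := @LocallyOfFinitePresentation)
      (RingHom.finitePresentation_stableUnderComposition.stableUnderCompositionWithLocalizationAway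
        RingHom.finitePresentation_holdsForLocalizationAway).1).2 fun z => ?_
    obtain ⟨O, Z, hz, h, -, hfp⟩ := key z
    exact ⟨O, Z, hz, h, hfp⟩

/-- The base change over the preimage of an open is the base change of the restriction. -/
theorem isPullback_restrict_snd (φ : X ⟶ S) (U : S.Opens) (b : S' ⟶ S) {p₁ : X' ⟶ X} {p₂ : X' ⟶ S'}
    (hc : IsPullback p₁ p₂ φ b) :
    ∃ l : ((p₂ ⁻¹ᵁ (b ⁻¹ᵁ U) : X'.Opens) : Scheme.{u}) ⟶ (φ ⁻¹ᵁ U : X.Opens),
      IsPullback (p₂ ∣_ (b ⁻¹ᵁ U)) l (b ∣_ U) (φ ∣_ U) := by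
  let W : S'.Opens := b ⁻¹ᵁ U
  have h1 : IsPullback (p₂ ∣_ W) ((p₂ ⁻¹ᵁ W).ι ≫ p₁) (W.ι ≫ b) φ :=
    (isPullback_morphismRestrict p₂ W).paste_vert hc.flip
  rw [← morphismRestrict_ι] at h1
  let l : ((p₂ ⁻¹ᵁ W : X'.Opens) : Scheme.{u}) ⟶ (φ ⁻¹ᵁ U : X.Opens) := IsOpenImmersion.lift (φ ⁻¹ᵁ U).ι ((p₂ ⁻¹ᵁ W).ι ≫ p₁) (by
    rintro _ ⟨z, rfl⟩
    rw [Scheme.Opens.range_ι]
    show φ (((p₂ ⁻¹ᵁ W).ι ≫ p₁) z) ∈ U
    rw [← Scheme.Hom.comp_apply, ← h1.w, Scheme.Hom.comp_apply, Scheme.Hom.comp_apply]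
    exact ((b ∣_ U) ((p₂ ∣_ W) z)).2)
  have hl : l ≫ (φ ⁻¹ᵁ U).ι = (p₂ ⁻¹ᵁ W).ι ≫ p₁ := IsOpenImmersion.lift_fac _ _ _
  refine ⟨l, IsPullback.of_bot (v₂₁ := (φ ⁻¹ᵁ U).ι) (v₂₂ := U.ι) ?_ ?_ (isPullback_morphismRestrict φ U)⟩
  · rw [hl]; exact h1
  · rw [← cancel_mono U.ι, Category.assoc, Category.assoc, morphismRestrict_ι φ U, ← Category.assoc l, hl, h1.w]

/-- The base change of a morphism is an isomorphism over the preimage of an open over which it is one. -/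
theorem isIso_restrict_snd (φ : X ⟶ S) (U : S.Opens) [IsIso (φ ∣_ U)] (b : S' ⟶ S) {p₁ : X' ⟶ X} {p₂ : X' ⟶ S'}
    (hc : IsPullback p₁ p₂ φ b) : IsIso (p₂ ∣_ (b ⁻¹ᵁ U)) := by
  obtain ⟨l, hl⟩ := isPullback_restrict_snd φ U b hc
  exact MorphismProperty.of_isPullback (P := MorphismProperty.isomorphisms Scheme) hl.flip
    (show IsIso (φ ∣_ U) from inferInstance)

/-- A closed subscheme is everything over an open on which the ideal killing it is trivial. -/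
theorem isIso_subscheme_restrict (E 𝒥 : X'.IdealSheafData)
    (hJ : ∀ (O : X'.affineOpens) (a : Γ(X', O.1)), a ∈ 𝒥.ideal O ↔
      BlowUp.KilledByPowerNear E (Coh.structureModule X') O a)
    (P : X'.Opens) (hP : ∀ x ∈ P, x ∉ E.support) : IsIso (𝒥.subschemeι ∣_ P) := by
  have hbot : 𝒥.comap P.ι = ⊥ := by
    refine Scheme.IdealSheafData.ext (funext fun O => ?_)
    rw [Scheme.IdealSheafData.ideal_comap_of_isOpenImmersion, Scheme.IdealSheafData.ideal_bot, Pi.bot_apply]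
    let O' : X'.affineOpens := ⟨P.ι ''ᵁ O.1, O.2.image_of_isOpenImmersion P.ι⟩
    have h0 : 𝒥.ideal O' = ⊥ := by
      refine eq_bot_iff.2 fun y hy => ?_
      obtain ⟨n, hn⟩ := (hJ O' y).1 hy
      have htop : E.ideal O' = ⊤ := by
        by_contra hne
        obtain ⟨m, hm, hle⟩ := Ideal.exists_le_maximal _ hne
        let q : PrimeSpectrum Γ(X', O'.1) := ⟨m, hm.isPrime⟩
        have hz : O'.2.fromSpec q ∈ (O'.1 : Set X') := by rw [← O'.2.range_fromSpec]; exact ⟨q, rfl⟩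
        obtain ⟨w, -, hw⟩ := hz
        refine hP (O'.2.fromSpec q) (hw ▸ w.2) ?_
        rw [Scheme.IdealSheafData.mem_support_iff_of_mem (U := O') (by rw [← SetLike.mem_coe, ← O'.2.range_fromSpec]; exact ⟨q, rfl⟩),
          Scheme.mem_zeroLocus_iff]
        intro z hz hzb
        rw [← Scheme.Hom.mem_preimage, O'.2.fromSpec_preimage_basicOpen] at hzb
        exact hzb (hle hz)
      have h1 := hn 1 (by rw [Scheme.IdealSheafData.ideal_pow, Pi.pow_apply, htop, ← Ideal.one_eq_top, one_pow, Ideal.one_eq_top]; trivial)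
      rw [Ideal.mem_bot]
      exact (one_mul y).symm.trans h1
    rw [h0]
    exact Ideal.comap_bot_of_injective _ (ConcreteCategory.bijective_of_isIso (P.ι.appIso O.1).inv).1
  haveI : IsClosedImmersion (𝒥.subschemeι ∣_ P) := IsZariskiLocalAtTarget.restrict (P := @IsClosedImmersion) (show IsClosedImmersion 𝒥.subschemeι from inferInstance) P
  have hker : (𝒥.subschemeι ∣_ P).ker = ⊥ := by
    rw [← hbot, Scheme.IdealSheafData.comap, ← (isPullback_morphismRestrict 𝒥.subschemeι P).isoPullback_hom_fst,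
      Scheme.Hom.ker_comp_of_isIso]
  haveI : IsIso (𝒥.subschemeι ∣_ P).imageι := (Scheme.isIso_subschemeι_iff_eq_bot _).2 hker
  rw [← (𝒥.subschemeι ∣_ P).toImage_imageι]
  infer_instance

theorem exists_openImmersion [CompactSpace S] [QuasiSeparatedSpace S] (φ : X ⟶ S) [IsSeparated φ]
    [LocallyOfFiniteType φ] [QuasiCompact φ] (U : S.Opens) (hU : IsCompact (U : Set S)) [IsIso (φ ∣_ U)] :
    ∃ (𝓘 : S.IdealSheafData) (S' : Scheme.{u}) (b : S' ⟶ S), BlowUp.IsBlowUp b 𝓘 ∧ BlowUp.IsAdmissibleFor U 𝓘 ∧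
      (∀ x : S, x ∉ U → x ∈ 𝓘.support) ∧
      ∀ (X' : Scheme.{u}) (p₁ : X' ⟶ X) (p₂ : X' ⟶ S'), IsPullback p₁ p₂ φ b →
      ∀ (𝒥 : X'.IdealSheafData),
        (∀ (W : X'.affineOpens) (a : Γ(X', W.1)), a ∈ 𝒥.ideal W ↔
          BlowUp.KilledByPowerNear ((𝓘.comap φ).comap p₁) (Coh.structureModule X') W a) →
        IsOpenImmersion (𝒥.subschemeι ≫ p₂) ∧ IsIso ((𝒥.subschemeι ≫ p₂) ∣_ (b ⁻¹ᵁ U)) := by
  obtain ⟨𝓘₀, h₀, hsupp⟩ := exists_exact_admissible U hU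
  obtain ⟨𝓚, S', b, hb, hadm, H⟩ := exists_flattening_scheme_mul φ U hU 𝓘₀ h₀
  have hex : ∀ x : S, x ∉ U → x ∈ (𝓘₀ * 𝓚).support := fun x hx => by
    rw [Scheme.IdealSheafData.support_mul]
    exact Or.inl (hsupp x hx)
  refine ⟨_, S', b, hb, hadm, hex, fun X' p₁ p₂ hc 𝒥 hJ => ?_⟩
  haveI := (H X' p₁ p₂ hc 𝒥 hJ).1
  let D := (𝓘₀ * 𝓚).comap b
  have hD : (Scheme.IdealSheafData.support D).compl = b ⁻¹ᵁ U := by
    ext s
    show s ∉ D.support ↔ b s ∈ U
    rw [Scheme.IdealSheafData.support_comap]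
    exact ⟨fun h => by_contra fun h' => h (hex _ h'), fun h h' => Set.disjoint_left.1 hadm.2 h' h⟩
  haveI : IsIso (p₂ ∣_ (b ⁻¹ᵁ U)) := isIso_restrict_snd φ U b hc
  haveI : IsIso (𝒥.subschemeι ∣_ (p₂ ⁻¹ᵁ (b ⁻¹ᵁ U))) := isIso_subscheme_restrict _ 𝒥 hJ _ fun x hx h => by
    rw [← Scheme.IdealSheafData.comap_comp, hc.w, Scheme.IdealSheafData.support_comap] at h
    exact Set.disjoint_left.1 hadm.2 h hx
  haveI hiso : IsIso ((𝒥.subschemeι ≫ p₂) ∣_ (b ⁻¹ᵁ U)) := by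
    rw [morphismRestrict_comp]; infer_instance
  refine ⟨?_, hiso⟩
  obtain ⟨haff, hdom⟩ := S1571.result S' D hb.1
  rw [show (D.support.compl : S'.Opens) = b ⁻¹ᵁ U from hD] at haff hdom
  haveI := haff
  haveI := hdom
  haveI : IsSeparated p₂ := MorphismProperty.of_isPullback hc inferInstance
  haveI : LocallyOfFiniteType p₂ := MorphismProperty.of_isPullback hc inferInstance
  exact S0449.result (𝒥.subschemeι ≫ p₂) (b ⁻¹ᵁ U)

end Groth.Agent.RGBlowLib
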