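import Groth.Agent.RGBlowLib.NagataNoeth
import Groth.Agent.NApproxLib.Main
import Groth.Agent.S7395
import Groth.Agent.S0591
import Groth.Agent.S4804

/-!
# Nagata compactification
-/

set_option autoImplicit false
set_option linter.style.haveILetI false
set_option backward.isDefEq.respectTransparency false
set_option maxHeartbeats 800000

universe u

open CategoryTheory CategoryTheory.Limits AlgebraicGeometry TopologicalSpace

noncomputable section

namespace Groth.Agent.RGBlowLib

/-- Nagata compactification over a quasi-compact quasi-separated base. -/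
theorem compactifiable {X S : Scheme.{u}} (f : X ⟶ S) [CompactSpace S] [QuasiSeparatedSpace S] [IsSeparated f]
    [QuasiCompact f] [LocallyOfFiniteType f] : Compactifiable f := by
  obtain ⟨X', f', ι, hsep, hfp, hqc, hι, hιf⟩ := S7395.result f
  haveI := hsep
  haveI := hfp
  haveI := hqc
  haveI := hι
  obtain ⟨S₀, q, hq, hc, hft⟩ := NApproxLib.hasFTZ S
  haveI := hq
  haveI := hc
  haveI := NApproxLib.isLocallyNoetherian_of_isFTZ hft
  obtain ⟨hL⟩ := NApproxLib.nonempty_isLimit_cone q
  let D := NApproxLib.sys q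
  let c := NApproxLib.cone q
  haveI : ∀ k, CompactSpace (D.obj k) := fun k => NApproxLib.compactSpace_stage q k.unop
  haveI : ∀ k, IsLocallyNoetherian (D.obj k) := fun k =>
    NApproxLib.isLocallyNoetherian_of_isFTZ (NApproxLib.isFTZ_stage q hft k.unop)
  obtain ⟨i, Xi, fi, gi, hfip, hfiq, hfis, hpi⟩ := S0591.result D c hL X' f'
  haveI := hfip
  haveI := hfiq
  haveI := hfis
  have hY : IsPullback (c.π.app i) (𝟙 c.pt) (𝟙 (D.obj i)) (c.π.app i) := IsPullback.of_id_snd
  obtain ⟨k, a, Xk, Yk, fk, gk, pY, pX, hYk, hXk, hsepk⟩ :=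
    (S4804.result D c hL i fi (𝟙 (D.obj i)) f' (𝟙 _) (c.π.app i) gi hY hpi).1 hsep
  haveI := hsepk
  haveI : IsIso gk := MorphismProperty.of_isPullback (P := MorphismProperty.isomorphisms Scheme) hYk
    (show IsIso (𝟙 (D.obj i)) from inferInstance)
  have hpYk : pY = gk ≫ D.map a := by
    have := hYk.w
    rwa [Category.comp_id] at this
  let F : Xk ⟶ D.obj k := fk ≫ gk
  have hsq : IsPullback pY gk (𝟙 (D.obj i)) (D.map a) := hYk
  have hXF : IsPullback pX F fi (D.map a) := by
    have h := hXk.paste_vert hsq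
    rwa [Category.comp_id] at h
  haveI : LocallyOfFiniteType F := MorphismProperty.of_isPullback (P := @LocallyOfFiniteType) hXF inferInstance
  haveI : QuasiCompact F := MorphismProperty.of_isPullback (P := @QuasiCompact) hXF inferInstance
  haveI : IsSeparated F := MorphismProperty.comp_mem (W := @IsSeparated) _ _ hsepk inferInstance
  haveI : IsNoetherian (D.obj k) := ⟨⟩
  obtain ⟨Y, j, p, hj, hjqc, hp, hjp⟩ := compactifiable_of_noetherian F
  haveI := hj
  haveI := hjqc
  haveI := hp
  -- base change back to the limit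
  let gk' : X' ⟶ Xk := hXF.lift gi (f' ≫ c.π.app k) (by rw [Category.assoc, c.w a]; exact hpi.w)
  have hg1 : gk' ≫ pX = gi := hXF.lift_fst _ _ _
  have hg2 : gk' ≫ F = f' ≫ c.π.app k := hXF.lift_snd _ _ _
  have hpk : IsPullback gk' f' F (c.π.app k) :=
    IsPullback.of_right (by rw [hg1, c.w a]; exact hpi) hg2 hXF
  let p' := pullback.snd p (c.π.app k)
  haveI : IsProper p' := MorphismProperty.pullback_snd (P := @IsProper) _ _ inferInstance
  let j' : X' ⟶ pullback p (c.π.app k) :=
    pullback.lift (gk' ≫ j) f' (by rw [Category.assoc, hjp, hg2])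
  have hj' : IsPullback gk' j' j (pullback.fst p (c.π.app k)) :=
    (IsPullback.of_bot (by rw [pullback.lift_snd, hjp]; exact hpk) (by rw [pullback.lift_fst])
      (IsPullback.of_hasPullback p (c.π.app k)))
  haveI : IsOpenImmersion j' := MorphismProperty.of_isPullback (P := @IsOpenImmersion) hj' inferInstance
  haveI : QuasiCompact j' := MorphismProperty.of_isPullback (P := @QuasiCompact) hj' inferInstance
  exact Compactifiable.of_immersion (ι ≫ j') p' (by rw [Category.assoc, pullback.lift_snd, hιf])

/-- The open of a compactification can be made affine over it. -/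
theorem exists_affineHom_comp_proper {Y S : Scheme.{u}} (f : Y ⟶ S) [CompactSpace S] [QuasiSeparatedSpace S]
    [IsSeparated f] [QuasiCompact f] [LocallyOfFiniteType f] :
    ∃ (Z : Scheme.{u}) (g : Y ⟶ Z) (h : Z ⟶ S), IsAffineHom g ∧ IsProper h ∧ g ≫ h = f := by
  obtain ⟨Z₀, j, h₀, hj, hjqc, hh₀, hjh⟩ := compactifiable f
  haveI := hj
  haveI := hjqc
  haveI := hh₀
  haveI : CompactSpace Z₀ := QuasiCompact.compactSpace_of_compactSpace h₀
  haveI : QuasiSeparatedSpace Z₀ := quasiSeparatedSpace_of_quasiSeparated h₀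
  haveI : CompactSpace Y := QuasiCompact.compactSpace_of_compactSpace f
  obtain ⟨I, hI, hex⟩ := exists_exact_admissible j.opensRange (isCompact_range j.continuous)
  obtain ⟨Z, b, hb⟩ := S8859.result Z₀ I
  haveI : IsProper b := isProper_blowUp hb hI
  obtain ⟨j', hj'o, hj'b, hj'r⟩ := Union.exists_lift_open hb j hI
  haveI := hj'o
  haveI := (S1571.result Z (I.comap b) hb.1).1
  have hD : ((I.comap b).support.compl : Z.Opens) = j'.opensRange := by
    rw [hj'r]
    ext z
    show z ∉ (I.comap b).support ↔ b z ∈ j.opensRange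
    rw [Scheme.IdealSheafData.support_comap]
    exact ⟨fun h => by_contra fun h' => h (hex _ h'), fun h h' => Set.disjoint_left.1 hI.2 h' h⟩
  haveI : IsAffineHom j'.opensRange.ι := hD ▸ (S1571.result Z (I.comap b) hb.1).1
  haveI : IsAffineHom j' := by
    rw [← Scheme.Hom.isoOpensRange_hom_ι j']
    infer_instance
  exact ⟨Z, j', b ≫ h₀, inferInstance, MorphismProperty.comp_mem (W := @IsProper) _ _ inferInstance inferInstance,
    by rw [reassoc_of% hj'b, hjh]⟩

end Groth.Agent.RGBlowLib
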