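import Groth.Agent.RGBlowLib.Dominate
import Groth.Agent.RGBlowLib.Killed
import Groth.Agent.SchDenseLib.Basic
import Groth.Agent.S8857

/-!
# Extending sections after a blow-up
-/

set_option autoImplicit false
set_option linter.style.haveILetI false
set_option backward.isDefEq.respectTransparency false
set_option maxHeartbeats 1000000

universe u

open CategoryTheory CategoryTheory.Limits AlgebraicGeometry TopologicalSpace

noncomputable section

namespace Groth.Agent.RGBlowLib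

variable {X S : Scheme.{u}}

/-- A proper morphism which is an isomorphism over `U` is dominated by an admissible blow-up. -/
theorem exists_dominating [CompactSpace S] [QuasiSeparatedSpace S] (φ : X ⟶ S) [IsProper φ] (U : S.Opens)
    (hU : IsCompact (U : Set S)) [IsIso (φ ∣_ U)] :
    ∃ (𝓘 : S.IdealSheafData) (S' : Scheme.{u}) (b : S' ⟶ S), BlowUp.IsBlowUp b 𝓘 ∧ BlowUp.IsAdmissibleFor U 𝓘 ∧
      ∃ h : S' ⟶ X, h ≫ φ = b := by
  obtain ⟨𝓘, S', b, hb, hadm, -, H⟩ := exists_isIso_strict φ U hU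
  refine ⟨𝓘, S', b, hb, hadm, ?_⟩
  have hc := IsPullback.of_hasPullback φ b
  obtain ⟨𝒥, hJ⟩ := exists_killed_of_fg ((𝓘.comap φ).comap (pullback.fst φ b)) (by
    rw [← Scheme.IdealSheafData.comap_comp, pullback.condition, Scheme.IdealSheafData.comap_comp]
    exact ModPairLib.fg_of_isLP ((ModPairLib.isLP_of_cart hb.1).comap _))
  haveI := H _ _ _ hc 𝒥 hJ
  exact ⟨inv (𝒥.subschemeι ≫ pullback.snd φ b) ≫ 𝒥.subschemeι ≫ pullback.fst φ b, by
    simp only [Category.assoc, pullback.condition]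
    exact IsIso.inv_hom_id_assoc (𝒥.subschemeι ≫ pullback.snd φ b) b⟩

/-- The scheme-theoretic image of a section over an open is isomorphic to the open over it. -/
theorem isIso_image_restrict {W : Scheme.{u}} (f : X ⟶ W) [IsSeparated f] (U : W.Opens) [QuasiCompact U.ι]
    (t : (U : Scheme.{u}) ⟶ X) [QuasiCompact t] (ht : t ≫ f = U.ι) : IsIso ((t.imageι ≫ f) ∣_ U) := by
  let z : t.image ⟶ W := t.imageι ≫ f
  have hz : t.toImage ≫ z = U.ι := by rw [← Category.assoc, Scheme.Hom.toImage_imageι, ht]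
  let P : t.image.Opens := z ⁻¹ᵁ U
  haveI : IsSchemeTheoreticallyDominant t.toImage := SchDenseLib.toImage_dominant t
  haveI : IsSchemeTheoreticallyDominant (t.toImage ∣_ P) :=
    IsSchemeTheoreticallyDominant.of_isPullback (isPullback_morphismRestrict t.toImage P).flip
  haveI : IsIso (U.ι ∣_ U) := (isIso_iff_isOpenImmersion_and_surjective _).2
    ⟨inferInstance, ⟨fun y => ⟨⟨y, y.2⟩, U.ι.injective (by
      rw [← Scheme.Hom.comp_apply, morphismRestrict_ι]; rfl)⟩⟩⟩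
  haveI : IsIso ((t.toImage ≫ z) ∣_ U) := by rw [hz]; infer_instance
  haveI : IsClosedImmersion ((t.toImage ∣_ P) ≫ (z ∣_ U)) := by
    rw [← morphismRestrict_comp]
    infer_instance
  haveI : IsClosedImmersion (t.toImage ∣_ P) := IsClosedImmersion.of_comp _ (z ∣_ U)
  haveI : IsIso (t.toImage ∣_ P) := S0449.isIso_of_dominant _
  haveI : IsIso ((t.toImage ∣_ P) ≫ (z ∣_ U)) := by
    rw [← morphismRestrict_comp]
    infer_instance
  exact IsIso.of_isIso_comp_left (t.toImage ∣_ P) (z ∣_ U)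

/-- A section over `U` of a proper morphism extends after a `U`-admissible blow-up of the base. -/
theorem exists_extend_section [CompactSpace S] [QuasiSeparatedSpace S]
    (U W : S.Opens) (hUW : U ≤ W) (hU : IsCompact (U : Set S)) (hW : IsCompact (W : Set S))
    (f : X ⟶ (W : Scheme.{u})) [IsProper f] (s : (U : Scheme.{u}) ⟶ X) (hs : s ≫ f = S.homOfLE hUW) :
    ∃ (𝓘 : S.IdealSheafData) (S' : Scheme.{u}) (b : S' ⟶ S), BlowUp.IsBlowUp b 𝓘 ∧ BlowUp.IsAdmissibleFor U 𝓘 ∧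
      ∃ s' : ((b ⁻¹ᵁ W : S'.Opens) : Scheme.{u}) ⟶ X, s' ≫ f = b ∣_ W ∧
        S'.homOfLE (show b ⁻¹ᵁ U ≤ b ⁻¹ᵁ W from fun _ hx => hUW hx) ≫ s' = (b ∣_ U) ≫ s := by
  haveI : CompactSpace W := isCompact_iff_compactSpace.1 hW
  haveI : QuasiSeparatedSpace W := QuasiSeparatedSpace.of_isOpenEmbedding W.ι.isOpenEmbedding
  let U' : (W : Scheme.{u}).Opens := W.ι ⁻¹ᵁ U
  have hU' : IsCompact (U' : Set W) := by
    rw [W.ι.isOpenEmbedding.isEmbedding.isCompact_iff]
    convert hU using 1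
    ext x
    exact ⟨by rintro ⟨y, hy, rfl⟩; exact hy, fun hx => ⟨⟨x, hUW hx⟩, hx, rfl⟩⟩
  let ε : ((U' : (W : Scheme.{u}).Opens) : Scheme.{u}) ⟶ (U : Scheme.{u}) :=
    IsOpenImmersion.lift U.ι (U'.ι ≫ W.ι) (by
      rintro _ ⟨z, rfl⟩
      rw [Scheme.Opens.range_ι]
      exact z.2)
  have hε : ε ≫ U.ι = U'.ι ≫ W.ι := IsOpenImmersion.lift_fac _ _ _
  let t := ε ≫ s
  have ht : t ≫ f = U'.ι := by
    rw [← cancel_mono W.ι, Category.assoc, Category.assoc, reassoc_of% hs, Scheme.homOfLE_ι, hε]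
  haveI : QuasiCompact U'.ι := (quasiCompact_iff _).2 fun V hV hVc => by
    rw [U'.ι.isOpenEmbedding.isEmbedding.isCompact_iff, Set.image_preimage_eq_inter_range, Scheme.Opens.range_ι]
    exact hVc.inter_of_isOpen hU' hV U'.2
  haveI : QuasiCompact (t ≫ f) := by rw [ht]; infer_instance
  haveI : QuasiCompact t := QuasiCompact.of_comp t f
  let z := t.imageι ≫ f
  haveI : IsProper z := MorphismProperty.comp_mem (W := @IsProper) _ _ inferInstance inferInstance
  haveI hiso : IsIso (z ∣_ U') := isIso_image_restrict f U' t ht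
  obtain ⟨𝓘₀, W', b₀, hb₀, hadm₀, h, hh⟩ := exists_dominating z U' hU'
  obtain ⟨𝓘, hadm, hcomap, hres⟩ := S8857.result S U W hU hW 𝓘₀ hadm₀
  obtain ⟨S', b, hb⟩ := S8859.result S 𝓘
  obtain ⟨h₀, hh₀, -⟩ := hb₀.2 _ (b ∣_ W) (hres S' b hb).1
  let k : ((b ⁻¹ᵁ W : S'.Opens) : Scheme.{u}) ⟶ t.image := h₀ ≫ h
  have hk : k ≫ z = b ∣_ W := by rw [Category.assoc, hh, hh₀]
  refine ⟨𝓘, S', b, hb, hadm, k ≫ t.imageι, by rw [Category.assoc]; exact hk, ?_⟩
  -- both maps factor through the image over `U'`, where it is isomorphic to `U'`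
  let a := S'.homOfLE (show b ⁻¹ᵁ U ≤ b ⁻¹ᵁ W from fun _ hx => hUW hx)
  let η : (U : Scheme.{u}) ⟶ ((U' : (W : Scheme.{u}).Opens) : Scheme.{u}) :=
    IsOpenImmersion.lift U'.ι (S.homOfLE hUW) (by
      rintro _ ⟨y, rfl⟩
      rw [Scheme.Opens.range_ι]
      show W.ι (S.homOfLE hUW y) ∈ U
      rw [← Scheme.Hom.comp_apply, Scheme.homOfLE_ι]
      exact y.2)
  have hη : η ≫ U'.ι = S.homOfLE hUW := IsOpenImmersion.lift_fac _ _ _
  have hηε : η ≫ ε = 𝟙 _ := by
    rw [← cancel_mono U.ι, Category.assoc, hε, reassoc_of% hη, Scheme.homOfLE_ι, Category.id_comp]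
  let k₂ : ((b ⁻¹ᵁ U : S'.Opens) : Scheme.{u}) ⟶ t.image := (b ∣_ U) ≫ η ≫ t.toImage
  have hk₂ : k₂ ≫ t.imageι = (b ∣_ U) ≫ s := by
    simp only [k₂, Category.assoc, Scheme.Hom.toImage_imageι]
    rw [show η ≫ t = s by simp only [t, reassoc_of% hηε]]
  have heq : (a ≫ k) ≫ z = k₂ ≫ z := by
    rw [Category.assoc, hk, show k₂ ≫ z = (b ∣_ U) ≫ S.homOfLE hUW by
      rw [← Category.assoc, hk₂, Category.assoc, hs], ← cancel_mono W.ι]
    simp only [a, Category.assoc, morphismRestrict_ι, Scheme.homOfLE_ι]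
    rw [← Category.assoc, Scheme.homOfLE_ι]
  have hr : ∀ m : ((b ⁻¹ᵁ U : S'.Opens) : Scheme.{u}) ⟶ t.image, m ≫ z = k₂ ≫ z →
      Set.range m ⊆ Set.range (z ⁻¹ᵁ U').ι := fun m hm => by
    rintro _ ⟨y, rfl⟩
    rw [Scheme.Opens.range_ι]
    show z (m y) ∈ U'
    rw [← Scheme.Hom.comp_apply, hm]
    have : k₂ ≫ z = (b ∣_ U) ≫ η ≫ U'.ι := by
      simp only [k₂, z, Category.assoc, Scheme.Hom.toImage_imageι_assoc, ht]
    rw [this]
    exact (((b ∣_ U) ≫ η) y).2
  have hlift : IsOpenImmersion.lift (z ⁻¹ᵁ U').ι (a ≫ k) (hr _ heq) = IsOpenImmersion.lift (z ⁻¹ᵁ U').ι k₂ (hr _ rfl) := by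
    rw [← cancel_mono (z ∣_ U'), ← cancel_mono U'.ι]
    simp only [Category.assoc, morphismRestrict_ι, IsOpenImmersion.lift_fac_assoc]
    simpa only [Category.assoc] using heq
  have hfin : a ≫ k = k₂ := by
    rw [← IsOpenImmersion.lift_fac (z ⁻¹ᵁ U').ι (a ≫ k) (hr _ heq), hlift, IsOpenImmersion.lift_fac]
  rw [← hk₂, ← hfin]
  simp only [a, k, Category.assoc]

end Groth.Agent.RGBlowLib
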