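import Mathlib
import Groth.Prelude.Def_FlatCA

/-!
# Base changes of modules over an algebra and their quotients by torsion
-/

set_option autoImplicit false
set_option linter.style.haveILetI false
set_option backward.isDefEq.respectTransparency false
set_option maxHeartbeats 1000000

universe u

open TensorProduct

noncomputable section

namespace Groth.Agent.RGBlowLib

attribute [local instance] Algebra.TensorProduct.rightAlgebra

variable (R B M D : Type u) [CommRing R] [CommRing B] [Algebra R B] [AddCommGroup M] [Module B M] [Module R M]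
  [IsScalarTower R B M] [CommRing D] [Algebra R D]

/-- The base change of a module over an `R`-algebra along `R → D`. -/
abbrev BC : Type u := (D ⊗[R] B) ⊗[B] M

/-- It is the base change of the underlying `R`-module. -/
def bcEquiv : BC R B M D ≃ₗ[D] D ⊗[R] M := Algebra.IsPushout.cancelBaseChange R D B (D ⊗[R] B) M

theorem bcEquiv_symm_tmul (d : D) (m : M) : (bcEquiv R B M D).symm (d ⊗ₜ m) = (d ⊗ₜ (1 : B)) ⊗ₜ m := by
  simp [bcEquiv, Algebra.TensorProduct.algebraMap_apply, Algebra.IsPushout.cancelBaseChange_symm_tmul]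

/-- The torsion with respect to the image of `a`. -/
abbrev tors (a : R) : Submodule (D ⊗[R] B) (BC R B M D) :=
  FlatCA.powTorsion (D ⊗[R] B) (algebraMap R (D ⊗[R] B) a) (BC R B M D)

variable {R B M D}

theorem mem_powTorsion {S N : Type u} [CommRing S] [AddCommGroup N] [Module S N] {x : S} {z : N} :
    z ∈ FlatCA.powTorsion S x N ↔ ∃ n : ℕ, x ^ n • z = 0 := by
  have hmono : Directed (· ≤ ·) fun n : ℕ => Submodule.torsionBy S N (x ^ n) :=
    Monotone.directed_le fun m n hmn y hy => by
      rw [Submodule.mem_torsionBy_iff] at hy ⊢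
      obtain ⟨k, rfl⟩ := Nat.exists_eq_add_of_le hmn
      rw [pow_add, mul_comm, mul_smul, hy, smul_zero]
  rw [FlatCA.powTorsion, Submodule.mem_iSup_of_directed _ hmono]
  simp [Submodule.mem_torsionBy_iff]

theorem algebraMap_pow_smul {a : R} (n : ℕ) (z : BC R B M D) :
    algebraMap R (D ⊗[R] B) a ^ n • z = algebraMap R D a ^ n • z := by
  rw [← map_pow, ← map_pow, IsScalarTower.algebraMap_apply R D (D ⊗[R] B), algebraMap_smul]

theorem mem_tors {a : R} {z : BC R B M D} : z ∈ tors R B M D a ↔ ∃ n : ℕ, algebraMap R D a ^ n • z = 0 := by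
  rw [mem_powTorsion]
  simp only [algebraMap_pow_smul]

/-- The quotient by torsion has no torsion. -/
theorem quot_eq_zero_of_smul {a : R} (q : BC R B M D ⧸ tors R B M D a) (h : algebraMap R D a • q = 0) : q = 0 := by
  obtain ⟨z, rfl⟩ := Submodule.Quotient.mk_surjective _ q
  rw [← Submodule.Quotient.mk_smul, Submodule.Quotient.mk_eq_zero, mem_tors] at h
  obtain ⟨n, hn⟩ := h
  rw [Submodule.Quotient.mk_eq_zero, mem_tors]
  exact ⟨n + 1, by rw [pow_succ, mul_smul]; exact hn⟩

section Map

variable {G : Type u} [CommRing G] [Algebra R G] (φ : G →ₐ[R] D)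

/-- The map of algebras induced by `φ`. -/
abbrev mapAlg : G ⊗[R] B →ₐ[R] D ⊗[R] B := Algebra.TensorProduct.map φ (AlgHom.id R B)

theorem mapAlg_includeRight (b : B) :
    mapAlg φ (algebraMap B (G ⊗[R] B) b) = algebraMap B (D ⊗[R] B) b := by
  simp [RingHom.algebraMap_toAlgebra]

/-- The map of base changes induced by `φ`. -/
def mapBC : BC R B M G →ₗ[B] BC R B M D :=
  LinearMap.rTensor M
    { toFun := mapAlg φ
      map_add' := map_add _
      map_smul' := fun b x => by
        rw [RingHom.id_apply, Algebra.smul_def, map_mul, mapAlg_includeRight, ← Algebra.smul_def] }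

theorem mapBC_tmul (x : G ⊗[R] B) (m : M) : mapBC φ (x ⊗ₜ[B] m) = mapAlg φ x ⊗ₜ m := rfl

theorem mapBC_smul (e : G ⊗[R] B) (z : BC R B M G) : mapBC φ (e • z) = mapAlg φ e • mapBC φ z := by
  induction z using TensorProduct.induction_on with
  | zero => simp
  | tmul x m => rw [smul_tmul', mapBC_tmul, mapBC_tmul, smul_tmul', smul_eq_mul, smul_eq_mul, map_mul]
  | add x y hx hy => rw [smul_add, map_add, map_add, hx, hy, smul_add]

theorem mapBC_bcEquiv_symm (y : G ⊗[R] M) :
    mapBC φ ((bcEquiv R B M G).symm y) = (bcEquiv R B M D).symm (φ.toLinearMap.rTensor M y) := by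
  induction y using TensorProduct.induction_on with
  | zero => simp
  | tmul g m =>
    rw [bcEquiv_symm_tmul, mapBC_tmul, LinearMap.rTensor_tmul, bcEquiv_symm_tmul]
    simp
  | add x y hx hy => simp only [map_add, hx, hy]

theorem mapBC_algebraMap_smul (r : R) (n : ℕ) (z : BC R B M G) :
    mapBC φ (algebraMap R G r ^ n • z) = algebraMap R D r ^ n • mapBC φ z := by
  rw [← algebraMap_pow_smul, mapBC_smul, map_pow, AlgHom.commutes, algebraMap_pow_smul]

/-- The quotient by the span of the images is the base change of the quotient. -/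
theorem nonempty_quot_equiv (κ : Set (BC R B M G)) :
    letI := φ.toRingHom.toAlgebra
    Nonempty ((D ⊗[G] (BC R B M G ⧸ Submodule.span (G ⊗[R] B) κ)) ≃ₗ[D]
      (BC R B M D ⧸ Submodule.span (D ⊗[R] B) (mapBC φ '' κ))) := by
  letI : Algebra G D := φ.toRingHom.toAlgebra
  haveI : IsScalarTower R G D := .of_algebraMap_eq fun r => (φ.commutes r).symm
  let ψ := mapAlg (B := B) φ
  letI : Algebra (G ⊗[R] B) (D ⊗[R] B) := ψ.toRingHom.toAlgebra
  haveI : IsScalarTower R (G ⊗[R] B) (D ⊗[R] B) := .of_algebraMap_eq fun r => (ψ.commutes r).symm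
  haveI : IsScalarTower G (G ⊗[R] B) (D ⊗[R] B) := .of_algebraMap_eq fun g => by
    show algebraMap D (D ⊗[R] B) (φ g) = ψ (g ⊗ₜ 1)
    simp [ψ, Algebra.TensorProduct.algebraMap_apply]
  haveI : IsScalarTower B (G ⊗[R] B) (D ⊗[R] B) := .of_algebraMap_eq fun b => (mapAlg_includeRight φ b).symm
  haveI : Algebra.IsPushout R B G (G ⊗[R] B) := inferInstance
  haveI : Algebra.IsPushout R D B (D ⊗[R] B) := inferInstance
  haveI : Algebra.IsPushout R B D (D ⊗[R] B) := Algebra.IsPushout.symm inferInstance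
  haveI : Algebra.IsPushout R G B (G ⊗[R] B) := inferInstance
  haveI hpo : Algebra.IsPushout G D (G ⊗[R] B) (D ⊗[R] B) :=
    (Algebra.IsPushout.comp_iff (R := R) (S := G) (R' := B) (S' := G ⊗[R] B) (T := D)).1 inferInstance
  let g : BC R B M G →ₗ[G ⊗[R] B] BC R B M D :=
    AlgebraTensorModule.map (Algebra.linearMap (G ⊗[R] B) (D ⊗[R] B)) (LinearMap.id : M →ₗ[B] M)
  have hg : ∀ z, g z = mapBC φ z := fun z => by
    induction z using TensorProduct.induction_on with
    | zero => simp
    | tmul x m => rfl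
    | add x y hx hy => rw [map_add, map_add, hx, hy]
  have hbc : IsBaseChange (D ⊗[R] B) g := by
    refine IsBaseChange.of_comp (f := TensorProduct.mk B (G ⊗[R] B) M 1) (TensorProduct.isBaseChange B M _) ?_
    have he : (g.restrictScalars B).comp (TensorProduct.mk B (G ⊗[R] B) M 1) = TensorProduct.mk B (D ⊗[R] B) M 1 :=
      LinearMap.ext fun m => by simp [g]
    rw [he]
    exact TensorProduct.isBaseChange B M _
  let K := Submodule.span (G ⊗[R] B) κ
  let K' := Submodule.span (D ⊗[R] B) (mapBC φ '' κ)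
  have hK : K ≤ (K'.restrictScalars (G ⊗[R] B)).comap g := Submodule.span_le.2 fun z hz => by
    simp only [SetLike.mem_coe, Submodule.mem_comap, Submodule.restrictScalars_mem, hg]
    exact Submodule.subset_span ⟨z, hz, rfl⟩
  let q : BC R B M G ⧸ K →ₗ[G ⊗[R] B] BC R B M D ⧸ K' :=
    K.liftQ ((K'.mkQ.restrictScalars (G ⊗[R] B)).comp g) fun z hz => by
      simpa [Submodule.Quotient.mk_eq_zero] using hK hz
  let f₁ : BC R B M D →ₗ[D ⊗[R] B] (D ⊗[R] B) ⊗[G ⊗[R] B] (BC R B M G ⧸ K) :=
    hbc.lift ((TensorProduct.mk (G ⊗[R] B) (D ⊗[R] B) _ 1).comp K.mkQ)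
  have hf₁ : K' ≤ LinearMap.ker f₁ := Submodule.span_le.2 (by
    rintro _ ⟨z, hz, rfl⟩
    rw [SetLike.mem_coe, LinearMap.mem_ker, ← hg]
    show hbc.lift _ (g z) = 0
    rw [hbc.lift_eq, LinearMap.comp_apply, Submodule.mkQ_apply,
      (Submodule.Quotient.mk_eq_zero K).2 (Submodule.subset_span hz), map_zero])
  let e : (D ⊗[R] B) ⊗[G ⊗[R] B] (BC R B M G ⧸ K) ≃ₗ[D ⊗[R] B] BC R B M D ⧸ K' :=
    LinearEquiv.ofLinearMap (q.liftBaseChange (D ⊗[R] B)) (K'.liftQ f₁ hf₁)
      (by
        refine Submodule.linearMap_qext _ (hbc.algHom_ext _ _ fun z => ?_)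
        show q.liftBaseChange (D ⊗[R] B) (f₁ (g z)) = K'.mkQ (g z)
        show q.liftBaseChange (D ⊗[R] B) (hbc.lift _ (g z)) = _
        rw [hbc.lift_eq]
        simp [q])
      (by
        refine LinearMap.ext fun w => ?_
        induction w using TensorProduct.induction_on with
        | zero => simp
        | add x y hx hy => rw [map_add, map_add, hx, hy]
        | tmul x y =>
        obtain ⟨z, rfl⟩ := Submodule.Quotient.mk_surjective K y
        rw [show x ⊗ₜ[G ⊗[R] B] (Submodule.Quotient.mk z : BC R B M G ⧸ K) =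
          x • ((1 : D ⊗[R] B) ⊗ₜ[G ⊗[R] B] (Submodule.Quotient.mk z : BC R B M G ⧸ K)) by simp [smul_tmul'],
          map_smul, map_smul, LinearMap.id_apply]
        congr 1
        show K'.liftQ f₁ hf₁ (q.liftBaseChange (D ⊗[R] B) (1 ⊗ₜ Submodule.Quotient.mk z)) = _
        simp only [LinearMap.liftBaseChange_tmul, one_smul, q, Submodule.liftQ_apply, LinearMap.comp_apply,
          LinearMap.coe_restrictScalars, Submodule.mkQ_apply]
        show hbc.lift _ (g z) = _
        rw [hbc.lift_eq]
        rfl)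
  exact ⟨(Algebra.IsPushout.cancelBaseChange G D (G ⊗[R] B) (D ⊗[R] B) (BC R B M G ⧸ K)).symm.trans
    (e.restrictScalars D)⟩

end Map

end Groth.Agent.RGBlowLib
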