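import Groth.Agent.RGBlowLib.Nagata
import Groth.Agent.S1279

/-!
# Refinements of compactifications
-/

set_option autoImplicit false
set_option linter.style.haveILetI false
set_option backward.isDefEq.respectTransparency false
set_option maxHeartbeats 800000

universe u v

open CategoryTheory CategoryTheory.Limits AlgebraicGeometry TopologicalSpace

noncomputable section

namespace Groth.Agent.RGBlowLib

variable {X S Y : Scheme.{u}}

/-- An immersion into a proper scheme gives a dense open immersion into a proper scheme. -/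
theorem exists_dense_compactification {P : Scheme.{u}} (h : X ⟶ P) [IsImmersion h] [QuasiCompact h]
    (p : P ⟶ S) [IsProper p] :
    ∃ (Xb : Scheme.{u}) (j : X ⟶ Xb) (i : Xb ⟶ P), IsOpenImmersion j ∧ DenseRange j ∧ j ≫ i = h ∧
      IsProper (i ≫ p) ∧ IsClosedImmersion i :=
  ⟨h.image, h.toImage, h.imageι, inferInstance, h.toImage.denseRange, h.toImage_imageι,
    MorphismProperty.comp_mem (W := @IsProper) _ _ inferInstance inferInstance, inferInstance⟩

/-- A compactification mapping to two given ones. -/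
theorem exists_compactification_over₂ [CompactSpace S] [QuasiSeparatedSpace S] (f : X ⟶ S) [IsSeparated f]
    [QuasiCompact f] [LocallyOfFiniteType f] {Y₁ Y₂ : Scheme.{u}} (q₁ : Y₁ ⟶ S) (q₂ : Y₂ ⟶ S) [IsProper q₁]
    [IsProper q₂] (a₁ : X ⟶ Y₁) (a₂ : X ⟶ Y₂) (h₁ : a₁ ≫ q₁ = f) (h₂ : a₂ ≫ q₂ = f) :
    ∃ (Xb : Scheme.{u}) (p : Xb ⟶ S) (j : X ⟶ Xb) (b₁ : Xb ⟶ Y₁) (b₂ : Xb ⟶ Y₂),
      IsProper p ∧ IsOpenImmersion j ∧ DenseRange j ∧ j ≫ p = f ∧
      b₁ ≫ q₁ = p ∧ b₂ ≫ q₂ = p ∧ j ≫ b₁ = a₁ ∧ j ≫ b₂ = a₂ := by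
  obtain ⟨X₀, j₀, p₀, hj₀, hj₀c, hp₀, hj₀p⟩ := compactifiable f
  haveI := hj₀
  haveI := hj₀c
  haveI := hp₀
  let r := pullback.snd p₀ q₁ ≫ q₁
  haveI : IsProper (pullback.snd p₀ q₁) := MorphismProperty.pullback_snd (P := @IsProper) _ _ inferInstance
  haveI : IsProper r := MorphismProperty.comp_mem (W := @IsProper) _ _ inferInstance inferInstance
  haveI : IsProper (pullback.snd r q₂) := MorphismProperty.pullback_snd (P := @IsProper) _ _ inferInstance
  haveI : IsProper (pullback.fst p₀ q₁) := MorphismProperty.pullback_fst (P := @IsProper) _ _ inferInstance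
  haveI : IsProper (pullback.fst r q₂) := MorphismProperty.pullback_fst (P := @IsProper) _ _ inferInstance
  let h : X ⟶ pullback r q₂ := pullback.lift (pullback.lift j₀ a₁ (hj₀p.trans h₁.symm)) a₂
    (by simp only [r, pullback.lift_snd_assoc]; rw [h₁, h₂])
  let π : pullback r q₂ ⟶ X₀ := pullback.fst r q₂ ≫ pullback.fst p₀ q₁
  haveI : IsProper π := MorphismProperty.comp_mem (W := @IsProper) _ _ inferInstance inferInstance
  have hπ : h ≫ π = j₀ := by simp [h, π]
  haveI : IsImmersion (h ≫ π) := by rw [hπ]; infer_instance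
  haveI : IsImmersion h := IsImmersion.of_comp h π
  haveI : QuasiCompact (h ≫ π) := by rw [hπ]; infer_instance
  haveI : QuasiCompact h := QuasiCompact.of_comp h π
  haveI : IsProper (pullback.snd r q₂ ≫ q₂) := MorphismProperty.comp_mem (W := @IsProper) _ _ inferInstance inferInstance
  obtain ⟨Xb, j, i, hj, hd, hji, hp, -⟩ := exists_dense_compactification h (pullback.snd r q₂ ≫ q₂)
  refine ⟨Xb, i ≫ pullback.snd r q₂ ≫ q₂, j, i ≫ pullback.fst r q₂ ≫ pullback.snd p₀ q₁, i ≫ pullback.snd r q₂,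
    hp, hj, hd, ?_, ?_, ?_, ?_, ?_⟩
  · rw [reassoc_of% hji]; simp [h, h₂]
  · simp only [Category.assoc]
    show i ≫ pullback.fst r q₂ ≫ r = _
    rw [pullback.condition]
  · simp only [Category.assoc]
  · rw [reassoc_of% hji]; simp [h]
  · rw [reassoc_of% hji]; simp [h]

/-- Compactifications in which finitely many disjoint pairs of closed subsets stay disjoint. -/
theorem exists_compactification_separating [IsNoetherian S] (f : X ⟶ S) [IsSeparated f] [QuasiCompact f]
    [LocallyOfFiniteType f] {ι : Type v} [Finite ι] (C₁ C₂ : ι → Set X) (h₁ : ∀ i, IsClosed (C₁ i))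
    (h₂ : ∀ i, IsClosed (C₂ i)) (hd : ∀ i, C₁ i ∩ C₂ i = ∅) :
    ∃ (Xb : Scheme.{u}) (j : X ⟶ Xb) (p : Xb ⟶ S),
      IsProper p ∧ IsOpenImmersion j ∧ DenseRange j ∧ j ≫ p = f ∧
      ∀ i, closure (j '' C₁ i) ∩ closure (j '' C₂ i) = ∅ := by
  classical
  haveI : Fintype ι := Fintype.ofFinite ι
  have key : ∀ t : Finset ι, ∃ (Xb : Scheme.{u}) (j : X ⟶ Xb) (p : Xb ⟶ S),
      IsProper p ∧ IsOpenImmersion j ∧ j ≫ p = f ∧ ∀ i ∈ t, closure (j '' C₁ i) ∩ closure (j '' C₂ i) = ∅ := by
    intro t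
    induction t using Finset.induction_on with
    | empty =>
      obtain ⟨Xb, j, p, hj, -, hp, hjp⟩ := compactifiable_of_noetherian f
      exact ⟨Xb, j, p, hp, hj, hjp, fun i hi => absurd hi (Finset.notMem_empty i)⟩
    | insert a t hat ih =>
      obtain ⟨Xb, j, p, hp, hj, hjp, ht⟩ := ih
      haveI := hp
      haveI := hj
      haveI : IsNoetherian Xb := Union.isNoetherian_of_ft p
      haveI : NoetherianSpace Xb := inferInstance
      let O := j.opensRange
      haveI : NoetherianSpace O := NoetherianSpace.set (O : Set Xb)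
      have hcl : ∀ C : Set X, IsClosed C → IsClosed (Subtype.val ⁻¹' (j '' C) : Set O) := fun C hC => by
        obtain ⟨K, hK, rfl⟩ := j.isOpenEmbedding.isInducing.isClosed_iff.1 hC
        have e : (Subtype.val ⁻¹' (j '' (j ⁻¹' K)) : Set O) = Subtype.val ⁻¹' K := by
          refine Set.ext fun y => ?_
          obtain ⟨x, hx⟩ := y.2
          exact ⟨fun ⟨x', hx', e⟩ => (show y.1 ∈ K from e ▸ hx'),
            fun h => ⟨x, (show j x ∈ K from hx.symm ▸ h), hx⟩⟩
        rw [e]
        exact hK.preimage continuous_subtype_val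
      have hcon : ∀ {T : Set O}, IsClosed T → Topology.IsConstructible T := fun {T} hT =>
        Topology.IsConstructible.of_compl ((NoetherianSpace.isCompact _).isConstructible hT.isOpen_compl)
      obtain ⟨I, X', b, hb, hI, hdisj⟩ := S1279.result O (NoetherianSpace.isCompact _) _ _ (hcl _ (h₁ a)) (hcl _ (h₂ a))
        (hcon (hcl _ (h₁ a))) (hcon (hcl _ (h₂ a))) (Set.disjoint_left.2 fun y ⟨x, hx, e⟩ ⟨x', hx', e'⟩ => by
          have : x = x' := j.isOpenEmbedding.injective (e.trans e'.symm)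
          exact Set.eq_empty_iff_forall_notMem.1 (hd a) x ⟨hx, this ▸ hx'⟩)
      haveI : IsProper b := isProper_blowUp hb hI
      obtain ⟨j', hj'o, hj'b, hj'r⟩ := Union.exists_lift_open hb j hI
      have hsub : ∀ C : Set X, closure (j' '' C) ⊆ b ⁻¹' closure (j '' C) := fun C => by
        refine closure_minimal ?_ (isClosed_closure.preimage b.continuous)
        rintro _ ⟨x, hx, rfl⟩
        exact subset_closure ⟨x, hx, by rw [← Scheme.Hom.comp_apply, hj'b]⟩
      have hsub' : ∀ C : Set X, closure (j' '' C) ⊆ closure (b ⁻¹' (Subtype.val '' (Subtype.val ⁻¹' (j '' C) : Set O))) :=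
        fun C => closure_mono <| by
          rintro _ ⟨x, hx, rfl⟩
          exact ⟨⟨j x, x, rfl⟩, ⟨x, hx, rfl⟩, by rw [← Scheme.Hom.comp_apply, hj'b]⟩
      refine ⟨X', j', b ≫ p, MorphismProperty.comp_mem (W := @IsProper) _ _ inferInstance inferInstance, hj'o,
        by rw [reassoc_of% hj'b, hjp], fun i hi => Set.eq_empty_iff_forall_notMem.2 fun y ⟨hy₁, hy₂⟩ => ?_⟩
      rcases Finset.mem_insert.1 hi with rfl | hi
      · exact Set.disjoint_left.1 hdisj (hsub' _ hy₁) (hsub' _ hy₂)
      · exact Set.eq_empty_iff_forall_notMem.1 (ht i hi) (b y) ⟨hsub _ hy₁, hsub _ hy₂⟩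
  obtain ⟨Xb, j, p, hp, hj, hjp, h⟩ := key Finset.univ
  haveI := hp
  haveI := hj
  haveI : IsNoetherian Xb := Union.isNoetherian_of_ft p
  haveI : IsNoetherian X := Union.isNoetherian_of_ft f
  obtain ⟨Xd, jd, i, hjd, hdr, hji, hpd, -⟩ := exists_dense_compactification j p
  refine ⟨Xd, jd, i ≫ p, hpd, hjd, hdr, by rw [reassoc_of% hji, hjp], fun k =>
    Set.eq_empty_iff_forall_notMem.2 fun y ⟨hy₁, hy₂⟩ => ?_⟩
  have hsub : ∀ C : Set X, closure (jd '' C) ⊆ i ⁻¹' closure (j '' C) := fun C => by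
    refine closure_minimal ?_ (isClosed_closure.preimage i.continuous)
    rintro _ ⟨x, hx, rfl⟩
    exact subset_closure ⟨x, hx, by rw [← Scheme.Hom.comp_apply, hji]⟩
  exact Set.eq_empty_iff_forall_notMem.1 (h k (Finset.mem_univ k)) (i y) ⟨hsub _ hy₁, hsub _ hy₂⟩

/-- A blow-up making the boundary of a compactification an effective Cartier divisor. -/
theorem exists_cartier_boundary [CompactSpace S] [QuasiSeparatedSpace S] {Xb : Scheme.{u}} (j : X ⟶ Xb)
    [IsOpenImmersion j] [QuasiCompact j] (p : Xb ⟶ S) [IsProper p] :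
    ∃ (X' : Scheme.{u}) (j' : X ⟶ X') (b : X' ⟶ Xb) (E : X'.IdealSheafData),
      IsOpenImmersion j' ∧ IsProper b ∧ j' ≫ b = j ∧ BlowUp.IsEffCartierIdeal E ∧
      (E.support : Set X') = (Set.range j')ᶜ := by
  haveI : CompactSpace Xb := QuasiCompact.compactSpace_of_compactSpace p
  haveI : QuasiSeparatedSpace Xb := quasiSeparatedSpace_of_quasiSeparated p
  have hc : IsCompact (j.opensRange : Set Xb) := by
    haveI : CompactSpace X := QuasiCompact.compactSpace_of_compactSpace j
    exact isCompact_range j.continuous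
  obtain ⟨I, hI, hex⟩ := exists_exact_admissible j.opensRange hc
  obtain ⟨X', b, hb⟩ := S8859.result Xb I
  obtain ⟨j', hj'o, hj'b, hj'r⟩ := Union.exists_lift_open hb j hI
  refine ⟨X', j', b, I.comap b, hj'o, isProper_blowUp hb hI, hj'b, hb.1, ?_⟩
  rw [Scheme.IdealSheafData.support_comap]
  ext z
  constructor
  · intro hz hzr
    exact Set.disjoint_left.1 hI.2 (show b z ∈ I.support from hz) (hj'r.le hzr)
  · intro hz
    exact hex _ fun h => hz (hj'r.ge h)

end Groth.Agent.RGBlowLib
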