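import Groth.Agent.RGBlowLib.CompactLemmas
import Groth.Agent.RGBlowLib.Sheaf
import Groth.Agent.RGBlowLib.Main
import Groth.Agent.PullbackMod.LimFree
import Groth.Agent.TildePerf.Amp
import Groth.Agent.QCohLib.Coherent
import Groth.Agent.QCohLib.FiniteType
import Groth.Agent.S2252

/-!
# Extending vector bundles to compactifications
-/

set_option autoImplicit false
set_option linter.style.haveILetI false
set_option backward.isDefEq.respectTransparency false
set_option maxHeartbeats 800000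

universe u v

open CategoryTheory CategoryTheory.Limits AlgebraicGeometry TopologicalSpace
open Groth.Agent.CohBase

noncomputable section

namespace Groth.Agent.RGBlowLib

variable {X : Scheme.{u}}

theorem isFinLocFree_congr {M N : X.Modules} (e : M ≅ N) (h : FlatMod.IsFinLocFree M) :
    FlatMod.IsFinLocFree N := fun x => by
  obtain ⟨U, n, hxU, ⟨i⟩⟩ := h x
  exact ⟨U, n, hxU, ⟨(Scheme.Modules.restrictFunctor U.ι).mapIso e.symm ≪≫ i⟩⟩

/-- The quotient by the sections killed by powers of an ideal of finite type. -/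
theorem exists_kill_quotient (E : X.IdealSheafData) (hE : BlowUp.IsFiniteTypeIdeal E) (P : X.Modules)
    [Coh.IsQCoh P] :
    ∃ (G : X.Modules) (π : P ⟶ G), Epi π ∧
      (∀ (V : X.affineOpens) (m : Γ(P, V.1)), π.app V.1 m = 0 ↔ BlowUp.KilledByPowerNear E P V m) ∧
      ∀ {T : Scheme.{u}} (t : T ⟶ X), (∀ z : T, t z ∉ E.support) → IsIso ((Scheme.Modules.pullback t).map π) := by
  let W : X.Opens := E.support.compl
  let adj := Scheme.Modules.restrictAdjunction W.ι
  let η : P ⟶ (Scheme.Modules.pushforward W.ι).obj ((Scheme.Modules.restrictFunctor W.ι).obj P) := adj.unit.app P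
  let π := Abelian.factorThruImage η
  let R := Scheme.Modules.restrictFunctor W.ι
  have hinj : ∀ V : X.Opens, Function.Injective ((Abelian.image.ι η).app V) :=
    QCohLib.app_injective (S := ShortComplex.mk (Abelian.image.ι η) (cokernel.π η) (kernel.condition _))
      (ShortComplex.ShortExact.mk' (ShortComplex.exact_of_f_is_kernel _ (kernelIsKernel _))
        (inferInstanceAs (Mono (Abelian.image.ι η))) (inferInstanceAs (Epi (cokernel.π η))))
  refine ⟨Abelian.image η, π, inferInstance, fun V m => ?_, fun {T} t ht => ?_⟩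
  · have hz : π.app V.1 m = 0 ↔
        P.presheaf.map (homOfLE (W.ι.image_preimage_le V.1)).op m = 0 := by
      have e : (Abelian.image.ι η).app V.1 (π.app V.1 m) =
          P.presheaf.map (homOfLE (W.ι.image_preimage_le V.1)).op m := by
        show ((π ≫ Abelian.image.ι η).app V.1) m = _
        rw [Abelian.image.fac]
        rfl
      refine ⟨fun h => by rw [← e, h, map_zero], fun h => hinj _ ?_⟩
      rw [e, h, map_zero]
    rw [hz]
    have himg : ∀ x : X, x ∈ W.ι ''ᵁ (W.ι ⁻¹ᵁ V.1) ↔ x ∈ V.1 ∧ x ∉ E.support := fun x => by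
      constructor
      · rintro ⟨y, hy, rfl⟩
        exact ⟨hy, y.2⟩
      · rintro ⟨hx, hx'⟩
        exact ⟨⟨x, hx'⟩, hx, rfl⟩
    have hD : ∀ e ∈ E.ideal V, X.basicOpen e ≤ W.ι ''ᵁ (W.ι ⁻¹ᵁ V.1) := fun e he x hx => by
      have hxV := X.basicOpen_le e hx
      refine (himg x).2 ⟨hxV, fun hs => ?_⟩
      exact (Scheme.mem_zeroLocus_iff _ _ _).1 ((E.coe_support_inter V).le ⟨hs, hxV⟩).1 e he hx
    constructor
    · intro h
      let J : Ideal Γ(X, V.1) := LinearMap.ker (LinearMap.toSpanSingleton Γ(X, V.1) Γ(P, V.1) m)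
      have hJ : E.ideal V ≤ J.radical := fun e he => by
        obtain ⟨n, hn⟩ := (QCohLib.locAt P V.2).kill e m (by
          rw [show (homOfLE (X.basicOpen_le e)).op =
            (homOfLE (W.ι.image_preimage_le V.1)).op ≫ (homOfLE (hD e he)).op from rfl, Functor.map_comp]
          show P.presheaf.map (homOfLE (hD e he)).op (P.presheaf.map _ m) = 0
          rw [h, map_zero])
        rw [sc_apply] at hn
        exact ⟨n, LinearMap.mem_ker.2 (by simpa using hn)⟩
      obtain ⟨n, hn⟩ := Ideal.exists_pow_le_of_le_radical_of_fg hJ (hE V)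
      refine ⟨n, fun a ha => ?_⟩
      rw [Scheme.IdealSheafData.ideal_pow, Pi.pow_apply] at ha
      simpa [J] using LinearMap.mem_ker.1 (hn ha)
    · rintro ⟨n, hn⟩
      refine TopCat.Presheaf.section_ext (⟨P.presheaf, P.isSheaf⟩ : TopCat.Sheaf Ab X) _ _ 0 fun x hx => ?_
      obtain ⟨hxV, hxs⟩ := (himg x).1 hx
      obtain ⟨e, he, hxe⟩ : ∃ e ∈ E.ideal V, x ∈ X.basicOpen e := by
        by_contra hcon
        push_neg at hcon
        exact hxs ((E.coe_support_inter V).ge ⟨(Scheme.mem_zeroLocus_iff _ _ _).2 hcon, hxV⟩).1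
      have hle : X.basicOpen e ≤ W.ι ''ᵁ (W.ι ⁻¹ᵁ V.1) := hD e he
      have h0 : P.presheaf.map (homOfLE (X.basicOpen_le e)).op m = 0 := by
        have h1 := hn (e ^ n) (by rw [Scheme.IdealSheafData.ideal_pow, Pi.pow_apply]; exact Ideal.pow_mem_pow he n)
        have h2 := congrArg (P.presheaf.map (homOfLE (X.basicOpen_le e)).op) h1
        rw [Scheme.Modules.map_smul, map_zero] at h2
        refine (IsUnit.smul_eq_zero ?_).1 h2
        rw [map_pow]
        exact (RingedSpace.isUnit_res_basicOpen _ e).pow n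
      refine Eq.trans ?_ (map_zero _).symm
      show P.presheaf.germ _ x hx (P.presheaf.map _ m) = 0
      rw [← TopCat.Presheaf.germ_res_apply P.presheaf (homOfLE hle) x hxe]
      refine (congrArg _ ?_).trans (map_zero (P.presheaf.germ _ x hxe).hom)
      rw [← h0]
      exact (ConcreteCategory.congr_hom (P.presheaf.map_comp _ _) m).symm
  · haveI : IsIso (R.map η) := by
      haveI : IsIso (R.map η ≫ adj.counit.app (R.obj P)) := by
        rw [show R.map η ≫ adj.counit.app (R.obj P) = 𝟙 _ from adj.left_triangle_components P]; infer_instance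
      exact IsIso.of_isIso_comp_right (R.map η) (adj.counit.app (R.obj P))
    haveI : IsIso (R.map π ≫ R.map (Abelian.image.ι η)) := by
      rw [← Functor.map_comp, Abelian.image.fac]; infer_instance
    haveI : Mono (R.map π ≫ R.map (Abelian.image.ι η)) := IsIso.mono_of_iso _
    haveI : Mono (R.map π) := mono_of_mono (R.map π) (R.map (Abelian.image.ι η))
    haveI : PreservesColimitsOfSize.{u, u} R := adj.leftAdjoint_preservesColimits
    haveI : R.PreservesEpimorphisms := Functor.preservesEpimorphisms_of_adjunction adj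
    haveI : Epi (R.map π) := inferInstance
    haveI : IsIso (R.map π) := isIso_of_mono_of_epi _
    haveI : IsIso ((Scheme.Modules.pullback W.ι).map π) :=
      (NatIso.isIso_map_iff (Scheme.Modules.restrictFunctorIsoPullback W.ι) π).1 inferInstance
    let t' : T ⟶ (W : Scheme.{u}) := IsOpenImmersion.lift W.ι t (by
      rintro _ ⟨z, rfl⟩
      rw [Scheme.Opens.range_ι]
      exact ht z)
    have e : t' ≫ W.ι = t := IsOpenImmersion.lift_fac _ _ _
    rw [← e]
    exact (NatIso.isIso_map_iff (Scheme.Modules.pullbackComp t' W.ι) π).1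
      (inferInstanceAs (IsIso ((Scheme.Modules.pullback t').map ((Scheme.Modules.pullback W.ι).map π))))

theorem isFlat_of_isFlatOver_id {G : X.Modules} (h : FlatMod.IsFlatOver (𝟙 X) G) : FlatMod.IsFlat G := fun x => by
  have hx := h x
  have heq : FlatMod.moduleStalkOver (𝟙 X) G x = FlatMod.moduleStalk G x := Module.ext' _ _ fun r m => by
    show ((Scheme.Hom.stalkMap (𝟙 X) x).hom r) • m = (show X.presheaf.stalk x from r) • m
    rw [Scheme.Hom.stalkMap_id]
    rfl
  change @Module.Flat (X.presheaf.stalk x) (G.presheaf.stalk x) _ _ (FlatMod.moduleStalkOver (𝟙 X) G x) at hx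
  rw [heq] at hx
  exact hx

theorem isFlatOverAt_id {G : X.Modules} {x : X} (h : FlatMod.IsFlatAt G x) : FlatMod.IsFlatOverAt (𝟙 X) G x := by
  have heq : FlatMod.moduleStalkOver (𝟙 X) G x = FlatMod.moduleStalk G x := Module.ext' _ _ fun r m => by
    show ((Scheme.Hom.stalkMap (𝟙 X) x).hom r) • m = (show X.presheaf.stalk x from r) • m
    rw [Scheme.Hom.stalkMap_id]
    rfl
  show @Module.Flat (X.presheaf.stalk x) (G.presheaf.stalk x) _ _ (FlatMod.moduleStalkOver (𝟙 X) G x)
  rw [heq]
  exact h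

/-- A coherent module which is a vector bundle on an open becomes one after a blow-up off that open. -/
theorem exists_flatten_blowUp {Xb : Scheme.{u}} [IsNoetherian Xb] (j : X ⟶ Xb) [IsOpenImmersion j] (F : Xb.Modules)
    [Coh.IsQCoh F] (hft : CohB1.IsFT F) (hF : FlatMod.IsFinLocFree ((Scheme.Modules.pullback j).obj F)) :
    ∃ (I : Xb.IdealSheafData) (X' : Scheme.{u}) (j' : X ⟶ X') (b : X' ⟶ Xb) (G : X'.Modules)
      (π : (Scheme.Modules.pullback b).obj F ⟶ G), BlowUp.IsBlowUp b I ∧ BlowUp.IsAdmissibleFor j.opensRange I ∧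
      IsOpenImmersion j' ∧ IsProper b ∧ j' ≫ b = j ∧ FlatMod.IsFinLocFree G ∧ Epi π ∧
      IsIso ((Scheme.Modules.pullback j').map π) := by
  let U : Xb.Opens := j.opensRange
  have hU : IsCompact (U : Set Xb) := NoetherianSpace.isCompact _
  have hFU : FlatMod.IsFinLocFree ((Scheme.Modules.pullback U.ι).obj F) :=
    isFinLocFree_congr ((Scheme.Modules.pullbackComp _ _).app F ≪≫
      (Scheme.Modules.pullbackCongr (show j.isoOpensRange.inv ≫ j = U.ι by simp [U])).app F)
      (PullbackMod.isFinLocFree_pullback j.isoOpensRange.inv _ hF)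
  have hfl : ∀ x : Xb, x ∈ U → FlatMod.IsFlatAt F x := fun x hx =>
    TildePerf.isFlatAt_of_restrict U.ι F ⟨x, hx⟩ fun y => PullbackMod.isFlat_of_isFinLocFree _
      (isFinLocFree_congr ((Scheme.Modules.restrictFunctorIsoPullback U.ι).app F).symm hFU) y
  obtain ⟨I, X', b, hb, hI, H⟩ := exists_flattening (𝟙 Xb) U hU F hft
    (PullbackMod.isQCoh_and_isFP_of_isFinLocFree _ hFU).2 (fun x hx => isFlatOverAt_id (hfl x hx))
  haveI : IsProper b := isProper_blowUp hb hI
  haveI : IsNoetherian X' := Union.isNoetherian_of_ft b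
  haveI := PullbackMod.isQCoh_pullback b F
  have hIc : BlowUp.IsFiniteTypeIdeal (I.comap b) := fun V =>
    haveI := IsLocallyNoetherian.component_noetherian (X := X') V
    IsNoetherian.noetherian _
  obtain ⟨G, π, hπ, hk, hiso⟩ := exists_kill_quotient (I.comap b) hIc ((Scheme.Modules.pullback b).obj F)
  haveI := hπ
  have hG : BlowUp.IsStrictTransform b (I.comap (𝟙 Xb)) F G π := by
    rw [Scheme.IdealSheafData.comap_id]
    exact ⟨hπ, hk⟩
  obtain ⟨hfp, hflat⟩ := H X' b (𝟙 X') (IsPullback.of_vert_isIso ⟨by simp⟩) G π hG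
  have hGq : Coh.IsQCoh G := (isQCoh_of_kill (I.comap b) (fun x => by
    obtain ⟨V, hxV, e, -, he⟩ := hb.1 x
    exact ⟨V, hxV, e, he⟩) inferInstance π hk).1
  obtain ⟨j', hj'o, hj'b, -⟩ := Union.exists_lift_open hb j hI
  refine ⟨I, X', j', b, G, π, hb, hI, hj'o, inferInstance, hj'b,
    (PullbackMod.isFinLocFree_iff G).2 ⟨hGq, hfp, isFlat_of_isFlatOver_id hflat⟩, hπ, hiso j' fun z hz => ?_⟩
  rw [Scheme.IdealSheafData.support_comap] at hz
  exact Set.disjoint_left.1 hI.2 hz ⟨z, by rw [← hj'b]; rfl⟩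

/-- A coherent module which is a vector bundle on an open becomes one after a blow-up off that open. -/
theorem exists_flatten {Xb : Scheme.{u}} [IsNoetherian Xb] (j : X ⟶ Xb) [IsOpenImmersion j] (F : Xb.Modules)
    [Coh.IsQCoh F] (hft : CohB1.IsFT F) (hF : FlatMod.IsFinLocFree ((Scheme.Modules.pullback j).obj F)) :
    ∃ (X' : Scheme.{u}) (j' : X ⟶ X') (b : X' ⟶ Xb) (G : X'.Modules) (π : (Scheme.Modules.pullback b).obj F ⟶ G),
      IsOpenImmersion j' ∧ IsProper b ∧ j' ≫ b = j ∧ FlatMod.IsFinLocFree G ∧ Epi π ∧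
      IsIso ((Scheme.Modules.pullback j').map π) := by
  obtain ⟨-, X', j', b, G, π, -, -, h⟩ := exists_flatten_blowUp j F hft hF
  exact ⟨X', j', b, G, π, h⟩

/-- A vector bundle on an open extends as a vector bundle after a blow-up. -/
theorem exists_extend_one_blowUp {Xb : Scheme.{u}} [IsNoetherian Xb] (j : X ⟶ Xb) [IsOpenImmersion j] (E : X.Modules)
    (hE : FlatMod.IsFinLocFree E) :
    ∃ (I : Xb.IdealSheafData) (X' : Scheme.{u}) (j' : X ⟶ X') (b : X' ⟶ Xb), BlowUp.IsBlowUp b I ∧
      BlowUp.IsAdmissibleFor j.opensRange I ∧ IsOpenImmersion j' ∧ IsProper b ∧ j' ≫ b = j ∧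
      ∃ E' : X'.Modules, FlatMod.IsFinLocFree E' ∧ Nonempty ((Scheme.Modules.pullback j').obj E' ≅ E) := by
  let U : Xb.Opens := j.opensRange
  let EU := (Scheme.Modules.pullback j.isoOpensRange.inv).obj E
  obtain ⟨hq, hfp⟩ := PullbackMod.isQCoh_and_isFP_of_isFinLocFree EU (PullbackMod.isFinLocFree_pullback _ E hE)
  haveI := hq
  haveI := hfp
  obtain ⟨F, hFq, hFt, ⟨e⟩⟩ := S2252.result (fun x => ⟨⊤, trivial, NoetherianSpace.set _⟩) U EU
    (show CohB1.IsFT EU from inferInstance)
  haveI := hFq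
  let eF : (Scheme.Modules.pullback j).obj F ≅ E :=
    (Scheme.Modules.pullbackCongr (show j = j.isoOpensRange.hom ≫ U.ι by simp [U])).app F ≪≫
      ((Scheme.Modules.pullbackComp _ _).app F).symm ≪≫
      (Scheme.Modules.pullback j.isoOpensRange.hom).mapIso
        (((Scheme.Modules.restrictFunctorIsoPullback U.ι).app F).symm ≪≫ e) ≪≫
      (Scheme.Modules.pullbackComp _ _).app E ≪≫
      (Scheme.Modules.pullbackCongr j.isoOpensRange.hom_inv_id).app E ≪≫
      (Scheme.Modules.pullbackId _).app E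
  obtain ⟨I, X', j', b, G, π, hbI, hI, hj', hb, hjb, hG, -, hiso⟩ :=
    exists_flatten_blowUp j F hFt (isFinLocFree_congr eF.symm hE)
  haveI := hiso
  exact ⟨I, X', j', b, hbI, hI, hj', hb, hjb, G, hG, ⟨(asIso ((Scheme.Modules.pullback j').map π)).symm ≪≫
    (Scheme.Modules.pullbackComp j' b).app F ≪≫ (Scheme.Modules.pullbackCongr hjb).app F ≪≫ eF⟩⟩

/-- A vector bundle on an open extends as a vector bundle after a blow-up. -/
theorem exists_extend_one {Xb : Scheme.{u}} [IsNoetherian Xb] (j : X ⟶ Xb) [IsOpenImmersion j] (E : X.Modules)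
    (hE : FlatMod.IsFinLocFree E) :
    ∃ (X' : Scheme.{u}) (j' : X ⟶ X') (b : X' ⟶ Xb), IsOpenImmersion j' ∧ IsProper b ∧ j' ≫ b = j ∧
      ∃ E' : X'.Modules, FlatMod.IsFinLocFree E' ∧ Nonempty ((Scheme.Modules.pullback j').obj E' ≅ E) := by
  obtain ⟨-, X', j', b, -, -, h⟩ := exists_extend_one_blowUp j E hE
  exact ⟨X', j', b, h⟩

/-- Compactifications over which finitely many vector bundles extend. -/
theorem exists_compactification_bundles {S : Scheme.{u}} [IsNoetherian S] (f : X ⟶ S) [IsSeparated f]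
    [QuasiCompact f] [LocallyOfFiniteType f] {ι : Type v} [Finite ι] (E : ι → X.Modules)
    (hE : ∀ i, FlatMod.IsFinLocFree (E i)) :
    ∃ (X' : Scheme.{u}) (j : X ⟶ X') (g : X' ⟶ S), IsOpenImmersion j ∧ IsProper g ∧ j ≫ g = f ∧
      ∀ i, ∃ E' : X'.Modules, FlatMod.IsFinLocFree E' ∧ Nonempty ((Scheme.Modules.pullback j).obj E' ≅ E i) := by
  classical
  haveI : Fintype ι := Fintype.ofFinite ι
  have key : ∀ s : Finset ι, ∃ (X' : Scheme.{u}) (j : X ⟶ X') (g : X' ⟶ S), IsOpenImmersion j ∧ IsProper g ∧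
      j ≫ g = f ∧ ∀ i ∈ s, ∃ E' : X'.Modules, FlatMod.IsFinLocFree E' ∧
        Nonempty ((Scheme.Modules.pullback j).obj E' ≅ E i) := by
    intro s
    induction s using Finset.induction_on with
    | empty =>
      obtain ⟨Y, j, p, hj, -, hp, hjp⟩ := compactifiable_of_noetherian f
      exact ⟨Y, j, p, hj, hp, hjp, fun i hi => absurd hi (Finset.notMem_empty i)⟩
    | insert a s _ ih =>
      obtain ⟨X₁, j₁, g₁, hj₁, hg₁, hjg₁, h₁⟩ := ih
      haveI := hj₁
      haveI := hg₁
      haveI : IsNoetherian X₁ := Union.isNoetherian_of_ft g₁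
      obtain ⟨X₂, j₂, b, hj₂, hb, hjb, hE'⟩ := exists_extend_one j₁ (E a) (hE a)
      haveI := hb
      refine ⟨X₂, j₂, b ≫ g₁, hj₂, inferInstance, by rw [reassoc_of% hjb, hjg₁], fun i hi => ?_⟩
      rcases Finset.mem_insert.1 hi with rfl | hi
      · exact hE'
      · obtain ⟨E', hE'', ⟨e⟩⟩ := h₁ i hi
        exact ⟨_, PullbackMod.isFinLocFree_pullback b E' hE'',
          ⟨(Scheme.Modules.pullbackComp j₂ b).app E' ≪≫ (Scheme.Modules.pullbackCongr hjb).app E' ≪≫ e⟩⟩
  obtain ⟨X', j, g, hj, hg, hjg, h⟩ := key Finset.univ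
  exact ⟨X', j, g, hj, hg, hjg, fun i => h i (Finset.mem_univ i)⟩

end Groth.Agent.RGBlowLib
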