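import Groth.Agent.PullbackMod.ColimTensor

/-!
# An algebra as the directed system of finitely presented algebras mapping to it
-/

set_option autoImplicit false
set_option linter.style.haveILetI false
set_option backward.isDefEq.respectTransparency false

universe u

open MvPolynomial

noncomputable section

namespace Groth.Agent.RGBlowLib

variable (R A : Type u) [CommRing R] [CommRing A] [Algebra R A]

/-- Finitely presented stages over `A`. -/
structure FPStage : Type u where
  n : ℕ
  v : Fin n → A
  K : Ideal (MvPolynomial (Fin n) R)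
  fg : K.FG
  le : ∀ q ∈ K, aeval v q = 0

variable {R A}

namespace FPStage

/-- The algebra of a stage. -/
abbrev ring (j : FPStage R A) : Type u := MvPolynomial (Fin j.n) R ⧸ j.K

/-- The map to `A`. -/
def toA (j : FPStage R A) : j.ring →ₐ[R] A := Ideal.Quotient.liftₐ j.K (aeval j.v) j.le

theorem toA_mk (j : FPStage R A) (q : MvPolynomial (Fin j.n) R) : j.toA (Ideal.Quotient.mk j.K q) = aeval j.v q := rfl

theorem finitePresentation (j : FPStage R A) : Algebra.FinitePresentation R j.ring :=
  Algebra.FinitePresentation.quotient j.fg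

/-- Adjoin a generator and impose nothing. -/
def snoc (j : FPStage R A) (b : A) : FPStage R A where
  n := j.n + 1
  v := Fin.snoc j.v b
  K := j.K.map (rename Fin.castSucc).toRingHom
  fg := j.fg.map _
  le := fun q hq => by
    have : j.K.map (rename Fin.castSucc).toRingHom ≤
        RingHom.ker (aeval (R := R) (Fin.snoc j.v b : Fin (j.n + 1) → A)).toRingHom :=
      Ideal.map_le_iff_le_comap.2 fun z hz => by
        show aeval (Fin.snoc j.v b : Fin (j.n + 1) → A) (rename Fin.castSucc z) = 0
        rw [aeval_rename, show (Fin.snoc j.v b : Fin (j.n + 1) → A) ∘ Fin.castSucc = j.v from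
          funext fun i => Fin.snoc_castSucc _ _ _]
        exact j.le z hz
    exact this hq

/-- Impose a relation which holds in `A`. -/
def kill (j : FPStage R A) (q : MvPolynomial (Fin j.n) R) (hq : aeval j.v q = 0) : FPStage R A where
  n := j.n
  v := j.v
  K := j.K ⊔ Ideal.span {q}
  fg := Submodule.FG.sup j.fg (Submodule.fg_span_singleton _)
  le := fun z hz => by
    have : j.K ⊔ Ideal.span {q} ≤ RingHom.ker (aeval (R := R) j.v).toRingHom :=
      sup_le (fun z hz => j.le z hz) ((Ideal.span_singleton_le_iff_mem _).2 hq)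
    exact this hz

/-- The disjoint union of two stages. -/
def union (j k : FPStage R A) : FPStage R A where
  n := j.n + k.n
  v := Fin.append j.v k.v
  K := j.K.map (rename (Fin.castAdd k.n)).toRingHom ⊔ k.K.map (rename (Fin.natAdd j.n)).toRingHom
  fg := Submodule.FG.sup (j.fg.map _) (k.fg.map _)
  le := fun q hq => by
    have : j.K.map (rename (Fin.castAdd k.n)).toRingHom ⊔ k.K.map (rename (Fin.natAdd j.n)).toRingHom ≤
        RingHom.ker (aeval (R := R) (Fin.append j.v k.v)).toRingHom := by
      refine sup_le (Ideal.map_le_iff_le_comap.2 fun z hz => ?_) (Ideal.map_le_iff_le_comap.2 fun z hz => ?_)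
      · show aeval (Fin.append j.v k.v) (rename (Fin.castAdd k.n) z) = 0
        rw [aeval_rename, show Fin.append j.v k.v ∘ Fin.castAdd k.n = j.v from funext fun i => Fin.append_left _ _ i]
        exact j.le z hz
      · show aeval (Fin.append j.v k.v) (rename (Fin.natAdd j.n) z) = 0
        rw [aeval_rename, show Fin.append j.v k.v ∘ Fin.natAdd j.n = k.v from funext fun i => Fin.append_right _ _ i]
        exact k.le z hz
    exact this hq

/-- Morphisms of stages. -/
def Hom (j k : FPStage R A) : Type u := {τ : j.ring →ₐ[R] k.ring // k.toA.comp τ = j.toA}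

/-- A morphism given by an embedding of variables. -/
def homOfRename (j k : FPStage R A) (e : Fin j.n → Fin k.n) (hv : ∀ i, k.v (e i) = j.v i)
    (hK : j.K.map (rename e).toRingHom ≤ k.K) : Hom j k :=
  ⟨Ideal.Quotient.liftₐ j.K ((Ideal.Quotient.mkₐ R k.K).comp (rename e)) fun q hq =>
    Ideal.Quotient.eq_zero_iff_mem.2 (hK (Ideal.mem_map_of_mem _ hq)), by
    refine Ideal.Quotient.algHom_ext R ?_
    refine MvPolynomial.algHom_ext fun i => ?_
    simp [toA, hv]⟩

end FPStage

variable (R A)

/-- The system of finitely presented algebras over `A`. -/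
def fpSys : PullbackMod.AlgSystem R A where
  J := FPStage R A
  R := FPStage.ring
  ρ := FPStage.toA
  Hom := FPStage.Hom
  τ := fun f => f.1
  comm := fun f => f.2
  comp := fun f g => ⟨⟨g.1.comp f.1, by rw [← AlgHom.comp_assoc, g.2, f.2]⟩, rfl⟩
  surj := fun j b => ⟨j.snoc b,
    FPStage.homOfRename j (j.snoc b) Fin.castSucc (fun i => Fin.snoc_castSucc (α := fun _ => A) _ _ _) le_rfl,
    Ideal.Quotient.mk _ (X (Fin.last j.n)), by
      rw [FPStage.toA_mk, aeval_X]
      exact Fin.snoc_last (α := fun _ => A) _ _⟩
  inj := fun j a ha => by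
    obtain ⟨q, rfl⟩ := Ideal.Quotient.mk_surjective a
    refine ⟨j.kill q ha, FPStage.homOfRename j (j.kill q ha) id (fun _ => rfl) ?_, ?_⟩
    · rw [show (rename id : MvPolynomial (Fin j.n) R →ₐ[R] _).toRingHom = RingHom.id _ from
        RingHom.ext fun z => rename_id_apply z, Ideal.map_id]
      exact le_sup_left
    · show Ideal.Quotient.mk (j.kill q ha).K (rename id q) = 0
      rw [rename_id_apply, Ideal.Quotient.eq_zero_iff_mem]
      exact Ideal.mem_sup_right (Ideal.mem_span_singleton_self q)

/-- The system is directed. -/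
theorem fpSys_dir (i j : (fpSys R A).J) :
    ∃ k, Nonempty ((fpSys R A).Hom i k) ∧ Nonempty ((fpSys R A).Hom j k) :=
  ⟨FPStage.union i j,
    ⟨FPStage.homOfRename i (FPStage.union i j) (Fin.castAdd j.n) (fun x => Fin.append_left _ _ x) le_sup_left⟩,
    ⟨FPStage.homOfRename j (FPStage.union i j) (Fin.natAdd i.n) (fun x => Fin.append_right _ _ x) le_sup_right⟩⟩

/-- The empty stage. -/
def fpBot : (fpSys R A).J where
  n := 0
  v := Fin.elim0
  K := ⊥
  fg := Submodule.fg_bot
  le := fun q hq => by simp [show q = 0 from hq]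

end Groth.Agent.RGBlowLib
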