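import Groth.Agent.RGBlowLib.Iso
import Groth.Agent.FlatDim.Scheme
import Groth.Agent.ASp.ZeroDim
import Groth.Prelude.Def_Mor2
import Mathlib.AlgebraicGeometry.ZariskisMainTheorem

/-!
# Strict transforms of morphisms finite locally free over an open
-/

set_option autoImplicit false
set_option linter.style.haveILetI false
set_option backward.isDefEq.respectTransparency false
set_option maxHeartbeats 1000000

universe u

open CategoryTheory CategoryTheory.Limits AlgebraicGeometry TopologicalSpace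

noncomputable section

namespace Groth.Agent.RGBlowLib

variable {X S : Scheme.{u}}

/-- A proper flat morphism of finite presentation which is finite over a dense open is finite. -/
theorem isFinite_of_dense (g : X ⟶ S) [IsProper g] [Flat g] [LocallyOfFinitePresentation g] (U : S.Opens)
    (hd : Dense (U : Set S)) [IsFinite (g ∣_ U)] : IsFinite g := by
  haveI hft : ∀ s : S, LocallyOfFiniteType (g.fiberToSpecResidueField s) := fun s =>
    MorphismProperty.pullback_snd (P := @LocallyOfFiniteType) g (S.fromSpecResidueField s) inferInstance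
  have key : ∀ s : S, topologicalKrullDim (g.fiber s) ≤ 0 := by
    by_contra h
    push Not at h
    obtain ⟨s, hs⟩ := h
    obtain ⟨u, hu, huU⟩ := hd.inter_open_nonempty _ (FlatDim.isOpen_lt_fibreDim g 0) ⟨s, hs⟩
    have hfin : (g ⁻¹' {u}).Finite := by
      have h1 := Scheme.Hom.finite_preimage_singleton (g ∣_ U) ⟨u, huU⟩
      refine (h1.image (g ⁻¹ᵁ U).ι).subset ?_
      intro z (hz : g z = u)
      have hzU : z ∈ g ⁻¹ᵁ U := by show g z ∈ U; rw [hz]; exact huU
      refine ⟨⟨z, hzU⟩, ?_, rfl⟩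
      apply U.ι.injective
      rw [← Scheme.Hom.comp_apply, morphismRestrict_ι, Scheme.Hom.comp_apply]
      exact hz
    haveI : Finite (g.fiber u) := by
      haveI := hfin.to_subtype
      exact Finite.of_equiv _ (g.fiberHomeo u).symm.toEquiv
    haveI : T1Space (g.fiber u) := by
      haveI : JacobsonSpace (g.fiber u) := LocallyOfFiniteType.jacobsonSpace (g.fiberToSpecResidueField u)
      infer_instance
    exact (not_lt.2 (topologicalKrullDim_zero_of_discreteTopology (g.fiber u))) hu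
  haveI : LocallyQuasiFinite g := LocallyQuasiFinite.of_finite_preimage_singleton _ fun s => by
    haveI : IsLocallyNoetherian (g.fiber s) := LocallyOfFiniteType.isLocallyNoetherian (g.fiberToSpecResidueField s)
    haveI : IsLocallyArtinian (g.fiber s) := IsLocallyArtinian.of_topologicalKrullDim_le_zero (key s)
    haveI : CompactSpace (g.fiber s) := QuasiCompact.compactSpace_of_compactSpace (g.fiberToSpecResidueField s)
    haveI : Finite (g.fiber s) := finite_of_compact_of_discrete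
    haveI : Finite (g ⁻¹' {s}) := Finite.of_equiv _ (g.fiberHomeo s).toEquiv
    exact Set.toFinite _
  exact IsFinite.of_isProper_of_locallyQuasiFinite g

theorem exists_finLocFree [CompactSpace S] [QuasiSeparatedSpace S] (φ : X ⟶ S) [IsProper φ] (U : S.Opens)
    (hU : IsCompact (U : Set S)) (hfl : Mor2.IsFinLocFree (φ ∣_ U)) :
    ∃ (𝓘 : S.IdealSheafData) (S' : Scheme.{u}) (b : S' ⟶ S), BlowUp.IsBlowUp b 𝓘 ∧ BlowUp.IsAdmissibleFor U 𝓘 ∧
      ∀ (X' : Scheme.{u}) (p₁ : X' ⟶ X) (p₂ : X' ⟶ S'), IsPullback p₁ p₂ φ b →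
      ∀ (𝒥 : X'.IdealSheafData),
        (∀ (W : X'.affineOpens) (a : Γ(X', W.1)), a ∈ 𝒥.ideal W ↔
          BlowUp.KilledByPowerNear ((𝓘.comap φ).comap p₁) (Coh.structureModule X') W a) →
        Mor2.IsFinLocFree (𝒥.subschemeι ≫ p₂) := by
  obtain ⟨h1, h2, h3⟩ := hfl
  haveI := h1
  haveI := h2
  haveI := h3
  obtain ⟨𝓘₀, h₀, hsupp⟩ := exists_exact_admissible U hU
  obtain ⟨𝓚, S', b, hb, hadm, H⟩ := exists_flattening_scheme_mul φ U hU 𝓘₀ h₀
  refine ⟨_, S', b, hb, hadm, fun X' p₁ p₂ hc 𝒥 hJ => ?_⟩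
  obtain ⟨hF, hP⟩ := H X' p₁ p₂ hc 𝒥 hJ
  haveI := hF
  haveI := hP
  refine ⟨?_, hF, hP⟩
  haveI : IsProper p₂ := MorphismProperty.of_isPullback hc inferInstance
  haveI : IsProper (𝒥.subschemeι ≫ p₂) :=
    MorphismProperty.comp_mem (W := @IsProper) _ _ inferInstance inferInstance
  have hD : ((𝓘₀ * 𝓚).comap b).support.compl = b ⁻¹ᵁ U := by
    ext s
    show s ∉ ((𝓘₀ * 𝓚).comap b).support ↔ b s ∈ U
    rw [Scheme.IdealSheafData.support_comap]
    refine ⟨fun h => by_contra fun h' => h ?_, fun h h' => Set.disjoint_left.1 hadm.2 h' h⟩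
    show b s ∈ (𝓘₀ * 𝓚).support
    rw [Scheme.IdealSheafData.support_mul]
    exact Or.inl (hsupp _ h')
  obtain ⟨haff, hdom⟩ := S1571.result S' ((𝓘₀ * 𝓚).comap b) hb.1
  rw [show (((𝓘₀ * 𝓚).comap b).support.compl : S'.Opens) = b ⁻¹ᵁ U from hD] at haff hdom
  haveI := haff
  haveI := hdom
  have hdense : Dense ((b ⁻¹ᵁ U : S'.Opens) : Set S') := by
    have h := Scheme.Hom.support_ker (b ⁻¹ᵁ U).ι
    rw [(b ⁻¹ᵁ U).ι.ker_eq_bot] at h
    rw [dense_iff_closure_eq, ← Scheme.Opens.range_ι]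
    rw [← h, Scheme.IdealSheafData.support_bot]; rfl
  haveI : IsIso (𝒥.subschemeι ∣_ (p₂ ⁻¹ᵁ (b ⁻¹ᵁ U))) := isIso_subscheme_restrict _ 𝒥 hJ _ fun x hx h => by
    rw [← Scheme.IdealSheafData.comap_comp, hc.w, Scheme.IdealSheafData.support_comap] at h
    exact Set.disjoint_left.1 hadm.2 h hx
  haveI : IsFinite (p₂ ∣_ (b ⁻¹ᵁ U)) := by
    obtain ⟨l, hl⟩ := isPullback_restrict_snd φ U b hc
    exact MorphismProperty.of_isPullback hl.flip inferInstance
  haveI : IsFinite ((𝒥.subschemeι ≫ p₂) ∣_ (b ⁻¹ᵁ U)) := by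
    rw [morphismRestrict_comp]; infer_instance
  exact isFinite_of_dense _ (b ⁻¹ᵁ U) hdense

end Groth.Agent.RGBlowLib
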