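import Mathlib

/-!
# Flatness over the limit ring of blow-up charts

Let `a` be a regular element of `A` and `p` a prime with `p = a p`, such that every element outside `p` divides a
power of `a` and divisibility is total outside `p` (so `A/p` is a valuation ring and `A_a` is local with maximal
ideal `p`). A module without `a`-torsion which is flat after inverting `a` is flat.
-/

set_option autoImplicit false
set_option linter.style.haveILetI false
set_option backward.isDefEq.respectTransparency false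

universe u

open scoped Classical

noncomputable section

namespace Groth.Agent.RGBlowLib

/-- A relation all of whose parts come from relations among the coefficients. -/
def Triv {A N : Type u} [CommRing A] [AddCommGroup N] [Module A N] {l : ℕ} (f : Fin l → A) (x : Fin l → N) : Prop :=
  ∃ (κ : Type u) (_ : Fintype κ) (c : Fin l → κ → A) (y : κ → N),
    (∀ i, x i = ∑ j, c i j • y j) ∧ ∀ j, ∑ i, f i * c i j = 0

theorem Triv.add {A N : Type u} [CommRing A] [AddCommGroup N] [Module A N] {l : ℕ} {f : Fin l → A}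
    {x x' : Fin l → N} (h : Triv f x) (h' : Triv f x') : Triv f (x + x') := by
  obtain ⟨κ, _, c, y, hc, hf⟩ := h
  obtain ⟨κ', _, c', y', hc', hf'⟩ := h'
  refine ⟨κ ⊕ κ', inferInstance, fun i => Sum.elim (c i) (c' i), Sum.elim y y', fun i => ?_, ?_⟩
  · simp [hc i, hc' i, Fintype.sum_sum_type]
  · rintro (j | j)
    · exact hf j
    · exact hf' j

theorem Triv.isTrivialRelation {A N : Type u} [CommRing A] [AddCommGroup N] [Module A N] {l : ℕ} {f : Fin l → A}
    {x : Fin l → N} (h : Triv f x) : Module.IsTrivialRelation f x := by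
  obtain ⟨κ, _, c, y, hc, hf⟩ := h
  let e := Fintype.equivFin κ
  refine ⟨Fintype.card κ, fun i j => c i (e.symm j), fun j => y (e.symm j), fun i => ?_, fun j => hf _⟩
  rw [hc i]
  exact (Equiv.sum_comp e.symm (fun j => c i j • y j)).symm

variable {A N : Type u} [CommRing A] [AddCommGroup N] [Module A N] (a : A) (ha : ∀ z : A, a * z = 0 → z = 0)
  (p : Ideal A) [hpr : p.IsPrime] (hp : ∀ z ∈ p, ∃ z' ∈ p, z = a * z')
  (hdvd : ∀ z ∉ p, ∃ n : ℕ, z ∣ a ^ n) (htot : ∀ z z' : A, z ∉ p → z' ∉ p → z ∣ z' ∨ z' ∣ z)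
  (htf : ∀ x : N, a • x = 0 → x = 0)
  (hN : Module.Flat A (LocalizedModule (Submonoid.powers a) N))

include htf in
theorem eq_zero_of_pow_smul : ∀ (n : ℕ) (x : N), a ^ n • x = 0 → x = 0
  | 0, x, h => by simpa using h
  | n + 1, x, h => eq_zero_of_pow_smul n x (htf _ (by rw [← mul_smul, ← pow_succ']; exact h))

include ha in
theorem eq_zero_of_pow_mul : ∀ (n : ℕ) (x : A), a ^ n * x = 0 → x = 0
  | 0, x, h => by simpa using h
  | n + 1, x, h => eq_zero_of_pow_mul n x (ha _ (by rw [← mul_assoc, ← pow_succ']; exact h))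

include hp in
theorem exists_pow_mul : ∀ (n : ℕ) (z : A), z ∈ p → ∃ z' ∈ p, z = a ^ n * z'
  | 0, z, hz => ⟨z, hz, by simp⟩
  | n + 1, z, hz => by
    obtain ⟨z₁, hz₁, rfl⟩ := exists_pow_mul n z hz
    obtain ⟨z₂, hz₂, rfl⟩ := hp z₁ hz₁
    exact ⟨z₂, hz₂, by ring⟩

include hN in
/-- Relations are trivial up to a power of `a`. -/
theorem exists_trivA {J : Type u} [Fintype J] (g : J → A) (n : J → N) (h : ∑ j, g j • n j = 0) :
    ∃ (k q : ℕ) (c : J → Fin q → A) (m : Fin q → N),
      (∀ j, a ^ k • n j = ∑ t, c j t • m t) ∧ ∀ t, ∑ j, g j * c j t = 0 := by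
  haveI := hN
  let L := LocalizedModule (Submonoid.powers a) N
  let mk := LocalizedModule.mkLinearMap (Submonoid.powers a) N
  let e := Fintype.equivFin J
  have h' : ∑ i, g (e.symm i) • mk (n (e.symm i)) = 0 := by
    rw [Equiv.sum_comp e.symm (fun j => g j • mk (n j))]
    simp only [← map_smul, ← map_sum, h, map_zero]
  obtain ⟨q, c, y, hy, hc⟩ := Module.Flat.iff_forall_isTrivialRelation.1 hN h'
  obtain ⟨⟨_, k, rfl⟩, hk⟩ := IsLocalizedModule.exist_integer_multiples_of_finset (Submonoid.powers a)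
    mk (Finset.univ.image y)
  have hy' : ∀ t, ∃ m : N, mk m = a ^ k • y t := fun t => hk (y t) (Finset.mem_image_of_mem _ (Finset.mem_univ t))
  choose m hm using hy'
  have h1 : ∀ j, mk (a ^ k • n j) = mk (∑ t, c (e j) t • m t) := fun j => by
    have := hy (e j)
    simp only [Equiv.symm_apply_apply] at this
    rw [map_smul, this, Finset.smul_sum, map_sum]
    exact Finset.sum_congr rfl fun t _ => by rw [map_smul, hm, smul_comm]
  have h2 : ∀ j, ∃ r : ℕ, a ^ r • (a ^ k • n j) = a ^ r • ∑ t, c (e j) t • m t := fun j => by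
    obtain ⟨⟨_, r, rfl⟩, hr⟩ := (IsLocalizedModule.eq_iff_exists (Submonoid.powers a) mk).1 (h1 j)
    exact ⟨r, hr⟩
  choose r hr using h2
  let R₀ := ∑ j, r j
  refine ⟨R₀ + k, q, fun j t => c (e j) t, fun t => a ^ R₀ • m t, fun j => ?_, fun t => ?_⟩
  · obtain ⟨s, hs⟩ := Nat.exists_eq_add_of_le (Finset.single_le_sum (fun i _ => Nat.zero_le (r i)) (Finset.mem_univ j))
    rw [pow_add, mul_smul, show R₀ = s + r j from hs.trans (add_comm _ _), pow_add, mul_smul, hr j, ← mul_smul,
      Finset.smul_sum]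
    exact Finset.sum_congr rfl fun t _ => smul_comm _ _ _
  · rw [← hc t, ← Equiv.sum_comp e.symm (fun j => g j * c (e j) t)]
    simp

include ha hp htf hN in
/-- A relation with parts in `pN` is trivial. -/
theorem triv_of_mem_smul {l : ℕ} (f : Fin l → A) (e : Fin l → N) (he : ∀ i, e i ∈ p • (⊤ : Submodule A N))
    (h : ∑ i, f i • e i = 0) : Triv f e := by
  have hrep : ∀ i, ∃ (J : Type u) (_ : Fintype J) (π : J → A) (n : J → N),
      (∀ j, π j ∈ p) ∧ e i = ∑ j, π j • n j := fun i => by
    refine Submodule.smul_induction_on (he i) (fun z hz x _ => ⟨PUnit, inferInstance, fun _ => z, fun _ => x,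
      fun _ => hz, by simp⟩) fun x y hx hy => ?_
    obtain ⟨J, _, π, n, hπ, hx⟩ := hx
    obtain ⟨J', _, π', n', hπ', hy⟩ := hy
    exact ⟨J ⊕ J', inferInstance, Sum.elim π π', Sum.elim n n', fun j => Sum.casesOn j hπ hπ',
      by simp [hx, hy, Fintype.sum_sum_type]⟩
  choose J hJ π n hπ hen using hrep
  let K := Σ i, J i
  let P : Fin l → K → A := fun i k => if k.1 = i then π k.1 k.2 else 0
  have hP : ∀ i k, P i k ∈ p := fun i k => by
    simp only [P]; split
    · exact hπ _ _
    · exact p.zero_mem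
  have heP : ∀ i, e i = ∑ k, P i k • n k.1 k.2 := fun i => by
    rw [hen i, Fintype.sum_sigma, Finset.sum_eq_single i]
    · simp [P]
    · intro i' _ hne
      simp [P, hne]
    · simp
  obtain ⟨k₀, q, d, m, hd, hg⟩ := exists_trivA a hN (fun k : K => ∑ i, f i * P i k) (fun k => n k.1 k.2) (by
    simp only [Finset.sum_smul, mul_smul]
    rw [Finset.sum_comm, ← h]
    exact Finset.sum_congr rfl fun i _ => by rw [heP i, Finset.smul_sum])
  choose P' hP' hPP' using fun i k => exists_pow_mul a p hp k₀ (P i k) (hP i k)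
  refine ⟨ULift.{u} (Fin q), inferInstance, fun i t => ∑ k, P' i k * d k t.down, fun t => m t.down, fun i => ?_, fun t => ?_⟩
  · calc e i = ∑ k, P' i k • (a ^ k₀ • n k.1 k.2) := by
          rw [heP i]; exact Finset.sum_congr rfl fun k _ => by rw [hPP' i k, mul_comm, mul_smul]
      _ = ∑ k, ∑ t, (P' i k * d k t) • m t := Finset.sum_congr rfl fun k _ => by
          rw [hd k, Finset.smul_sum]; simp [mul_smul]
      _ = ∑ t, (∑ k, P' i k * d k t) • m t := by rw [Finset.sum_comm]; simp [Finset.sum_smul]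
      _ = _ := (Equiv.sum_comp Equiv.ulift (fun t => (∑ k, P' i k * d k t) • m t)).symm
  · refine eq_zero_of_pow_mul a ha k₀ _ ?_
    rw [← hg t.down, Finset.mul_sum]
    simp only [Finset.mul_sum, Finset.sum_mul]
    rw [Finset.sum_comm]
    exact Finset.sum_congr rfl fun k _ => Finset.sum_congr rfl fun i _ => by rw [hPP' i k]; ring

include ha hp hdvd htot htf hN in
/-- Flatness criterion. -/
theorem flat_of_criterion : Module.Flat A N := by
  rw [Module.Flat.iff_forall_isTrivialRelation]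
  intro l f x hx
  refine Triv.isTrivialRelation ?_
  obtain ⟨k₀, q, c, m, hc, hf⟩ := exists_trivA a hN (fun i : ULift.{u} (Fin l) => f i.down) (fun i => x i.down) (by
    exact (Equiv.sum_comp Equiv.ulift (fun i => f i • x i)).trans hx)
  let V := A ⧸ p
  have hnz : ∀ z : A, Ideal.Quotient.mk p z ≠ 0 → z ∉ p := fun z hz h => hz (Ideal.Quotient.eq_zero_iff_mem.2 h)
  haveI : ValuationRing V := ValuationRing.iff_dvd_total.2 ⟨fun u v => by
    obtain ⟨u, rfl⟩ := Ideal.Quotient.mk_surjective u
    obtain ⟨v, rfl⟩ := Ideal.Quotient.mk_surjective v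
    by_cases hu : Ideal.Quotient.mk p u = 0
    · exact Or.inr (hu ▸ dvd_zero _)
    by_cases hv : Ideal.Quotient.mk p v = 0
    · exact Or.inl (hv ▸ dvd_zero _)
    exact (htot u v (hnz u hu) (hnz v hv)).imp (map_dvd _) (map_dvd _)⟩
  let R₀ : Submodule A (Fin l → A) := LinearMap.ker (Fintype.linearCombination A f)
  have hR₀ : ∀ v, v ∈ R₀ ↔ ∑ i, f i * v i = 0 := fun v => by
    simp [R₀, Fintype.linearCombination_apply, mul_comm]
  let red : (Fin l → A) →ₗ[A] (Fin l → V) := LinearMap.pi fun i => (Algebra.linearMap A V).comp (LinearMap.proj i)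
  have hred : Function.Surjective red := fun v => ⟨fun i => (v i).out, funext fun i => Quotient.out_eq' (v i)⟩
  let Rb : Submodule V (Fin l → V) := Submodule.span V (red '' R₀)
  have hRb : ∀ v ∈ Rb, ∃ r ∈ R₀, red r = v := by
    intro v hv
    induction hv using Submodule.span_induction with
    | mem v hv => obtain ⟨r, hr, rfl⟩ := hv; exact ⟨r, hr, rfl⟩
    | zero => exact ⟨0, zero_mem _, map_zero _⟩
    | add v v' _ _ h h' =>
      obtain ⟨r, hr, rfl⟩ := h; obtain ⟨r', hr', rfl⟩ := h'
      exact ⟨r + r', add_mem hr hr', map_add _ _ _⟩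
    | smul s v _ h =>
      obtain ⟨r, hr, rfl⟩ := h
      obtain ⟨s, rfl⟩ := Ideal.Quotient.mk_surjective s
      exact ⟨s • r, Submodule.smul_mem _ _ hr, by rw [map_smul]; exact (algebraMap_smul V s _).symm⟩
  have hsat : ∀ v, algebraMap A V a • v ∈ Rb → v ∈ Rb := by
    intro v hv
    obtain ⟨v₀, rfl⟩ := hred v
    rw [algebraMap_smul, ← map_smul] at hv
    obtain ⟨r, hr, hrv⟩ := hRb _ hv
    have hd : ∀ i, a * v₀ i - r i ∈ p := fun i => by
      have h1 := (congrFun hrv i).symm
      exact Ideal.Quotient.eq.1 h1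
    choose d hd' hde using fun i => hp _ (hd i)
    refine Submodule.subset_span ⟨fun i => v₀ i - d i, (hR₀ _).2 (ha _ ?_), funext fun i => ?_⟩
    · rw [Finset.mul_sum, ← (hR₀ r).1 hr]
      exact Finset.sum_congr rfl fun i _ => by linear_combination (f i) * hde i
    · exact Ideal.Quotient.eq.2 (by simpa using p.neg_mem (hd' i))
  let P := (Fin l → V) ⧸ Rb
  haveI : Module.Flat V P := by
    rw [Module.Flat.flat_iff_torsion_eq_bot_of_isBezout, eq_bot_iff]
    intro z hz
    obtain ⟨⟨s, hs⟩, hsz⟩ := hz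
    obtain ⟨v, rfl⟩ := Submodule.Quotient.mk_surjective Rb z
    obtain ⟨s, rfl⟩ := Ideal.Quotient.mk_surjective s
    obtain ⟨n, u, hu⟩ := hdvd s (hnz s (nonZeroDivisors.ne_zero hs))
    have hsz' : Ideal.Quotient.mk p s • v ∈ Rb := by
      rw [← Submodule.Quotient.mk_eq_zero, Submodule.Quotient.mk_smul]; exact hsz
    have h1 : algebraMap A V (a ^ n) • v ∈ Rb := by
      rw [hu, mul_comm, map_mul, mul_smul]
      exact Submodule.smul_mem _ _ hsz'
    rw [Submodule.mem_bot, Submodule.Quotient.mk_eq_zero]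
    clear hsz hsz' hu
    induction n with
    | zero => simpa using h1
    | succ n ih => exact ih (hsat _ (by rw [← mul_smul, ← map_mul, ← pow_succ']; exact h1))
  haveI : Module.Free V P := Module.free_of_flat_of_isLocalRing
  obtain ⟨σ, hσ⟩ := Module.projective_lifting_property Rb.mkQ (LinearMap.id (R := V) (M := P)) Rb.mkQ_surjective
  let E : (Fin l → V) →ₗ[V] (Fin l → V) := LinearMap.id - σ ∘ₗ Rb.mkQ
  have hE : ∀ v, E v ∈ Rb := fun v => by
    rw [← Submodule.Quotient.mk_eq_zero]
    show Rb.mkQ (v - σ (Rb.mkQ v)) = 0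
    rw [map_sub, sub_eq_zero]
    exact (LinearMap.congr_fun hσ (Rb.mkQ v)).symm
  have hEfix : ∀ r ∈ R₀, E (red r) = red r := fun r hr => by
    have : Rb.mkQ (red r) = 0 := (Submodule.Quotient.mk_eq_zero _).2 (Submodule.subset_span ⟨r, hr, rfl⟩)
    show red r - σ (Rb.mkQ (red r)) = red r
    rw [this, map_zero, sub_zero]
  choose col hcol hcolred using fun i : Fin l => hRb (E (Pi.single i 1)) (hE _)
  have hlin : ∀ r ∈ R₀, ∀ j, r j - ∑ i, r i * col i j ∈ p := fun r hr j => by
    rw [← Ideal.Quotient.eq_zero_iff_mem]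
    have h2 : red r = ∑ i, algebraMap A V (r i) • (Pi.single i 1 : Fin l → V) := by
      funext j'
      simp [red, Finset.sum_apply, Pi.single_apply, Algebra.algebraMap_eq_smul_one]
    have h1 := (hEfix r hr).symm
    rw [show E (red r) = E (∑ i, algebraMap A V (r i) • (Pi.single i 1 : Fin l → V)) from congrArg _ h2,
      map_sum] at h1
    simp only [map_smul, ← hcolred] at h1
    have h3 := congrFun h1 j
    simp only [Finset.sum_apply, Pi.smul_apply, smul_eq_mul, red, LinearMap.pi_apply, LinearMap.coe_comp,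
      Function.comp_apply, LinearMap.coe_proj, Function.eval, Algebra.linearMap_apply] at h3
    rw [map_sub, sub_eq_zero, map_sum]
    simp only [map_mul]
    exact h3
  have hx1 : ∀ j, a ^ k₀ • (x j - ∑ i, col i j • x i) ∈ p • (⊤ : Submodule A N) := fun j => by
    have e : a ^ k₀ • (x j - ∑ i, col i j • x i) =
        ∑ t, (c ⟨j⟩ t - ∑ i, c ⟨i⟩ t * col i j) • m t := by
      simp only [sub_smul, Finset.sum_sub_distrib, smul_sub, Finset.smul_sum, Finset.sum_smul]
      rw [show a ^ k₀ • x j = ∑ t, c ⟨j⟩ t • m t from hc ⟨j⟩]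
      congr 1
      rw [Finset.sum_comm]
      refine Finset.sum_congr rfl fun i _ => ?_
      rw [smul_comm, show a ^ k₀ • x i = ∑ t, c ⟨i⟩ t • m t from hc ⟨i⟩, Finset.smul_sum]
      exact Finset.sum_congr rfl fun t _ => by rw [← mul_smul, mul_comm]
    rw [e]
    exact sum_mem fun t _ => Submodule.smul_mem_smul
      (hlin (fun i => c ⟨i⟩ t) ((hR₀ _).2 ((Equiv.sum_comp Equiv.ulift.{u} (fun i => f i * c ⟨i⟩ t)).symm.trans (hf t))) j)
      Submodule.mem_top
  have hcancel : ∀ (n : ℕ) (y : N), a ^ n • y ∈ p • (⊤ : Submodule A N) → y ∈ p • (⊤ : Submodule A N) := by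
    intro n y hy
    obtain ⟨y', hy', hyy⟩ : ∃ y' ∈ p • (⊤ : Submodule A N), a ^ n • y = a ^ n • y' := by
      generalize a ^ n • y = z at hy
      refine Submodule.smul_induction_on hy (fun z hz w _ => ?_) fun u v hu hv => ?_
      · obtain ⟨z', hz', rfl⟩ := exists_pow_mul a p hp n z hz
        exact ⟨z' • w, Submodule.smul_mem_smul hz' Submodule.mem_top, mul_smul _ _ _⟩
      · obtain ⟨u', hu', rfl⟩ := hu; obtain ⟨v', hv', rfl⟩ := hv
        exact ⟨u' + v', add_mem hu' hv', (smul_add _ _ _).symm⟩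
    rwa [sub_eq_zero.1 (eq_zero_of_pow_smul a htf n (y - y') (by rw [smul_sub, hyy, sub_self]))]
  let x₁ : Fin l → N := fun j => ∑ i, col i j • x i
  have hx₁ : Triv f x₁ := ⟨ULift.{u} (Fin l), inferInstance, fun j i => col i.down j, fun i => x i.down,
    fun j => (Equiv.sum_comp Equiv.ulift (fun i => col i j • x i)).symm, fun i => (hR₀ _).1 (hcol i.down)⟩
  have hx₂ : Triv f (x - x₁) := triv_of_mem_smul a ha p hp htf hN f _ (fun j => hcancel k₀ _ (hx1 j)) (by
    have h1 : ∑ j, f j • x₁ j = 0 := by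
      simp only [x₁, Finset.smul_sum, ← mul_smul]
      rw [Finset.sum_comm]
      simp [← Finset.sum_smul, (hR₀ _).1 (hcol _)]
    simp [smul_sub, Finset.sum_sub_distrib, h1, hx])
  simpa using hx₂.add hx₁

end Groth.Agent.RGBlowLib
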