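import Mathlib

/-!
# Gluing two schemes along a common open
-/

set_option autoImplicit false
set_option linter.style.haveILetI false
set_option backward.isDefEq.respectTransparency false
set_option maxHeartbeats 1000000

universe u

open CategoryTheory CategoryTheory.Limits AlgebraicGeometry TopologicalSpace

noncomputable section

namespace Groth.Agent.RGBlowLib

variable {W X₁ X₂ : Scheme.{u}} (a : W ⟶ X₁) (b : W ⟶ X₂) [IsOpenImmersion a] [IsOpenImmersion b]

/-- Two schemes glue along a common open. -/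
theorem exists_glue :
    ∃ (P : Scheme.{u}) (o₁ : X₁ ⟶ P) (o₂ : X₂ ⟶ P), IsOpenImmersion o₁ ∧ IsOpenImmersion o₂ ∧
      a ≫ o₁ = b ≫ o₂ ∧ (∀ p : P, p ∈ Set.range o₁ ∨ p ∈ Set.range o₂) ∧
      (∀ (x : X₁) (y : X₂), o₁ x = o₂ y → ∃ w, a w = x ∧ b w = y) ∧
      ∀ (T : Scheme.{u}) (g₁ : X₁ ⟶ T) (g₂ : X₂ ⟶ T), a ≫ g₁ = b ≫ g₂ → ∃ q, o₁ ≫ q = g₁ ∧ o₂ ≫ q = g₂ := by
  let objs : ULift.{u} Bool → Scheme.{u} := fun i => bif i.down then X₁ else X₂
  let arr : ∀ i, W ⟶ objs i := fun ⟨i⟩ => match i with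
    | true => a
    | false => b
  let F := WidePushoutShape.wideSpan W objs arr
  haveI : ∀ {i j} (f : i ⟶ j), IsOpenImmersion (F.map f) := fun {i j} f => by
    obtain - | ⟨⟨k⟩⟩ := f
    · exact (inferInstance : IsOpenImmersion (𝟙 (F.obj i)))
    · cases k
      · exact (inferInstance : IsOpenImmersion b)
      · exact (inferInstance : IsOpenImmersion a)
  let o₁ : X₁ ⟶ colimit F := colimit.ι F (some ⟨true⟩)
  let o₂ : X₂ ⟶ colimit F := colimit.ι F (some ⟨false⟩)
  have ha : a ≫ o₁ = colimit.ι F none := colimit.w F (j' := none) (j := some (ULift.up.{u} true)) (WidePushoutShape.Hom.init (ULift.up.{u} true))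
  have hb : b ≫ o₂ = colimit.ι F none := colimit.w F (j' := none) (j := some (ULift.up.{u} false)) (WidePushoutShape.Hom.init (ULift.up.{u} false))
  refine ⟨colimit F, o₁, o₂, inferInstance, inferInstance, ha.trans hb.symm, fun p => ?_, fun x y h => ?_, fun T g₁ g₂ h => ?_⟩
  · obtain ⟨i, x, rfl⟩ := Scheme.IsLocallyDirected.ι_jointly_surjective F p
    rcases i with - | ⟨⟨k⟩⟩
    · exact Or.inl ⟨a x, by rw [← Scheme.Hom.comp_apply, ha]; rfl⟩
    · cases k
      · exact Or.inr ⟨x, rfl⟩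
      · exact Or.inl ⟨x, rfl⟩
  · obtain ⟨k, fi, fj, w, hw₁, hw₂⟩ := (Scheme.IsLocallyDirected.ι_eq_ι_iff F).1 h
    rcases k with - | ⟨⟨k⟩⟩
    · refine ⟨w, ?_, ?_⟩
      · rw [show fi = WidePushoutShape.Hom.init (ULift.up.{u} true) from Subsingleton.elim _ _] at hw₁
        exact hw₁
      · rw [show fj = WidePushoutShape.Hom.init (ULift.up.{u} false) from Subsingleton.elim _ _] at hw₂
        exact hw₂
    · cases k
      · nomatch fi
      · nomatch fj
  · let c : Cocone F := WidePushoutShape.mkCocone (a ≫ g₁)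
      (fun i => match i with | ⟨true⟩ => g₁ | ⟨false⟩ => g₂)
      (fun i => match i with | ⟨true⟩ => rfl | ⟨false⟩ => h.symm)
    exact ⟨colimit.desc F c, colimit.ι_desc c _, colimit.ι_desc c _⟩

/-- A morphism out of two glued schemes is separated when the common open is closed in the product. -/
theorem isSeparated_glue {P S : Scheme.{u}} (o₁ : X₁ ⟶ P) (o₂ : X₂ ⟶ P) [IsOpenImmersion o₁] [IsOpenImmersion o₂]
    (hw : a ≫ o₁ = b ≫ o₂) (hcov : ∀ p : P, p ∈ Set.range o₁ ∨ p ∈ Set.range o₂)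
    (hint : ∀ (x : X₁) (y : X₂), o₁ x = o₂ y → ∃ w, a w = x ∧ b w = y)
    (q : P ⟶ S) [IsSeparated (o₁ ≫ q)] [IsSeparated (o₂ ≫ q)]
    [IsClosedImmersion (pullback.lift (f := o₁ ≫ q) (g := o₂ ≫ q) a b (by rw [reassoc_of% hw]))] :
    IsSeparated q := by
  have key : ∀ {Z₁ Z₂ : Scheme.{u}} (u : Z₁ ⟶ P) (v : Z₂ ⟶ P) {A : Scheme.{u}} (s : A ⟶ Z₁) (t : A ⟶ Z₂)
      (hp : IsPullback s t u v) (hpq : s ≫ u ≫ q = t ≫ v ≫ q),
      IsClosedImmersion (pullback.lift (f := u ≫ q) (g := v ≫ q) s t hpq) →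
      IsClosedImmersion (pullback.mapDesc u v q) := fun {Z₁ Z₂} u v {A} s t hp hpq h => by
    have e : pullback.lift (f := u ≫ q) (g := v ≫ q) s t hpq = hp.isoPullback.hom ≫ pullback.mapDesc u v q := by
      apply pullback.hom_ext <;> simp
    rw [← MorphismProperty.cancel_left_of_respectsIso @IsClosedImmersion hp.isoPullback.hom]
    exact e ▸ h
  have hdiag : ∀ {Z : Scheme.{u}} (u : Z ⟶ P) [IsOpenImmersion u] [IsSeparated (u ≫ q)],
      IsClosedImmersion (pullback.mapDesc u u q) := fun {Z} u _ _ =>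
    key u u (𝟙 Z) (𝟙 Z) (IsKernelPair.id_of_mono u) rfl
      (show IsClosedImmersion (pullback.diagonal (u ≫ q)) from inferInstance)
  have h12 : IsPullback a b o₁ o₂ := (IsOpenImmersion.isPullback b a o₂ o₁ hw (by
    ext x
    constructor
    · rintro ⟨y, hy⟩
      obtain ⟨w, rfl, -⟩ := hint x y hy.symm
      exact ⟨w, rfl⟩
    · rintro ⟨w, rfl⟩
      exact ⟨b w, by rw [← Scheme.Hom.comp_apply, ← hw, Scheme.Hom.comp_apply]⟩)).flip
  let 𝒰 : P.OpenCover := Scheme.Cover.mkOfCovers (ULift.{u} Bool) (fun i => bif i.down then X₁ else X₂)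
    (fun ⟨i⟩ => match i with | true => o₁ | false => o₂)
    (fun p => by
      rcases hcov p with ⟨x, hx⟩ | ⟨x, hx⟩
      · exact ⟨⟨true⟩, x, hx⟩
      · exact ⟨⟨false⟩, x, hx⟩)
    (fun ⟨i⟩ => match i with | true => ‹IsOpenImmersion o₁› | false => ‹IsOpenImmersion o₂›)
  refine ⟨(IsZariskiLocalAtTarget.iff_of_openCover (P := @IsClosedImmersion)
    (Scheme.Pullback.openCoverOfLeftRight 𝒰 𝒰 q q)).2 fun ⟨i, j⟩ => ?_⟩
  have hsq := pullback_map_diagonal_isPullback (𝒰.f i) (𝒰.f j) q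
  have goalIff : IsClosedImmersion (pullback.mapDesc (𝒰.f i) (𝒰.f j) q) →
      IsClosedImmersion (pullback.snd (pullback.diagonal q) ((Scheme.Pullback.openCoverOfLeftRight 𝒰 𝒰 q q).f (i, j))) := by
    intro h
    rw [← MorphismProperty.cancel_left_of_respectsIso @IsClosedImmersion hsq.isoPullback.hom]
    erw [IsPullback.isoPullback_hom_snd]
    exact h
  apply goalIff
  rcases i with ⟨i⟩
  rcases j with ⟨j⟩
  cases i <;> cases j
  · exact hdiag o₂
  · refine key o₂ o₁ b a h12.flip (by rw [reassoc_of% hw]) ?_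
    rw [← MorphismProperty.cancel_right_of_respectsIso @IsClosedImmersion _ (pullbackSymmetry (o₂ ≫ q) (o₁ ≫ q)).hom]
    convert ‹IsClosedImmersion (pullback.lift (f := o₁ ≫ q) (g := o₂ ≫ q) a b _)› using 1
    apply pullback.hom_ext <;> simp
  · exact key o₁ o₂ a b h12 _ inferInstance
  · exact hdiag o₁

end Groth.Agent.RGBlowLib
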