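import Groth.Agent.RGBlowLib.Union.Main
import Groth.Agent.HTopPhRef.Basic
import Groth.Agent.AmpleEmb.Compose
import Groth.Agent.ChowLib.Main

/-!
# Compactification over a Noetherian base
-/

set_option autoImplicit false
set_option linter.style.haveILetI false
set_option backward.isDefEq.respectTransparency false
set_option maxHeartbeats 800000

universe u

open CategoryTheory CategoryTheory.Limits AlgebraicGeometry TopologicalSpace

noncomputable section

namespace Groth.Agent.RGBlowLib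

variable {S : Scheme.{u}}

/-- `g` factors as a quasi-compact open immersion followed by a proper morphism. -/
def Compactifiable {U : Scheme.{u}} (g : U ⟶ S) : Prop :=
  ∃ (Y : Scheme.{u}) (j : U ⟶ Y) (p : Y ⟶ S), IsOpenImmersion j ∧ QuasiCompact j ∧ IsProper p ∧ j ≫ p = g

theorem Compactifiable.of_immersion {U P : Scheme.{u}} {g : U ⟶ S} (h : U ⟶ P) [IsImmersion h] [QuasiCompact h]
    (p : P ⟶ S) [IsProper p] (hg : h ≫ p = g) : Compactifiable g :=
  ⟨h.image, h.toImage, h.imageι ≫ p, inferInstance,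
    (by haveI : QuasiCompact (h.toImage ≫ h.imageι) := (by rw [h.toImage_imageι]; infer_instance)
        exact QuasiCompact.of_comp h.toImage h.imageι),
    MorphismProperty.comp_mem (W := @IsProper) _ _ inferInstance inferInstance,
    by rw [Scheme.Hom.toImage_imageι_assoc, hg]⟩

theorem Compactifiable.comp_open [IsNoetherian S] {U V : Scheme.{u}} {g : U ⟶ S} [LocallyOfFiniteType g]
    [QuasiCompact g] (h : Compactifiable g) (e : V ⟶ U) [IsOpenImmersion e] : Compactifiable (e ≫ g) := by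
  obtain ⟨Y, j, p, hj, -, hp, rfl⟩ := h
  haveI := hj
  haveI := hp
  haveI : IsNoetherian U := Union.isNoetherian_of_ft (j ≫ p)
  haveI : IsLocallyNoetherian V := isLocallyNoetherian_of_isOpenImmersion e
  haveI : IsNoetherian Y := Union.isNoetherian_of_ft p
  haveI : CompactSpace V := QuasiCompact.compactSpace_of_compactSpace e
  haveI : IsNoetherian V := ⟨⟩
  exact ⟨Y, e ≫ j, p, inferInstance, inferInstance, hp, Category.assoc _ _ _⟩

theorem Compactifiable.of_disjoint [IsNoetherian S] {U : Scheme.{u}} (g : U ⟶ S) [LocallyOfFiniteType g]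
    [QuasiCompact g] (V₁ V₂ : U.Opens) (hcov : ∀ x : U, x ∈ V₁ ∨ x ∈ V₂) (hd : ∀ x ∈ V₁, x ∉ V₂)
    (h₁ : Compactifiable (V₁.ι ≫ g)) (h₂ : Compactifiable (V₂.ι ≫ g)) : Compactifiable g := by
  obtain ⟨Y₁, j₁, p₁, hj₁, -, hp₁, e₁⟩ := h₁
  obtain ⟨Y₂, j₂, p₂, hj₂, -, hp₂, e₂⟩ := h₂
  haveI := hj₁
  haveI := hj₂
  haveI := hp₁
  haveI := hp₂
  haveI := HTopPhRef.isProper_coprodDesc p₁ p₂
  haveI : IsNoetherian U := Union.isNoetherian_of_ft g
  haveI hE : IsEmpty ((V₁ ⊓ V₂ : U.Opens) : Scheme.{u}) := ⟨fun x => hd x.1 x.2.1 x.2.2⟩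
  obtain ⟨j, hjl, hjr⟩ := Union.exists_desc_two V₁ V₂ hcov (j₁ ≫ (coprod.inl : Y₁ ⟶ Y₁ ⨿ Y₂))
    (j₂ ≫ (coprod.inr : Y₂ ⟶ Y₁ ⨿ Y₂)) (Scheme.hom_ext_of_forall _ _ fun x => isEmptyElim x)
  have hval₁ : ∀ x : V₁, j x.1 = (coprod.inl : Y₁ ⟶ Y₁ ⨿ Y₂) (j₁ x) := fun x =>
    (congrArg (fun k : (V₁ : Scheme.{u}) ⟶ Y₁ ⨿ Y₂ => k x) hjl).trans (Scheme.Hom.comp_apply _ _ _)
  have hval₂ : ∀ x : V₂, j x.1 = (coprod.inr : Y₂ ⟶ Y₁ ⨿ Y₂) (j₂ x) := fun x =>
    (congrArg (fun k : (V₂ : Scheme.{u}) ⟶ Y₁ ⨿ Y₂ => k x) hjr).trans (Scheme.Hom.comp_apply _ _ _)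
  have hinj : Function.Injective j := fun x y h => by
    rcases hcov x with hx | hx <;> rcases hcov y with hy | hy
    · rw [hval₁ ⟨x, hx⟩, hval₁ ⟨y, hy⟩] at h
      exact congrArg Subtype.val (j₁.isOpenEmbedding.injective
        ((coprod.inl : Y₁ ⟶ Y₁ ⨿ Y₂).isOpenEmbedding.injective h))
    · rw [hval₁ ⟨x, hx⟩, hval₂ ⟨y, hy⟩] at h
      exact absurd h (inl_ne_inr _ _ _ _)
    · rw [hval₂ ⟨x, hx⟩, hval₁ ⟨y, hy⟩] at h
      exact absurd h (inr_ne_inl _ _ _ _)
    · rw [hval₂ ⟨x, hx⟩, hval₂ ⟨y, hy⟩] at h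
      exact congrArg Subtype.val (j₂.isOpenEmbedding.injective
        ((coprod.inr : Y₂ ⟶ Y₁ ⨿ Y₂).isOpenEmbedding.injective h))
  haveI : IsOpenImmersion j := by
    refine IsOpenImmersion.of_openCover_source j (U.openCoverOfIsOpenCover (fun i : Bool => bif i then V₁ else V₂)
      (TopologicalSpace.IsOpenCover.mk (top_le_iff.1 fun z _ => ?_))) hinj fun i => ?_
    · rcases hcov z with h | h
      · exact Opens.mem_iSup.2 ⟨true, h⟩
      · exact Opens.mem_iSup.2 ⟨false, h⟩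
    · cases i
      · show IsOpenImmersion (V₂.ι ≫ j); rw [hjr]; infer_instance
      · show IsOpenImmersion (V₁.ι ≫ j); rw [hjl]; infer_instance
  refine ⟨Y₁ ⨿ Y₂, j, coprod.desc p₁ p₂, inferInstance, inferInstance, inferInstance, ?_⟩
  refine Scheme.Cover.hom_ext (U.openCoverOfIsOpenCover (fun i : Bool => bif i then V₁ else V₂)
    (TopologicalSpace.IsOpenCover.mk (top_le_iff.1 fun z _ => ?_))) _ _ fun i => ?_
  · rcases hcov z with h | h
    · exact Opens.mem_iSup.2 ⟨true, h⟩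
    · exact Opens.mem_iSup.2 ⟨false, h⟩
  · cases i
    · show V₂.ι ≫ j ≫ coprod.desc p₁ p₂ = V₂.ι ≫ g
      rw [reassoc_of% hjr, coprod.inr_desc, e₂]
    · show V₁.ι ≫ j ≫ coprod.desc p₁ p₂ = V₁.ι ≫ g
      rw [reassoc_of% hjl, coprod.inl_desc, e₁]

theorem Compactifiable.union [IsNoetherian S] {U : Scheme.{u}} (g : U ⟶ S) [IsSeparated g] [LocallyOfFiniteType g]
    [QuasiCompact g] (U₁ U₂ : U.Opens) (hcov : ∀ x : U, x ∈ U₁ ∨ x ∈ U₂)
    (h₁ : Compactifiable (U₁.ι ≫ g)) (h₂ : Compactifiable (U₂.ι ≫ g)) : Compactifiable g := by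
  haveI : IsNoetherian U := Union.isNoetherian_of_ft g
  let A₁ : U.Opens := ⟨(closure (U₁ : Set U))ᶜ, isClosed_closure.isOpen_compl⟩
  let A₂ : U.Opens := ⟨(closure (U₂ : Set U))ᶜ, isClosed_closure.isOpen_compl⟩
  haveI : NoetherianSpace U := inferInstance
  have hft : ∀ (W : U.Opens), LocallyOfFiniteType (W.ι ≫ g) ∧ QuasiCompact (W.ι ≫ g) := fun W => by
    haveI : IsLocallyNoetherian (W : Scheme.{u}) := isLocallyNoetherian_of_isOpenImmersion W.ι
    haveI : CompactSpace (W : Scheme.{u}) := isCompact_iff_compactSpace.1 (NoetherianSpace.isCompact _)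
    haveI : IsNoetherian (W : Scheme.{u}) := ⟨⟩
    exact ⟨inferInstance, inferInstance⟩
  -- an open inside one of the pieces
  have hsub : ∀ (V W : U.Opens), W ≤ V → Compactifiable (V.ι ≫ g) → Compactifiable (W.ι ≫ g) := fun V W h hV => by
    haveI := (hft V).1
    haveI := (hft V).2
    have := hV.comp_open (U.homOfLE h)
    rwa [← Category.assoc, Scheme.homOfLE_ι] at this
  have hsup : ∀ (V A : U.Opens), (∀ x ∈ V, x ∉ A) → Compactifiable (V.ι ≫ g) → Compactifiable (A.ι ≫ g) →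
      Compactifiable ((V ⊔ A).ι ≫ g) := fun V A hd hV hA => by
    haveI := (hft (V ⊔ A)).1
    haveI := (hft (V ⊔ A)).2
    refine Compactifiable.of_disjoint _ ((V ⊔ A).ι ⁻¹ᵁ V) ((V ⊔ A).ι ⁻¹ᵁ A) (fun x => x.2) (fun x hx => hd x.1 hx) ?_ ?_
    · haveI := (hft V).1
      haveI := (hft V).2
      have := hV.comp_open ((V ⊔ A).ι ∣_ V)
      rwa [morphismRestrict_ι_assoc] at this
    · haveI := (hft A).1
      haveI := (hft A).2
      have := hA.comp_open ((V ⊔ A).ι ∣_ A)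
      rwa [morphismRestrict_ι_assoc] at this
  have hA₁ : A₁ ≤ U₂ := fun x hx => (hcov x).resolve_left fun h => hx (subset_closure h)
  have hA₂ : A₂ ≤ U₁ := fun x hx => (hcov x).resolve_right fun h => hx (subset_closure h)
  have c₁ := hsup U₁ A₁ (fun x hx h => h (subset_closure hx)) h₁ (hsub U₂ A₁ hA₁ h₂)
  have c₂ := hsup U₂ A₂ (fun x hx h => h (subset_closure hx)) h₂ (hsub U₁ A₂ hA₂ h₁)
  obtain ⟨Y₁, j₁, π₁, hj₁o, -, hπ₁, hj₁⟩ := c₁
  obtain ⟨Y₂, j₂, π₂, hj₂o, -, hπ₂, hj₂⟩ := c₂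
  haveI := hj₁o
  haveI := hj₂o
  haveI := hπ₁
  haveI := hπ₂
  have hdense : ∀ (V : U.Opens), Dense (((V ⊔ ⟨(closure (V : Set U))ᶜ, isClosed_closure.isOpen_compl⟩ : U.Opens)) : Set U) :=
    fun V x => by
      by_cases hx : x ∈ closure (V : Set U)
      · exact closure_mono Set.subset_union_left hx
      · exact subset_closure (Or.inr hx)
  obtain ⟨D⟩ := Union.exists_setup g (U₁ ⊔ A₁) (U₂ ⊔ A₂) π₁ π₂ j₁ j₂ hj₁ hj₂
  exact Union.exists_compactification g _ _ (fun x => (hcov x).imp Or.inl Or.inl)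
    (by rw [Opens.coe_inf]; exact (hdense U₁).inter_of_isOpen_left (hdense U₂) (U₁ ⊔ A₁).2) D

theorem compactifiable_of_noetherian [IsNoetherian S] {X : Scheme.{u}} (f : X ⟶ S) [IsSeparated f]
    [LocallyOfFiniteType f] [QuasiCompact f] : Compactifiable f := by
  classical
  haveI : IsNoetherian X := Union.isNoetherian_of_ft f
  haveI : NoetherianSpace X := inferInstance
  have hft : ∀ (W : X.Opens), LocallyOfFiniteType (W.ι ≫ f) ∧ QuasiCompact (W.ι ≫ f) ∧ IsNoetherian (W : Scheme.{u}) :=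
    fun W => by
    haveI : IsLocallyNoetherian (W : Scheme.{u}) := isLocallyNoetherian_of_isOpenImmersion W.ι
    haveI : CompactSpace (W : Scheme.{u}) := isCompact_iff_compactSpace.1 (NoetherianSpace.isCompact _)
    haveI : IsNoetherian (W : Scheme.{u}) := ⟨⟩
    exact ⟨inferInstance, inferInstance, inferInstance⟩
  have haff : ∀ V : X.Opens, V.toScheme.IsQuasiAffine → Compactifiable (V.ι ≫ f) := fun V hV => by
    obtain ⟨n, h, hh, hcomp⟩ := ChowLib.exists_immersion_quasiAffine f hV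
    haveI := hh
    haveI := AmpleEmb.isProper_toBase n S
    haveI := (hft V).2.2
    exact Compactifiable.of_immersion h (CohB1.ProjSpaceOver.toBase n S) hcomp
  have key : ∀ t : Finset X.affineOpens, Compactifiable ((t.sup Subtype.val : X.Opens).ι ≫ f) := by
    intro t
    induction t using Finset.induction_on with
    | empty =>
      rw [Finset.sup_empty]
      exact haff ⊥ (ChowLib.isQuasiAffine_of_isAffineOpen (isAffineOpen_bot X))
    | insert A t hAt ih =>
      rw [Finset.sup_insert]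
      set W := A.1 ⊔ t.sup Subtype.val with hW
      haveI := (hft W).1
      haveI := (hft W).2.1
      refine Compactifiable.union _ (W.ι ⁻¹ᵁ A.1) (W.ι ⁻¹ᵁ t.sup Subtype.val) (fun x => x.2) ?_ ?_
      · haveI := (hft A.1).1
        haveI := (hft A.1).2.1
        have := (haff A.1 (ChowLib.isQuasiAffine_of_isAffineOpen A.2)).comp_open (W.ι ∣_ A.1)
        rwa [morphismRestrict_ι_assoc] at this
      · haveI := (hft (t.sup Subtype.val)).1
        haveI := (hft (t.sup Subtype.val)).2.1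
        have := ih.comp_open (W.ι ∣_ t.sup Subtype.val)
        rwa [morphismRestrict_ι_assoc] at this
  obtain ⟨t, ht⟩ := isCompact_univ.elim_finite_subcover (fun A : X.affineOpens => (A.1 : Set X))
    (fun A => A.1.2) (fun x _ => by
      obtain ⟨V, hV, hxV, -⟩ := exists_isAffineOpen_mem_and_subset (X := X) (U := ⊤) (x := x) trivial
      exact Set.mem_iUnion.2 ⟨⟨V, hV⟩, hxV⟩)
  have htop : (t.sup Subtype.val : X.Opens) = ⊤ := top_le_iff.1 fun x _ => by
    obtain ⟨A, hA, hxA⟩ := Set.mem_iUnion₂.1 (ht (Set.mem_univ x))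
    exact (Finset.le_sup (f := Subtype.val) hA) hxA
  have h := key t
  rw [htop] at h
  haveI := (hft ⊤).1
  haveI := (hft ⊤).2.1
  have h2 := h.comp_open X.topIso.inv
  rwa [← Category.assoc, ← Scheme.topIso_hom, Iso.inv_hom_id, Category.id_comp] at h2

end Groth.Agent.RGBlowLib
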