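import Groth.Agent.RGBlowLib.Union.Basic
import Groth.Agent.S1279

/-!
# A strict transform which is an isomorphism near a closure
-/

set_option autoImplicit false
set_option linter.style.haveILetI false
set_option backward.isDefEq.respectTransparency false
set_option maxHeartbeats 1600000

universe u

open CategoryTheory CategoryTheory.Limits AlgebraicGeometry TopologicalSpace

noncomputable section

namespace Groth.Agent.RGBlowLib

variable {X Y : Scheme.{u}}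

/-- An isomorphism over an open is one over smaller opens. -/
theorem isIso_restrict_of_le (f : X ⟶ Y) {W R : Y.Opens} [IsIso (f ∣_ W)] (h : R ≤ W) : IsIso (f ∣_ R) := by
  have e : W.ι ''ᵁ (W.ι ⁻¹ᵁ R) = R := by
    rw [Scheme.Hom.image_preimage_eq_opensRange_inf, Scheme.Opens.opensRange_ι, inf_eq_right.2 h]
  exact (MorphismProperty.arrow_mk_iso_iff (MorphismProperty.isomorphisms Scheme.{u})
    (morphismRestrictRestrict f W (W.ι ⁻¹ᵁ R) ≪≫ morphismRestrictEq f e)).1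
    (show IsIso ((f ∣_ W) ∣_ (W.ι ⁻¹ᵁ R)) from inferInstance)

/-- A closed subset of an open is contained in a constructible one, inside a given open. -/
theorem exists_compact_open_between [CompactSpace X] (C : Set X) (hC : IsCompact C) (Q : X.Opens) (hCQ : C ⊆ Q) :
    ∃ Q' : X.Opens, IsCompact (Q' : Set X) ∧ C ⊆ Q' ∧ Q' ≤ Q := by
  classical
  obtain ⟨s, hs⟩ := hC.elim_finite_subcover (fun A : {A : X.affineOpens // A.1 ≤ Q} => (A.1.1 : Set X))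
    (fun A => A.1.1.2) (fun x hx => by
      obtain ⟨A, hA, hxA, hAQ⟩ := exists_isAffineOpen_mem_and_subset (U := Q) (x := x) (hCQ hx)
      exact Set.mem_iUnion.2 ⟨⟨⟨A, hA⟩, hAQ⟩, hxA⟩)
  refine ⟨⟨⋃ A ∈ s, (A.1.1 : Set X), isOpen_biUnion fun A _ => A.1.1.2⟩,
    s.isCompact_biUnion fun A _ => A.1.2.isCompact, hs, fun x hx => ?_⟩
  obtain ⟨A, -, hxA⟩ := Set.mem_iUnion₂.1 hx
  exact A.2 hxA

/-- Two blow-ups compose, with the centre of the second containing the new centre. -/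
theorem exists_comp_le [CompactSpace Y] [QuasiSeparatedSpace Y] {Y₁ Y₂ : Scheme.{u}} (V : Y.Opens)
    {I : Y.IdealSheafData} {b₁ : Y₁ ⟶ Y} (hb₁ : BlowUp.IsBlowUp b₁ I) (hI : BlowUp.IsAdmissibleFor V I)
    {K' : Y₁.IdealSheafData} {b₂ : Y₂ ⟶ Y₁} (hb₂ : BlowUp.IsBlowUp b₂ K') (hK' : BlowUp.IsAdmissibleFor (b₁ ⁻¹ᵁ V) K') :
    ∃ 𝓚 : Y.IdealSheafData, BlowUp.IsBlowUp (b₂ ≫ b₁) 𝓚 ∧ BlowUp.IsAdmissibleFor V 𝓚 ∧ 𝓚.comap b₁ ≤ K' := by
  obtain ⟨K, d, hK, hd, hcomap⟩ := exists_comap_eq hb₁ hI.1 K' hK'.1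
  have hEd : BlowUp.IsEffCartierIdeal ((I.comap b₁) ^ d) := by
    clear hd hcomap
    induction d with
    | zero => rw [pow_zero, Scheme.IdealSheafData.one_eq_top]; exact BlowCompLib.isEffCartier_top
    | succ n ih => rw [pow_succ]; exact BlowCompLib.isEffCartier_mul ih hb₁.1
  refine ⟨I * K, S1683.result I K b₁ hb₁ b₂ (hcomap ▸ S8907.result K' _ hEd b₂ hb₂),
    ⟨fun A => by rw [Scheme.IdealSheafData.ideal_mul, Pi.mul_apply]; exact Submodule.FG.mul (hI.1 A) (hK A),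
      Set.disjoint_left.2 fun x hx hxV => ?_⟩, ?_⟩
  · rw [Scheme.IdealSheafData.support_mul, Closeds.coe_sup] at hx
    rcases hx with hx | hx
    · exact Set.disjoint_left.1 hI.2 hx hxV
    · haveI := Union.isIso_restrict_adm hb₁ V hI
      obtain ⟨y, hy⟩ := (b₁ ∣_ V).surjective ⟨x, hxV⟩
      have hyx : b₁ y.1 = x := by rw [← morphismRestrict_base_coe, hy]
      have h : y.1 ∈ (K.comap b₁).support := by
        rw [Scheme.IdealSheafData.support_comap]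
        show b₁ y.1 ∈ K.support
        rw [hyx]
        exact hx
      rw [hcomap, Scheme.IdealSheafData.support_mul] at h
      rcases h with h | h
      · exact Set.disjoint_left.1 hK'.2 h y.2
      · rw [Scheme.IdealSheafData.support_pow _ _ hd, Scheme.IdealSheafData.support_comap] at h
        exact Set.disjoint_left.1 hI.2 (show b₁ y.1 ∈ I.support from h) (hyx ▸ hxV)
  · rw [BlowCompLib.comap_mul, hcomap]
    intro A
    rw [Scheme.IdealSheafData.ideal_mul, Scheme.IdealSheafData.ideal_mul, Pi.mul_apply, Pi.mul_apply]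
    exact Ideal.mul_le_right.trans Ideal.mul_le_left

theorem pow_ideal_le {E E' : X.IdealSheafData} (h : E ≤ E') (n : ℕ) (A : X.affineOpens) :
    (E ^ n).ideal A ≤ (E' ^ n).ideal A := by
  rw [Scheme.IdealSheafData.ideal_pow, Scheme.IdealSheafData.ideal_pow, Pi.pow_apply, Pi.pow_apply]
  exact Ideal.pow_right_mono (h A) n

theorem exists_iso_near_closure [CompactSpace Y] [QuasiSeparatedSpace Y]
    (f : X ⟶ Y) [IsProper f] (V : Y.Opens) (hV : IsCompact (V : Set Y)) (T : Set Y) (hTV : T ⊆ V)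
    (hT : IsClosed (Subtype.val ⁻¹' T : Set V))
    (W : Y.Opens) (hTW : T ⊆ W) (hWV : W ≤ V) [IsIso (f ∣_ W)] :
    ∃ (𝓘 : Y.IdealSheafData) (Y' : Scheme.{u}) (b : Y' ⟶ Y), BlowUp.IsBlowUp b 𝓘 ∧ BlowUp.IsAdmissibleFor V 𝓘 ∧
      ∀ (X' : Scheme.{u}) (p₁ : X' ⟶ X) (p₂ : X' ⟶ Y'), IsPullback p₁ p₂ f b →
      ∀ (𝒥 : X'.IdealSheafData),
        (∀ (W : X'.affineOpens) (a : Γ(X', W.1)), a ∈ 𝒥.ideal W ↔
          BlowUp.KilledByPowerNear ((𝓘.comap f).comap p₁) (Coh.structureModule X') W a) →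
        ∃ W' : Y'.Opens, closure (b.base ⁻¹' T) ⊆ W' ∧ IsIso ((𝒥.subschemeι ≫ p₂) ∣_ W') := by
  haveI : CompactSpace (V : Scheme.{u}) := isCompact_iff_compactSpace.1 hV
  haveI : QuasiSeparatedSpace (V : Scheme.{u}) := QuasiSeparatedSpace.of_isOpenEmbedding V.ι.isOpenEmbedding
  -- constructible replacements
  let TV : Set (V : Scheme.{u}) := Subtype.val ⁻¹' T
  obtain ⟨W₀, hW₀c, hTW₀, hW₀W⟩ := exists_compact_open_between TV hT.isCompact (V.ι ⁻¹ᵁ W) (fun x hx => hTW hx)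
  let F : Set (V : Scheme.{u}) := (W₀ : Set (V : Scheme.{u}))ᶜ
  obtain ⟨Q₀, hQ₀c, hFQ₀, hQ₀T⟩ := exists_compact_open_between F W₀.2.isClosed_compl.isCompact
    ⟨TVᶜ, hT.isOpen_compl⟩ (fun x hx h => hx (hTW₀ h))
  let T' : Set (V : Scheme.{u}) := (Q₀ : Set (V : Scheme.{u}))ᶜ
  obtain ⟨I, Y₁, b₁, hb₁, hI, hdisj⟩ := S1279.result V hV T' F Q₀.2.isClosed_compl W₀.2.isClosed_compl
    (hQ₀c.isConstructible Q₀.2).compl (hW₀c.isConstructible W₀.2).compl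
    (Set.disjoint_left.2 fun x hx hx' => hx (hFQ₀ hx'))
  haveI : IsProper b₁ := isProper_blowUp hb₁ hI
  haveI : CompactSpace Y₁ := QuasiCompact.compactSpace_of_compactSpace b₁
  haveI : QuasiSeparatedSpace Y₁ := quasiSeparatedSpace_of_quasiSeparated b₁
  obtain ⟨Q, hQc, hTQ, hQF⟩ := exists_compact_open_between (closure (b₁ ⁻¹' (Subtype.val '' T')))
    isClosed_closure.isCompact ⟨(closure (b₁ ⁻¹' (Subtype.val '' F)))ᶜ, isClosed_closure.isOpen_compl⟩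
    (fun x hx h => Set.disjoint_left.1 hdisj hx h)
  haveI : CompactSpace (Q : Scheme.{u}) := isCompact_iff_compactSpace.1 hQc
  haveI : QuasiSeparatedSpace (Q : Scheme.{u}) := QuasiSeparatedSpace.of_isOpenEmbedding Q.ι.isOpenEmbedding
  let R : (Q : Scheme.{u}).Opens := Q.ι ⁻¹ᵁ (b₁ ⁻¹ᵁ V)
  have hV₁ : IsCompact ((b₁ ⁻¹ᵁ V : Y₁.Opens) : Set Y₁) := QuasiCompact.isCompact_preimage _ V.2 hV
  have hRc : IsCompact (R : Set Q) := by
    rw [Q.ι.isOpenEmbedding.isEmbedding.isCompact_iff]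
    show IsCompact (Q.ι '' (Q.ι ⁻¹' ((b₁ ⁻¹ᵁ V : Y₁.Opens) : Set Y₁)))
    rw [Set.image_preimage_eq_inter_range, Scheme.Opens.range_ι]
    exact hV₁.inter_of_isOpen hQc (b₁ ⁻¹ᵁ V).2 Q.2
  let φ : pullback f (Q.ι ≫ b₁) ⟶ (Q : Scheme.{u}) := pullback.snd f (Q.ι ≫ b₁)
  haveI : IsProper φ := MorphismProperty.pullback_snd (P := @IsProper) _ _ inferInstance
  haveI : IsIso (φ ∣_ ((Q.ι ≫ b₁) ⁻¹ᵁ W)) :=
    isIso_restrict_snd f W (Q.ι ≫ b₁) (IsPullback.of_hasPullback f (Q.ι ≫ b₁))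
  haveI : IsIso (φ ∣_ R) := isIso_restrict_of_le φ (W := (Q.ι ≫ b₁) ⁻¹ᵁ W) fun y hy => by
    show b₁ y.1 ∈ W
    by_contra hn
    refine hQF y.2 (subset_closure ⟨⟨b₁ y.1, hy⟩, ?_, rfl⟩)
    exact fun h => hn (hW₀W h)
  obtain ⟨I₂, Q', c, hc, hI₂, -, H⟩ := exists_isIso_strict φ R hRc
  obtain ⟨K', hK', hK'Q, hres⟩ := S8857.result Y₁ (b₁ ⁻¹ᵁ V) Q hV₁ hQc I₂ hI₂
  obtain ⟨Y₂, b₂, hb₂⟩ := S8859.result Y₁ K'
  obtain ⟨𝓚, hb, h𝓚, hle⟩ := exists_comp_le V hb₁ hI hb₂ hK'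
  -- the strict transform over `Q` for the blow-up `b₂`
  obtain ⟨e, he⟩ := S8858.exists_iso_blowUp (hres Y₂ b₂ hb₂) hc
  refine ⟨𝓚, Y₂, b₂ ≫ b₁, hb, h𝓚, fun X' p₁ p₂ hpb 𝒥 hJ => ⟨b₂ ⁻¹ᵁ Q, ?_, ?_⟩⟩
  · refine fun y hy => hTQ ?_
    have h1 : b₂ y ∈ closure (b₂ '' ((b₂ ≫ b₁) ⁻¹' T)) :=
      image_closure_subset_closure_image b₂.continuous ⟨y, hy, rfl⟩
    refine closure_mono ?_ h1
    rintro _ ⟨z, hz, rfl⟩
    have hzT : b₁ (b₂ z) ∈ T := by rw [← Scheme.Hom.comp_apply]; exact hz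
    exact ⟨⟨_, hTV hzT⟩, fun h => hQ₀T h hzT, rfl⟩
  let W' : Y₂.Opens := b₂ ⁻¹ᵁ Q
  let O : X'.Opens := p₂ ⁻¹ᵁ W'
  have hsq0 : IsPullback (O.ι ≫ p₁) (p₂ ∣_ W') f ((b₂ ∣_ Q) ≫ Q.ι ≫ b₁) := by
    have h := ((isPullback_morphismRestrict p₂ W').paste_vert hpb.flip).flip
    rw [morphismRestrict_ι_assoc]
    exact h
  let q₁ : (O : Scheme.{u}) ⟶ pullback f (Q.ι ≫ b₁) :=
    pullback.lift (O.ι ≫ p₁) ((p₂ ∣_ W') ≫ (b₂ ∣_ Q)) (by rw [Category.assoc]; exact hsq0.w.trans rfl)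
  have hq₁ : q₁ ≫ φ = (p₂ ∣_ W') ≫ (b₂ ∣_ Q) := pullback.lift_snd _ _ _
  have hq₁' : q₁ ≫ pullback.fst f (Q.ι ≫ b₁) = O.ι ≫ p₁ := pullback.lift_fst _ _ _
  have hsq1 : IsPullback q₁ (p₂ ∣_ W') φ (b₂ ∣_ Q) :=
    IsPullback.of_right (by rw [hq₁']; exact hsq0) hq₁ (IsPullback.of_hasPullback f (Q.ι ≫ b₁))
  -- transport along the isomorphism of blow-ups
  have hsq : IsPullback q₁ ((p₂ ∣_ W') ≫ e.hom) φ c :=
    hsq1.of_iso (Iso.refl _) (Iso.refl _) e (Iso.refl _) (by simp) (by simp) (by simp) (by simp [he])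
  obtain ⟨𝒥₂, hJ₂⟩ := exists_killed_of_fg ((I₂.comap φ).comap q₁) (by
    rw [← Scheme.IdealSheafData.comap_comp, hsq.w, Scheme.IdealSheafData.comap_comp]
    exact ModPairLib.fg_of_isLP ((ModPairLib.isLP_of_cart hc.1).comap _))
  haveI := H _ _ _ hsq 𝒥₂ hJ₂
  let i := 𝒥.subschemeι ∣_ O
  haveI : IsClosedImmersion i := IsZariskiLocalAtTarget.restrict (P := @IsClosedImmersion) (show IsClosedImmersion 𝒥.subschemeι from inferInstance) O
  have hker : i.ker = 𝒥.comap O.ι := by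
    show (𝒥.subschemeι ∣_ O).ker = _
    rw [Scheme.IdealSheafData.comap, ← (isPullback_morphismRestrict 𝒥.subschemeι O).isoPullback_hom_fst,
      Scheme.Hom.ker_comp_of_isIso]
  let g₂ := 𝒥₂.subschemeι ≫ (p₂ ∣_ W')
  haveI : IsIso g₂ := by
    have h : IsIso (g₂ ≫ e.hom) := by simp only [g₂, Category.assoc]; infer_instance
    exact IsIso.of_isIso_comp_right g₂ e.hom
  -- the restricted exceptional ideal is contained in the new one
  let EK := (𝓚.comap f).comap p₁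
  let E₂ := (I₂.comap φ).comap q₁
  have hEle : EK.comap O.ι ≤ E₂ := by
    simp only [EK, E₂, ← Scheme.IdealSheafData.comap_comp, hq₁]
    rw [← hK'Q, ← Scheme.IdealSheafData.comap_comp,
      show O.ι ≫ p₁ ≫ f = (((p₂ ∣_ W') ≫ (b₂ ∣_ Q)) ≫ Q.ι) ≫ b₁ by
        rw [← Category.assoc, hsq0.w]; simp only [Category.assoc],
      Scheme.IdealSheafData.comap_comp 𝓚 _ b₁]
    exact Scheme.IdealSheafData.comap_mono (f := ((p₂ ∣_ W') ≫ (b₂ ∣_ Q)) ≫ Q.ι) hle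
  have hJle : 𝒥₂ ≤ i.ker := by
    rw [hker]
    intro C a ha
    obtain ⟨n, hn⟩ := (hJ₂ C a).1 ha
    rw [Scheme.IdealSheafData.ideal_comap_of_isOpenImmersion, Ideal.mem_comap]
    refine (hJ _ _).2 ⟨n, fun t ht => ?_⟩
    have ht' : (O.ι.appIso C.1).hom.hom t ∈ (E₂ ^ n).ideal C := by
      refine pow_ideal_le hEle n C ?_
      rw [← Union.comap_pow, Scheme.IdealSheafData.ideal_comap_of_isOpenImmersion, Ideal.mem_comap,
        ← CommRingCat.comp_apply, Iso.hom_inv_id]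
      exact ht
    have h0 : (O.ι.appIso C.1).hom.hom t * a = 0 := hn _ ht'
    show t * (O.ι.appIso C.1).inv.hom a = 0
    have h1 := congrArg (O.ι.appIso C.1).inv.hom h0
    rwa [map_mul, map_zero, ← CommRingCat.comp_apply, Iso.hom_inv_id] at h1
  let l := IsClosedImmersion.lift 𝒥₂.subschemeι i (by rw [Scheme.IdealSheafData.ker_subschemeι]; exact hJle)
  have hl : l ≫ 𝒥₂.subschemeι = i := IsClosedImmersion.lift_fac _ _ _
  let s := inv g₂ ≫ 𝒥₂.subschemeι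
  have hs : s ≫ (p₂ ∣_ W') = 𝟙 _ := by rw [Category.assoc]; exact IsIso.inv_hom_id g₂
  have hker' : i.ker ≤ s.ker := by
    rw [← Scheme.IdealSheafData.map_bot s, hker]
    refine Scheme.IdealSheafData.le_map_iff_comap_le.2 ?_
    rw [← Scheme.IdealSheafData.comap_comp]
    refine (comap_killed_eq_bot _ 𝒥 hJ (s ≫ O.ι) ?_).le
    rw [← Scheme.IdealSheafData.comap_comp, ← Scheme.IdealSheafData.comap_comp, Category.assoc, Category.assoc,
      hpb.w, ← reassoc_of% (morphismRestrict_ι p₂ W'), reassoc_of% hs, Scheme.IdealSheafData.comap_comp]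
    exact BlowCompLib.isEffCartier_comap_openImmersion hb.1 _
  let s' := IsClosedImmersion.lift i s hker'
  have hs' : s' ≫ i = s := IsClosedImmersion.lift_fac _ _ _
  rw [morphismRestrict_comp]
  show IsIso (i ≫ (p₂ ∣_ W'))
  refine ⟨s', ?_, ?_⟩
  · rw [← cancel_mono i, Category.assoc, Category.assoc, hs', Category.id_comp]
    conv_rhs => rw [← hl]
    show i ≫ (p₂ ∣_ W') ≫ inv g₂ ≫ 𝒥₂.subschemeι = _
    rw [← hl, Category.assoc]
    congr 1
    rw [← Category.assoc, ← Category.assoc]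
    show (g₂ ≫ inv g₂) ≫ 𝒥₂.subschemeι = _
    rw [IsIso.hom_inv_id, Category.id_comp]
  · rw [reassoc_of% hs', hs]

end Groth.Agent.RGBlowLib
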