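import Groth.Agent.RGBlowLib.Affine
import Groth.Agent.RGBlowLib.Transport

/-!
# Flattening of an algebra of finite type
-/

set_option autoImplicit false
set_option linter.style.haveILetI false
set_option backward.isDefEq.respectTransparency false
set_option maxHeartbeats 1000000

universe u

open TensorProduct

noncomputable section

namespace Groth.Agent.RGBlowLib

attribute [local instance] Algebra.TensorProduct.rightAlgebra

theorem localized_ring_hyp {R P B : Type u} [CommRing R] [CommRing P] [CommRing B] [Algebra R P] [Algebra R B]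
    [Algebra P B] [IsScalarTower R P B] [Algebra.FinitePresentation R P]
    (hπ : Function.Surjective (algebraMap P B)) (a : R)
    [Algebra.FinitePresentation R (Localization.Away (algebraMap R B a))]
    [Module.Flat R (Localization.Away (algebraMap R B a))] :
    Module.FinitePresentation (Localization.Away (algebraMap R P a))
      (LocalizedModule (Submonoid.powers (algebraMap R P a)) B) ∧
      Module.Flat R (LocalizedModule (Submonoid.powers a) B) := by
  let p := algebraMap R P a
  let Bₐ := Localization.Away (algebraMap R B a)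
  let Pₐ := Localization.Away p
  have hb : algebraMap P B p = algebraMap R B a := (IsScalarTower.algebraMap_apply R P B a).symm
  haveI hl₁ : IsLocalization (Algebra.algebraMapSubmonoid B (Submonoid.powers p)) Bₐ := by
    rw [Algebra.algebraMapSubmonoid, Submonoid.map_powers, hb]; infer_instance
  haveI hl₂ : IsLocalization (Algebra.algebraMapSubmonoid B (Submonoid.powers a)) Bₐ := by
    rw [Algebra.algebraMapSubmonoid, Submonoid.map_powers]; infer_instance
  haveI : IsLocalizedModule (Submonoid.powers p) (IsScalarTower.toAlgHom P B Bₐ).toLinearMap :=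
    isLocalizedModule_iff_isLocalization.2 hl₁
  haveI : IsLocalizedModule (Submonoid.powers a) (IsScalarTower.toAlgHom R B Bₐ).toLinearMap :=
    isLocalizedModule_iff_isLocalization.2 hl₂
  refine ⟨?_, Module.Flat.of_linearEquiv (IsLocalizedModule.iso (Submonoid.powers a) (IsScalarTower.toAlgHom R B Bₐ).toLinearMap)⟩
  have hu : ∀ y : Submonoid.powers p, IsUnit ((algebraMap P Bₐ) y.1) := fun y => by
    rw [IsScalarTower.algebraMap_apply P B Bₐ]
    exact IsLocalization.map_units Bₐ (⟨algebraMap P B y.1, y.1, y.2, rfl⟩ : Algebra.algebraMapSubmonoid B (Submonoid.powers p))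
  letI : Algebra Pₐ Bₐ := (IsLocalization.lift hu).toAlgebra
  haveI : IsScalarTower P Pₐ Bₐ := .of_algebraMap_eq fun x => (IsLocalization.lift_eq hu x).symm
  haveI : IsScalarTower R Pₐ Bₐ := .of_algebraMap_eq fun x => by
    rw [IsScalarTower.algebraMap_apply R P Pₐ, ← IsScalarTower.algebraMap_apply P Pₐ Bₐ, ← IsScalarTower.algebraMap_apply]
  have hsurj : Function.Surjective (algebraMap Pₐ Bₐ) := by
    intro y
    obtain ⟨⟨b, ⟨_, x, ⟨n, rfl⟩, rfl⟩⟩, hy⟩ :=
      IsLocalization.surj (Algebra.algebraMapSubmonoid B (Submonoid.powers p)) y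
    obtain ⟨z, rfl⟩ := hπ b
    refine ⟨IsLocalization.mk' Pₐ z (⟨p ^ n, n, rfl⟩ : Submonoid.powers p), ?_⟩
    rw [RingHom.algebraMap_toAlgebra, IsLocalization.lift_mk'_spec]
    simp only [← IsScalarTower.algebraMap_apply] at hy
    rw [← hy, mul_comm]
  haveI : Algebra.FinitePresentation P Pₐ := IsLocalization.Away.finitePresentation p
  haveI : Algebra.FinitePresentation R Pₐ := Algebra.FinitePresentation.trans R P Pₐ
  haveI : Algebra.FinitePresentation R Bₐ := inferInstance
  haveI : Module.FinitePresentation Pₐ Bₐ :=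
    Module.finitePresentation_of_surjective (Algebra.linearMap Pₐ Bₐ) hsurj
      (Algebra.FinitePresentation.ker_fG_of_surjective (IsScalarTower.toAlgHom R Pₐ Bₐ) hsurj)
  exact Module.FinitePresentation.of_equiv
    ((IsLocalizedModule.iso (Submonoid.powers p) (IsScalarTower.toAlgHom P B Bₐ).toLinearMap).extendScalarsOfIsLocalization
      (Submonoid.powers p) Pₐ).symm

theorem flat_fp_ring {R P B D' B' C : Type u} [CommRing R] [CommRing P] [CommRing B] [CommRing D'] [CommRing B']
    [CommRing C] [Algebra R P] [Algebra.FinitePresentation R P] [Algebra R B] [Algebra P B] [IsScalarTower R P B]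
    (hπ : Function.Surjective (algebraMap P B)) [Algebra R D'] [Algebra B B'] [Algebra D' B'] [Algebra R B']
    [IsScalarTower R B B'] [IsScalarTower R D' B'] [Algebra.IsPushout R D' B B'] [Algebra B' C] [Algebra D' C]
    [IsScalarTower D' B' C] (c e : D') (hce : c ∣ e) (hec : ∃ m : ℕ, e ∣ c ^ m)
    (hsurj : Function.Surjective (algebraMap B' C))
    (hker : ∀ x : B', algebraMap B' C x = 0 ↔ ∃ k : ℕ, algebraMap D' B' e ^ k * x = 0)
    (hfl : Module.Flat D' (BC R P B D' ⧸ FlatCA.powTorsion (D' ⊗[R] P) (algebraMap D' (D' ⊗[R] P) c) (BC R P B D')))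
    (hFP : Module.FinitePresentation (D' ⊗[R] P)
      (BC R P B D' ⧸ FlatCA.powTorsion (D' ⊗[R] P) (algebraMap D' (D' ⊗[R] P) c) (BC R P B D'))) :
    Module.Flat D' C ∧ Algebra.FinitePresentation D' C := by
  let ρ : D' ⊗[R] P →ₐ[D'] B' :=
    Algebra.TensorProduct.lift (Algebra.ofId D' B') ((IsScalarTower.toAlgHom R B B').comp (IsScalarTower.toAlgHom R P B)) fun x y => Commute.all _ _
  letI : Algebra (D' ⊗[R] P) B' := ρ.toRingHom.toAlgebra
  letI : Algebra P B' := ((algebraMap B B').comp (IsScalarTower.toAlgHom R P B).toRingHom).toAlgebra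
  haveI : IsScalarTower P B B' := .of_algebraMap_eq fun _ => rfl
  haveI : IsScalarTower P (D' ⊗[R] P) B' := .of_algebraMap_eq fun x => by
    show algebraMap B B' (algebraMap P B x) = ρ (1 ⊗ₜ x)
    simp [ρ]
  haveI : IsScalarTower D' (D' ⊗[R] P) B' := .of_algebraMap_eq fun x => (ρ.commutes x).symm
  let θ : B →ₗ[P] B' := (IsScalarTower.toAlgHom P B B').toLinearMap
  have hθ : IsBaseChange (D' ⊗[R] P) θ := by
    let σ : D' ⊗[R] B ≃ₐ[D'] B' := Algebra.IsPushout.equiv R D' B B'
    let L : BC R P B D' →ₗ[D' ⊗[R] P] B' := θ.liftBaseChange (D' ⊗[R] P)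
    have key : ∀ y, L ((bcEquiv R P B D').symm y) = σ y := fun y => by
      induction y using TensorProduct.induction_on with
      | zero => simp
      | tmul d b =>
        rw [bcEquiv_symm_tmul]
        simp only [L, σ, θ, LinearMap.liftBaseChange_tmul, Algebra.IsPushout.equiv_tmul]
        show ρ (d ⊗ₜ 1) * algebraMap B B' b = _
        simp [ρ]
      | add x y hx hy => rw [map_add, map_add, map_add, hx, hy]
    have hLb : Function.Bijective L := by
      have : ⇑L = σ ∘ bcEquiv R P B D' := funext fun z => by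
        rw [Function.comp_apply, ← key, LinearEquiv.symm_apply_apply]
      rw [this]
      exact σ.bijective.comp (bcEquiv R P B D').bijective
    refine IsBaseChange.of_equiv (LinearEquiv.ofBijective L hLb) fun b => ?_
    show L (1 ⊗ₜ b) = θ b
    simp [L]
  letI : Algebra (D' ⊗[R] P) C := ((algebraMap B' C).comp ρ.toRingHom).toAlgebra
  haveI : IsScalarTower (D' ⊗[R] P) B' C := .of_algebraMap_eq fun _ => rfl
  haveI : IsScalarTower D' (D' ⊗[R] P) C := .of_algebraMap_eq (R := D') (S := D' ⊗[R] P) (A := C) fun x => by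
    show algebraMap D' C x = algebraMap B' C (ρ (algebraMap D' (D' ⊗[R] P) x))
    rw [AlgHom.commutes, ← IsScalarTower.algebraMap_apply]
  have hρ : Function.Surjective (algebraMap (D' ⊗[R] P) B') := by
    intro y
    obtain ⟨z, rfl⟩ := hθ.equiv.surjective y
    induction z using TensorProduct.induction_on with
    | zero => exact ⟨0, by simp⟩
    | tmul x b =>
      obtain ⟨p, rfl⟩ := hπ b
      refine ⟨x * algebraMap P (D' ⊗[R] P) p, ?_⟩
      rw [IsBaseChange.equiv_tmul, map_mul, ← IsScalarTower.algebraMap_apply, Algebra.smul_def]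
      rfl
    | add x y hx hy =>
      obtain ⟨u, hu⟩ := hx
      obtain ⟨v, hv⟩ := hy
      exact ⟨u + v, by rw [map_add, map_add, hu, hv]⟩
  obtain ⟨hflC, hfpC⟩ := flat_fp_of_transport (R := R) (B := P) (D := D') (B' := D' ⊗[R] P) (M := B) θ hθ
    ((IsScalarTower.toAlgHom (D' ⊗[R] P) B' C).toLinearMap) hsurj c e hce hec
    (fun x => by
      refine (hker x).trans (exists_congr fun k => ?_)
      rw [Algebra.smul_def, map_pow, ← IsScalarTower.algebraMap_apply])
    hfl hFP
  refine ⟨hflC, Algebra.FinitePresentation.of_surjective (f := IsScalarTower.toAlgHom D' (D' ⊗[R] P) C)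
    (hsurj.comp hρ) ?_⟩
  haveI := hfpC
  exact Module.FinitePresentation.fg_ker (Algebra.linearMap (D' ⊗[R] P) C) (hsurj.comp hρ)

/-- Flattening by a blow-up, for an algebra of finite type. -/
theorem exists_ideal_ring {R B : Type u} [CommRing R] [CommRing B] [Algebra R B] [Algebra.FiniteType R B] {n : ℕ}
    (a : Fin n → R) (hfp : ∀ i, Algebra.FinitePresentation R (Localization.Away (algebraMap R B (a i))))
    (hflat : ∀ i, Module.Flat R (Localization.Away (algebraMap R B (a i)))) :
    ∃ T : Ideal R, T.FG ∧ T.radical = (Ideal.span (Set.range a)).radical ∧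
      ∀ (D : Type u) [CommRing D] [Algebra R D] (c : D), c ∈ nonZeroDivisors D →
        T.map (algebraMap R D) = Ideal.span {c} →
        ∀ (q : Ideal D) [q.IsPrime], ∃ g ∉ q,
          ∀ (D' : Type u) [CommRing D'] [Algebra D D'] [Algebra R D'] [IsScalarTower R D D'] [IsLocalization.Away g D']
            (B' : Type u) [CommRing B'] [Algebra B B'] [Algebra D' B'] [Algebra R B'] [IsScalarTower R B B']
            [IsScalarTower R D' B'] [Algebra.IsPushout R D' B B']
            (C : Type u) [CommRing C] [Algebra B' C] [Algebra D' C] [IsScalarTower D' B' C]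
            (e : D'), algebraMap D D' c ∣ e → (∃ m : ℕ, e ∣ algebraMap D D' c ^ m) →
            Function.Surjective (algebraMap B' C) →
            (∀ x : B', algebraMap B' C x = 0 ↔ ∃ k : ℕ, algebraMap D' B' e ^ k * x = 0) →
            Module.Flat D' C ∧ Algebra.FinitePresentation D' C := by
  obtain ⟨m, π, hπ⟩ := Algebra.FiniteType.iff_quotient_mvPolynomial''.1 ‹Algebra.FiniteType R B›
  let P := MvPolynomial (Fin m) R
  letI : Algebra P B := π.toRingHom.toAlgebra
  haveI : IsScalarTower R P B := .of_algebraMap_eq fun r => (π.commutes r).symm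
  haveI : Module.Finite P B := Module.Finite.of_surjective (Algebra.linearMap P B) hπ
  obtain ⟨T, hTfg, hTrad, hT⟩ := exists_ideal (R := R) (B := P) (M := B) a
    (fun i => haveI := hfp i; haveI := hflat i; (localized_ring_hyp (P := P) hπ (a i)).1)
    (fun i => haveI := hfp i; haveI := hflat i; (localized_ring_hyp (P := P) hπ (a i)).2)
  refine ⟨T, hTfg, hTrad, fun D _ _ c hc hTD q _ => ?_⟩
  obtain ⟨g, hgq, hg⟩ := hT D c hc hTD q
  refine ⟨g, hgq, fun D' _ _ _ _ _ B' _ _ _ _ _ _ _ C _ _ _ _ e hce hec hsurj hker => ?_⟩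
  obtain ⟨hfl, hFP⟩ := hg D'
  exact flat_fp_ring (P := P) hπ _ e hce hec hsurj hker hfl hFP

end Groth.Agent.RGBlowLib
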