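import Groth.Agent.RGBlowLib.Ring
import Groth.Agent.RGBlowLib.Main
import Groth.Prelude.Def_Coh
import Mathlib.AlgebraicGeometry.Morphisms.Flat
import Mathlib.AlgebraicGeometry.Morphisms.FinitePresentation

/-!
# Flattening of a morphism of finite type by a blow-up
-/

set_option autoImplicit false
set_option linter.style.haveILetI false
set_option backward.isDefEq.respectTransparency false
set_option maxHeartbeats 1000000

universe u

open CategoryTheory CategoryTheory.Limits AlgebraicGeometry TopologicalSpace TensorProduct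

noncomputable section

namespace Groth.Agent.RGBlowLib

attribute [local instance] Algebra.TensorProduct.rightAlgebra

variable {X S X' S' : Scheme.{u}}

theorem localized_ring_scheme (f : X ⟶ S) {U V : S.Opens} (hV : IsAffineOpen V) {W : X.Opens} (hW : IsAffineOpen W)
    (e : W ≤ f ⁻¹ᵁ V) [Flat (f ∣_ U)] [LocallyOfFinitePresentation (f ∣_ U)] (a : Γ(S, V)) (ha : S.basicOpen a ≤ U) :
    letI := (f.appLE V W e).hom.toAlgebra
    Algebra.FinitePresentation Γ(S, V) (Localization.Away (algebraMap Γ(S, V) Γ(X, W) a)) ∧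
      Module.Flat Γ(S, V) (Localization.Away (algebraMap Γ(S, V) Γ(X, W) a)) := by
  letI : Algebra Γ(S, V) Γ(X, W) := (f.appLE V W e).hom.toAlgebra
  let b : Γ(X, W) := algebraMap Γ(S, V) Γ(X, W) a
  let Wb := X.basicOpen b
  have hle : Wb ≤ f ⁻¹ᵁ U := fun x hx => ha (by
    have h1 : Wb = W ⊓ f ⁻¹ᵁ S.basicOpen a := by
      simp only [Wb, b, RingHom.algebraMap_toAlgebra, Scheme.basicOpen_appLE]
    exact (h1 ▸ hx : x ∈ W ⊓ f ⁻¹ᵁ S.basicOpen a).2)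
  have hV' : Wb ≤ f ⁻¹ᵁ V := (X.basicOpen_le b).trans e
  let g : (f ⁻¹ᵁ U : Scheme.{u}) ⟶ S := (f ∣_ U) ≫ U.ι
  let O' : (f ⁻¹ᵁ U : Scheme.{u}).Opens := (f ⁻¹ᵁ U).ι ⁻¹ᵁ Wb
  have hO' : IsAffineOpen O' := (hW.basicOpen b).preimage_of_isOpenImmersion _ (by rwa [Scheme.Opens.opensRange_ι])
  have hfac : g = (f ⁻¹ᵁ U).ι ≫ f := morphismRestrict_ι f U
  have hOV : O' ≤ g ⁻¹ᵁ V := by
    rw [hfac]; exact fun x hx => hV' hx
  have hiso : IsIso ((f ⁻¹ᵁ U).ι.appLE Wb O' le_rfl) := by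
    rw [← Scheme.Hom.app_eq_appLE]
    exact (f ⁻¹ᵁ U).ι.isIso_app Wb (by rwa [Scheme.Opens.opensRange_ι])
  have hcomp : g.appLE V O' hOV = f.appLE V Wb hV' ≫ (f ⁻¹ᵁ U).ι.appLE Wb O' le_rfl := by
    rw [Scheme.Hom.appLE_comp_appLE]
    simp only [hfac]
  let ι' := (f ⁻¹ᵁ U).ι.appLE Wb O' le_rfl
  have hb : Function.Bijective (inv ι').hom := ConcreteCategory.bijective_of_isIso (inv ι')
  have he : f.appLE V Wb hV' = g.appLE V O' hOV ≫ inv ι' := by simp [hcomp, ι']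
  have hfl : (f.appLE V Wb hV').hom.Flat := by
    rw [he, CommRingCat.hom_comp]
    exact RingHom.Flat.comp (g.flat_appLE hV hO' hOV) (RingHom.Flat.of_bijective hb)
  have hfp : (f.appLE V Wb hV').hom.FinitePresentation := by
    rw [he, CommRingCat.hom_comp]
    exact RingHom.FinitePresentation.comp (RingHom.FinitePresentation.of_bijective hb)
      (g.finitePresentation_appLE hV hO' hOV)
  letI : Algebra Γ(X, W) Γ(X, Wb) := (X.presheaf.map (homOfLE (X.basicOpen_le b)).op).hom.toAlgebra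
  letI : Algebra Γ(S, V) Γ(X, Wb) := (f.appLE V Wb hV').hom.toAlgebra
  haveI : IsScalarTower Γ(S, V) Γ(X, W) Γ(X, Wb) := .of_algebraMap_eq' (by
    show (f.appLE V Wb hV').hom = (f.appLE V W e ≫ X.presheaf.map (homOfLE (X.basicOpen_le b)).op).hom
    rw [Scheme.Hom.appLE_map])
  haveI : IsLocalization.Away b Γ(X, Wb) := hW.isLocalization_basicOpen b
  let ε : Γ(X, Wb) ≃ₐ[Γ(S, V)] Localization.Away b :=
    (IsLocalization.algEquiv (Submonoid.powers b) _ _).restrictScalars Γ(S, V)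
  haveI : Module.Flat Γ(S, V) Γ(X, Wb) := hfl
  haveI : Algebra.FinitePresentation Γ(S, V) Γ(X, Wb) := hfp
  exact ⟨Algebra.FinitePresentation.equiv ε, Module.Flat.of_linearEquiv ε.toLinearEquiv.symm⟩

/-- The flattening ideal of a chart of a morphism of finite type. -/
theorem exists_ring_chart [CompactSpace S] [QuasiSeparatedSpace S] (f : X ⟶ S) [LocallyOfFiniteType f]
    (U : S.Opens) (hU : IsCompact (U : Set S)) [Flat (f ∣_ U)] [LocallyOfFinitePresentation (f ∣_ U)]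
    {V : S.Opens} (hV : IsAffineOpen V) {W : X.Opens} (hW : IsAffineOpen W) (e : W ≤ f ⁻¹ᵁ V) :
    ∃ 𝓙 : S.IdealSheafData, BlowUp.IsAdmissibleFor U 𝓙 ∧
      (∀ 𝓘 : S.IdealSheafData, BlowUp.IsAdmissibleFor U 𝓘 → ∃ m : ℕ, 𝓙.ideal ⟨V, hV⟩ ^ m ≤ 𝓘.ideal ⟨V, hV⟩) ∧
      (letI := (f.appLE V W e).hom.toAlgebra
      ∀ (D : Type u) [CommRing D] [Algebra Γ(S, V) D] (c : D), c ∈ nonZeroDivisors D →
        (𝓙.ideal ⟨V, hV⟩).map (algebraMap Γ(S, V) D) = Ideal.span {c} →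
        ∀ (q : Ideal D) [q.IsPrime], ∃ g ∉ q,
          ∀ (D' : Type u) [CommRing D'] [Algebra D D'] [Algebra Γ(S, V) D'] [IsScalarTower Γ(S, V) D D']
            [IsLocalization.Away g D']
            (B' : Type u) [CommRing B'] [Algebra Γ(X, W) B'] [Algebra D' B'] [Algebra Γ(S, V) B']
            [IsScalarTower Γ(S, V) Γ(X, W) B'] [IsScalarTower Γ(S, V) D' B'] [Algebra.IsPushout Γ(S, V) D' Γ(X, W) B']
            (C : Type u) [CommRing C] [Algebra B' C] [Algebra D' C] [IsScalarTower D' B' C]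
            (x : D'), algebraMap D D' c ∣ x → (∃ m : ℕ, x ∣ algebraMap D D' c ^ m) →
            Function.Surjective (algebraMap B' C) →
            (∀ y : B', algebraMap B' C y = 0 ↔ ∃ k : ℕ, algebraMap D' B' x ^ k * y = 0) →
            Module.Flat D' C ∧ Algebra.FinitePresentation D' C) := by
  letI : Algebra Γ(S, V) Γ(X, W) := (f.appLE V W e).hom.toAlgebra
  haveI : Algebra.FiniteType Γ(S, V) Γ(X, W) := f.finiteType_appLE hV hW e
  obtain ⟨𝓙, h1, h2, h3⟩ := exists_spread U hU hV (Q := fun T => ∀ (D : Type u) [CommRing D] [Algebra Γ(S, V) D] (c : D),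
      c ∈ nonZeroDivisors D → T.map (algebraMap Γ(S, V) D) = Ideal.span {c} →
        ∀ (q : Ideal D) [q.IsPrime], ∃ g ∉ q,
          ∀ (D' : Type u) [CommRing D'] [Algebra D D'] [Algebra Γ(S, V) D'] [IsScalarTower Γ(S, V) D D']
            [IsLocalization.Away g D']
            (B' : Type u) [CommRing B'] [Algebra Γ(X, W) B'] [Algebra D' B'] [Algebra Γ(S, V) B']
            [IsScalarTower Γ(S, V) Γ(X, W) B'] [IsScalarTower Γ(S, V) D' B'] [Algebra.IsPushout Γ(S, V) D' Γ(X, W) B']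
            (C : Type u) [CommRing C] [Algebra B' C] [Algebra D' C] [IsScalarTower D' B' C]
            (x : D'), algebraMap D D' c ∣ x → (∃ m : ℕ, x ∣ algebraMap D D' c ^ m) →
            Function.Surjective (algebraMap B' C) →
            (∀ y : B', algebraMap B' C y = 0 ↔ ∃ k : ℕ, algebraMap D' B' x ^ k * y = 0) →
            Module.Flat D' C ∧ Algebra.FinitePresentation D' C)
    fun n a haU => exists_ideal_ring (R := Γ(S, V)) (B := Γ(X, W)) a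
      (fun i => (localized_ring_scheme f hV hW e (a i) (haU i)).1)
      (fun i => (localized_ring_scheme f hV hW e (a i) (haU i)).2)
  exact ⟨𝓙, h1, h2, h3⟩

/-- A closed subscheme is flat and of finite presentation near a point, given on an affine chart. -/
theorem local_flat_fp (f : X ⟶ S) {V : S.Opens} (hV : IsAffineOpen V) {W : X.Opens}
    (hW : IsAffineOpen W) (e : W ≤ f ⁻¹ᵁ V) (𝓙 𝓘 : S.IdealSheafData)
    (hle : 𝓘.ideal ⟨V, hV⟩ ≤ 𝓙.ideal ⟨V, hV⟩) (hpow : ∃ m : ℕ, 𝓙.ideal ⟨V, hV⟩ ^ m ≤ 𝓘.ideal ⟨V, hV⟩)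
    (hT : letI := (f.appLE V W e).hom.toAlgebra
      ∀ (D : Type u) [CommRing D] [Algebra Γ(S, V) D] (c : D), c ∈ nonZeroDivisors D →
        (𝓙.ideal ⟨V, hV⟩).map (algebraMap Γ(S, V) D) = Ideal.span {c} →
        ∀ (q : Ideal D) [q.IsPrime], ∃ g ∉ q,
          ∀ (D' : Type u) [CommRing D'] [Algebra D D'] [Algebra Γ(S, V) D'] [IsScalarTower Γ(S, V) D D']
            [IsLocalization.Away g D']
            (B' : Type u) [CommRing B'] [Algebra Γ(X, W) B'] [Algebra D' B'] [Algebra Γ(S, V) B']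
            [IsScalarTower Γ(S, V) Γ(X, W) B'] [IsScalarTower Γ(S, V) D' B'] [Algebra.IsPushout Γ(S, V) D' Γ(X, W) B']
            (C : Type u) [CommRing C] [Algebra B' C] [Algebra D' C] [IsScalarTower D' B' C]
            (x : D'), algebraMap D D' c ∣ x → (∃ m : ℕ, x ∣ algebraMap D D' c ^ m) →
            Function.Surjective (algebraMap B' C) →
            (∀ y : B', algebraMap B' C y = 0 ↔ ∃ k : ℕ, algebraMap D' B' x ^ k * y = 0) →
            Module.Flat D' C ∧ Algebra.FinitePresentation D' C)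
    (b : S' ⟶ S) (h𝓘 : BlowUp.IsEffCartierIdeal (𝓘.comap b)) (h𝓙 : BlowUp.IsEffCartierIdeal (𝓙.comap b))
    (p₁ : X' ⟶ X) (p₂ : X' ⟶ S') (hc : IsPullback p₁ p₂ f b) (𝒥 : X'.IdealSheafData)
    (hJ : ∀ (O : X'.affineOpens) (a : Γ(X', O.1)), a ∈ 𝒥.ideal O ↔
      BlowUp.KilledByPowerNear ((𝓘.comap f).comap p₁) (Coh.structureModule X') O a)
    (z : 𝒥.subscheme) (hz : p₁ (𝒥.subschemeι z) ∈ W) :
    ∃ (O : S'.affineOpens) (Z : 𝒥.subscheme.affineOpens) (_ : z ∈ Z.1) (h : Z.1 ≤ (𝒥.subschemeι ≫ p₂) ⁻¹ᵁ O.1),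
      ((𝒥.subschemeι ≫ p₂).appLE O.1 Z.1 h).hom.Flat ∧
        ((𝒥.subschemeι ≫ p₂).appLE O.1 Z.1 h).hom.FinitePresentation := by
  letI : Algebra Γ(S, V) Γ(X, W) := (f.appLE V W e).hom.toAlgebra
  let x' := 𝒥.subschemeι z
  let s := p₂ x'
  have hsV : b s ∈ V := by
    have h : f (p₁ x') ∈ V := e hz
    rwa [← Scheme.Hom.comp_apply, hc.w, Scheme.Hom.comp_apply] at h
  obtain ⟨Ω, hΩ, hsΩ, hΩV, ε, c, -, hcn, hεI, hcJ⟩ := exists_common_gen h𝓘 h𝓙 (O := b ⁻¹ᵁ V) hsV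
  letI : Algebra Γ(S, V) Γ(S', Ω) := (b.appLE V Ω hΩV).hom.toAlgebra
  have hJD : (𝓙.ideal ⟨V, hV⟩).map (algebraMap Γ(S, V) Γ(S', Ω)) = Ideal.span {c} :=
    (IdealStalkLib.comap_ideal 𝓙 b hV hΩ hΩV).symm.trans hcJ
  have hID : (𝓘.ideal ⟨V, hV⟩).map (algebraMap Γ(S, V) Γ(S', Ω)) = Ideal.span {ε} :=
    (IdealStalkLib.comap_ideal 𝓘 b hV hΩ hΩV).symm.trans hεI
  have hcε : c ∣ ε := by
    rw [← Ideal.mem_span_singleton, ← hJD]
    exact Ideal.map_mono hle (hID.ge (Ideal.mem_span_singleton_self ε))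
  have hεc : ∃ m : ℕ, ε ∣ c ^ m := by
    obtain ⟨m, hm⟩ := hpow
    refine ⟨m, ?_⟩
    have h := Ideal.map_mono (f := algebraMap Γ(S, V) Γ(S', Ω)) hm
    rw [Ideal.map_pow, hJD, hID, Ideal.span_singleton_pow, Ideal.span_singleton_le_iff_mem,
      Ideal.mem_span_singleton] at h
    exact h
  obtain ⟨g, hgq, hg⟩ := hT Γ(S', Ω) c hcn hJD (hΩ.primeIdealOf ⟨s, hsΩ⟩).asIdeal
  let Ω' := S'.basicOpen g
  have hΩ' : IsAffineOpen Ω' := hΩ.basicOpen g
  have hsΩ' : s ∈ Ω' := by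
    have h := hΩ.fromSpec_preimage_basicOpen g
    have h2 : hΩ.primeIdealOf ⟨s, hsΩ⟩ ∈ hΩ.fromSpec ⁻¹ᵁ S'.basicOpen g := by rw [h]; exact hgq
    rw [Scheme.Hom.mem_preimage, hΩ.fromSpec_primeIdealOf ⟨s, hsΩ⟩] at h2
    exact h2
  have e' : Ω' ≤ b ⁻¹ᵁ V := (S'.basicOpen_le g).trans hΩV
  letI : Algebra Γ(S', Ω) Γ(S', Ω') := (S'.presheaf.map (homOfLE (S'.basicOpen_le g)).op).hom.toAlgebra
  letI : Algebra Γ(S, V) Γ(S', Ω') := (b.appLE V Ω' e').hom.toAlgebra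
  haveI : IsScalarTower Γ(S, V) Γ(S', Ω) Γ(S', Ω') := .of_algebraMap_eq' (by
    show (b.appLE V Ω' e').hom = (b.appLE V Ω hΩV ≫ S'.presheaf.map (homOfLE (S'.basicOpen_le g)).op).hom
    rw [Scheme.Hom.appLE_map])
  haveI : IsLocalization.Away g Γ(S', Ω') := hΩ.isLocalization_basicOpen g
  obtain ⟨hW', hpo⟩ := PullbackMod.isPushout_appLE hc hV hW hΩ' e e'
  let W' := p₁ ⁻¹ᵁ W ⊓ p₂ ⁻¹ᵁ Ω'
  letI : Algebra Γ(X, W) Γ(X', W') := (p₁.appLE W W' inf_le_left).hom.toAlgebra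
  letI : Algebra Γ(S', Ω') Γ(X', W') := (p₂.appLE Ω' W' inf_le_right).hom.toAlgebra
  letI : Algebra Γ(S, V) Γ(X', W') :=
    ((p₁.appLE W W' inf_le_left).hom.comp (f.appLE V W e).hom).toAlgebra
  haveI : IsScalarTower Γ(S, V) Γ(X, W) Γ(X', W') := .of_algebraMap_eq fun _ => rfl
  haveI : IsScalarTower Γ(S, V) Γ(S', Ω') Γ(X', W') := .of_algebraMap_eq' (by
    show ((f.appLE V W e) ≫ p₁.appLE W W' inf_le_left).hom =
      ((b.appLE V Ω' e') ≫ p₂.appLE Ω' W' inf_le_right).hom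
    simp only [Scheme.Hom.appLE_comp_appLE, hc.w])
  haveI : Algebra.IsPushout Γ(S, V) Γ(S', Ω') Γ(X, W) Γ(X', W') := hpo
  let Z := 𝒥.subschemeι ⁻¹ᵁ W'
  have hZ : IsAffineOpen Z := hW'.preimage 𝒥.subschemeι
  letI : Algebra Γ(X', W') Γ(𝒥.subscheme, Z) := (𝒥.subschemeι.app W').hom.toAlgebra
  have hle' : Z ≤ (𝒥.subschemeι ≫ p₂) ⁻¹ᵁ Ω' := fun y hy => hy.2
  letI : Algebra Γ(S', Ω') Γ(𝒥.subscheme, Z) := ((𝒥.subschemeι ≫ p₂).appLE Ω' Z hle').hom.toAlgebra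
  haveI : IsScalarTower Γ(S', Ω') Γ(X', W') Γ(𝒥.subscheme, Z) := .of_algebraMap_eq' (by
    show ((𝒥.subschemeι ≫ p₂).appLE Ω' Z hle').hom = (p₂.appLE Ω' W' inf_le_right ≫ 𝒥.subschemeι.app W').hom
    rw [Scheme.Hom.app_eq_appLE, Scheme.Hom.appLE_comp_appLE])
  have hE : ((𝓘.comap f).comap p₁).ideal ⟨W', hW'⟩ =
      Ideal.span {algebraMap Γ(S', Ω') Γ(X', W') (algebraMap Γ(S', Ω) Γ(S', Ω') ε)} := by
    rw [← Scheme.IdealSheafData.comap_comp, hc.w, Scheme.IdealSheafData.comap_comp,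
      IdealStalkLib.comap_ideal (𝓘.comap b) p₂ hΩ' hW' inf_le_right,
      ← (𝓘.comap b).map_ideal (U := ⟨Ω', hΩ'⟩) (V := ⟨Ω, hΩ⟩) (S'.basicOpen_le g), hεI, Ideal.map_span,
      Set.image_singleton, Ideal.map_span, Set.image_singleton]
    rfl
  have hk : ∀ y : Γ(X', W'), algebraMap Γ(X', W') Γ(𝒥.subscheme, Z) y = 0 ↔
      ∃ n : ℕ, algebraMap Γ(S', Ω') Γ(X', W') (algebraMap Γ(S', Ω) Γ(S', Ω') ε) ^ n * y = 0 := by
    intro y
    refine (RingHom.mem_ker (f := (𝒥.subschemeι.app W').hom)).symm.trans ?_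
    rw [𝒥.ker_subschemeι_app ⟨W', hW'⟩, hJ ⟨W', hW'⟩ y]
    refine exists_congr fun n => ?_
    rw [Scheme.IdealSheafData.ideal_pow, Pi.pow_apply, hE, Ideal.span_singleton_pow]
    refine ⟨fun h => h _ (Ideal.mem_span_singleton_self _), fun h a ha => ?_⟩
    obtain ⟨t, rfl⟩ := Ideal.mem_span_singleton'.1 ha
    show t * _ * y = 0
    rw [mul_assoc, h, mul_zero]
  obtain ⟨hfl, hfp⟩ := hg Γ(S', Ω') Γ(X', W') Γ(𝒥.subscheme, Z) (algebraMap Γ(S', Ω) Γ(S', Ω') ε)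
    (map_dvd _ hcε) (hεc.imp fun m hm => by rw [← map_pow]; exact map_dvd _ hm)
    (𝒥.subschemeι.app_surjective W' hW') hk
  exact ⟨⟨Ω', hΩ'⟩, ⟨Z, hZ⟩, ⟨hz, hsΩ'⟩, hle', hfl, hfp⟩

theorem exists_flattening_scheme [CompactSpace S] [QuasiSeparatedSpace S]
    (f : X ⟶ S) [LocallyOfFiniteType f] [QuasiCompact f] [QuasiSeparated f] (U : S.Opens) (hU : IsCompact (U : Set S))
    [Flat (f ∣_ U)] [LocallyOfFinitePresentation (f ∣_ U)] :
    ∃ (𝓘 : S.IdealSheafData) (S' : Scheme.{u}) (b : S' ⟶ S), BlowUp.IsBlowUp b 𝓘 ∧ BlowUp.IsAdmissibleFor U 𝓘 ∧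
      ∀ (X' : Scheme.{u}) (p₁ : X' ⟶ X) (p₂ : X' ⟶ S'), IsPullback p₁ p₂ f b →
      ∀ (𝒥 : X'.IdealSheafData),
        (∀ (V : X'.affineOpens) (a : Γ(X', V.1)), a ∈ 𝒥.ideal V ↔
          BlowUp.KilledByPowerNear ((𝓘.comap f).comap p₁) (Coh.structureModule X') V a) →
        Flat (𝒥.subschemeι ≫ p₂) ∧ LocallyOfFinitePresentation (𝒥.subschemeι ≫ p₂) ∧
          QuasiCompact (𝒥.subschemeι ≫ p₂) ∧ QuasiSeparated (𝒥.subschemeι ≫ p₂) := by
  classical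
  haveI : CompactSpace X := QuasiCompact.compactSpace_of_compactSpace f
  obtain ⟨n, V, W, hWV, hcov⟩ := exists_finite_cover f
  choose 𝓙 hadm hpow hT using fun i => exists_ring_chart f U hU (V i).2 (W i).2 (hWV i)
  let 𝓘 := ∏ i, 𝓙 i
  have h𝓘 : BlowUp.IsAdmissibleFor U 𝓘 := isAdmissibleFor_prod _ _ fun i _ => hadm i
  obtain ⟨S', b, hb⟩ := S8859.result S 𝓘
  refine ⟨𝓘, S', b, hb, h𝓘, fun X' p₁ p₂ hc 𝒥 hJ => ?_⟩
  have hmul : ∀ i, 𝓘 = 𝓙 i * ∏ j ∈ Finset.univ.erase i, 𝓙 j := fun i =>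
    (Finset.mul_prod_erase _ _ (Finset.mem_univ i)).symm
  have hcart : ∀ i, BlowUp.IsEffCartierIdeal ((𝓙 i).comap b) := fun i => by
    have h := hb.1
    rw [hmul i, BlowCompLib.comap_mul] at h
    exact BlowCompLib.isEffCartier_of_mul h
  haveI : QuasiCompact p₂ := MorphismProperty.of_isPullback hc inferInstance
  haveI : QuasiSeparated p₂ := MorphismProperty.of_isPullback hc inferInstance
  have key : ∀ z : 𝒥.subscheme, ∃ (O : S'.affineOpens) (Z : 𝒥.subscheme.affineOpens) (_ : z ∈ Z.1)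
      (h : Z.1 ≤ (𝒥.subschemeι ≫ p₂) ⁻¹ᵁ O.1), ((𝒥.subschemeι ≫ p₂).appLE O.1 Z.1 h).hom.Flat ∧
        ((𝒥.subschemeι ≫ p₂).appLE O.1 Z.1 h).hom.FinitePresentation := fun z => by
    obtain ⟨i, hi⟩ := hcov (p₁ (𝒥.subschemeι z))
    exact local_flat_fp f (V i).2 (W i).2 (hWV i) (𝓙 i) 𝓘
      (by rw [hmul i, Scheme.IdealSheafData.ideal_mul, Pi.mul_apply]; exact Ideal.mul_le_left)
      (hpow i 𝓘 h𝓘) (hT i) b hb.1 (hcart i) p₁ p₂ hc 𝒥 hJ z hi
  refine ⟨?_, ?_, inferInstance, inferInstance⟩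
  · refine (HasRingHomProperty.iff_exists_appLE (P := @Flat)
      (RingHom.Flat.stableUnderComposition.stableUnderCompositionWithLocalizationAway
        RingHom.Flat.holdsForLocalizationAway).1).2 fun z => ?_
    obtain ⟨O, Z, hz, h, hfl, -⟩ := key z
    exact ⟨O, Z, hz, h, hfl⟩
  · refine (HasRingHomProperty.iff_exists_appLE (P := @LocallyOfFinitePresentation)
      (RingHom.finitePresentation_stableUnderComposition.stableUnderCompositionWithLocalizationAway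
        RingHom.finitePresentation_holdsForLocalizationAway).1).2 fun z => ?_
    obtain ⟨O, Z, hz, h, -, hfp⟩ := key z
    exact ⟨O, Z, hz, h, hfp⟩

end Groth.Agent.RGBlowLib
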