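import Mathlib

/-!
# Divisibility relations of valuations and the associated limit ring of blow-up charts

For a ring `R` and a relation `w` behaving like "the value of the first element is at most the value of the
second", an element `a` of finite value determines a prime `supp` (the elements of value larger than all multiples of
that of `a`) and the subring `limRing` of the localization at it formed by the fractions of nonnegative value.
-/

set_option autoImplicit false
set_option linter.style.haveILetI false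
set_option backward.isDefEq.respectTransparency false

universe u

noncomputable section

namespace Groth.Agent.RGBlowLib

variable {R : Type u} [CommRing R]

/-- A divisibility relation coming from a valuation which is nonnegative on `R`. -/
structure IsVR (w : R → R → Prop) : Prop where
  trans : ∀ r s t, w r s → w s t → w r t
  total : ∀ r s, w r s ∨ w s r
  add : ∀ r s t, w r s → w r t → w r (s + t)
  mul : ∀ r s t, w r s → w (r * t) (s * t)
  cancel : ∀ r s t, w (r * t) (s * t) → ¬ w 0 t → w r s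
  one : ∀ r, w 1 r
  ntriv : ¬ w 0 1

namespace IsVR

variable {w : R → R → Prop} (hw : IsVR w)
include hw

theorem rfl' (r : R) : w r r := (hw.total r r).elim id id

theorem mul_left' (r t : R) : w r (t * r) := by
  simpa using hw.mul 1 t r (hw.one t)

theorem zero_right (r : R) : w r 0 := by simpa using hw.mul_left' r 0

theorem mul_mul {r r' s s' : R} (h : w r s) (h' : w r' s') : w (r * r') (s * s') :=
  hw.trans _ (s * r') _ (hw.mul r s r' h) (by rw [mul_comm s r', mul_comm s s']; exact hw.mul r' s' s h')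

theorem pow {r s : R} (h : w r s) : ∀ n : ℕ, w (r ^ n) (s ^ n)
  | 0 => by simpa using hw.rfl' 1
  | n + 1 => by rw [pow_succ, pow_succ]; exact hw.mul_mul (pow h n) h

theorem finite_of_le {r s : R} (hs : ¬ w 0 s) (h : w r s) : ¬ w 0 r := fun h0 => hs (hw.trans _ _ _ h0 h)

theorem finite_mul {r s : R} (hr : ¬ w 0 r) (hs : ¬ w 0 s) : ¬ w 0 (r * s) := fun h =>
  hr (hw.cancel 0 r s (by rwa [zero_mul]) hs)

theorem finite_pow {r : R} (hr : ¬ w 0 r) : ∀ n : ℕ, ¬ w 0 (r ^ n)
  | 0 => by simpa using hw.ntriv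
  | n + 1 => by rw [pow_succ]; exact hw.finite_mul (finite_pow hr n) hr

end IsVR

variable {w : R → R → Prop} (hw : IsVR w) (a : R) (ha : ¬ w 0 a)

include hw ha in
theorem finite_of_dvd_pow {r : R} {n : ℕ} (h : w r (a ^ n)) : ¬ w 0 r := hw.finite_of_le (hw.finite_pow ha n) h

/-- The elements of value larger than all multiples of the value of `a`. -/
def supp : Ideal R where
  carrier := {r | ∀ n : ℕ, ¬ w r (a ^ n)}
  add_mem' := fun {r s} hr hs n h => by
    rcases hw.total r s with h' | h'
    · exact hr n (hw.trans _ _ _ (hw.add r r s (hw.rfl' r) h') h)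
    · exact hs n (hw.trans _ _ _ (hw.add s r s h' (hw.rfl' s)) h)
  zero_mem' := fun n h => hw.finite_pow ha n h
  smul_mem' := fun t r hr n h => hr n (hw.trans _ _ _ (hw.mul_left' r t) h)

theorem mem_supp {r : R} : r ∈ supp hw a ha ↔ ∀ n : ℕ, ¬ w r (a ^ n) := Iff.rfl

theorem notMem_supp {r : R} : r ∉ supp hw a ha ↔ ∃ n : ℕ, w r (a ^ n) := by
  rw [mem_supp]; push Not; rfl

theorem isPrime_supp : (supp hw a ha).IsPrime := by
  refine ⟨fun h => ?_, fun {r s} hrs => ?_⟩
  · exact (notMem_supp hw a ha).2 ⟨0, by simpa using hw.rfl' 1⟩ (h ▸ Submodule.mem_top (x := (1 : R)))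
  · by_contra h
    push Not at h
    obtain ⟨n, hn⟩ := (notMem_supp hw a ha).1 h.1
    obtain ⟨m, hm⟩ := (notMem_supp hw a ha).1 h.2
    exact (notMem_supp hw a ha).2 ⟨n + m, by rw [pow_add]; exact hw.mul_mul hn hm⟩ hrs

theorem self_notMem_supp : a ∉ supp hw a ha := (notMem_supp hw a ha).2 ⟨1, by simpa using hw.rfl' a⟩

theorem finite_of_notMem {r : R} (h : r ∉ supp hw a ha) : ¬ w 0 r := by
  obtain ⟨n, hn⟩ := (notMem_supp hw a ha).1 h
  exact finite_of_dvd_pow hw a ha hn

theorem dvd_of_mem_supp {r s : R} (hr : r ∈ supp hw a ha) (hs : s ∉ supp hw a ha) : w s r := by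
  obtain ⟨n, hn⟩ := (notMem_supp hw a ha).1 hs
  exact (hw.total s r).elim id fun h => absurd (hw.trans _ _ _ h hn) (hr n)

local instance : (supp hw a ha).IsPrime := isPrime_supp hw a ha

/-- Localization at `supp`. -/
abbrev Loc := Localization.AtPrime (supp hw a ha)

/-- A fraction has nonnegative value independently of the representative. -/
theorem dvd_of_mk'_eq {y y' : R} {σ σ' : (supp hw a ha).primeCompl} (h : w σ y)
    (he : IsLocalization.mk' (Loc hw a ha) y σ = IsLocalization.mk' (Loc hw a ha) y' σ') : w σ' y' := by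
  rw [IsLocalization.eq (S := Loc hw a ha) (a₁ := y) (a₂ := σ) (b₁ := y') (b₂ := σ')] at he
  obtain ⟨⟨τ, hτ⟩, he⟩ := he
  simp only at he
  have h1 : w ((σ' : R) * (τ * σ)) (y' * (τ * σ)) := by
    rw [show y' * (τ * σ) = τ * ((σ : R) * y') from by ring, ← he]
    have h2 := hw.mul _ _ (τ * σ') h
    rw [show (σ' : R) * (τ * σ) = σ * (τ * σ') from by ring, show τ * ((σ' : R) * y) = y * (τ * σ') from by ring]
    exact h2
  exact hw.cancel _ _ _ h1 (hw.finite_mul (finite_of_notMem hw a ha hτ) (finite_of_notMem hw a ha σ.2))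

/-- The fractions of nonnegative value. -/
def limRing : Subalgebra R (Loc hw a ha) where
  carrier := {z | ∃ (y : R) (σ : (supp hw a ha).primeCompl), w σ y ∧ z = IsLocalization.mk' (Loc hw a ha) y σ}
  mul_mem' := by
    rintro _ _ ⟨y, σ, h, rfl⟩ ⟨y', σ', h', rfl⟩
    exact ⟨y * y', σ * σ', hw.mul_mul h h', (IsLocalization.mk'_mul _ _ _ _ _).symm⟩
  add_mem' := by
    rintro _ _ ⟨y, σ, h, rfl⟩ ⟨y', σ', h', rfl⟩
    refine ⟨y * σ' + y' * σ, σ * σ', hw.add _ _ _ (hw.mul _ _ _ h) ?_, (IsLocalization.mk'_add _ _ _ _).symm⟩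
    rw [Submonoid.coe_mul, mul_comm (σ : R)]
    exact hw.mul _ _ _ h'
  algebraMap_mem' := fun r => ⟨r, 1, hw.one r, (IsLocalization.mk'_one _ _).symm⟩

/-- Fractions of nonnegative value as elements of the limit ring. -/
def frac (y : R) (σ : (supp hw a ha).primeCompl) (h : w σ y) : limRing hw a ha :=
  ⟨IsLocalization.mk' (Loc hw a ha) y σ, y, σ, h, rfl⟩

theorem coe_frac (y : R) (σ : (supp hw a ha).primeCompl) (h : w σ y) :
    (frac hw a ha y σ h : Loc hw a ha) = IsLocalization.mk' (Loc hw a ha) y σ := rfl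

theorem exists_frac (z : limRing hw a ha) :
    ∃ (y : R) (σ : (supp hw a ha).primeCompl) (h : w σ y), z = frac hw a ha y σ h := by
  obtain ⟨y, σ, h, he⟩ := z.2
  exact ⟨y, σ, h, Subtype.ext he⟩

/-- The image of `a`. -/
abbrev aA : limRing hw a ha := algebraMap R (limRing hw a ha) a

theorem isUnit_aA_loc : IsUnit (algebraMap R (Loc hw a ha) a) :=
  IsLocalization.map_units (Loc hw a ha) (⟨a, self_notMem_supp hw a ha⟩ : (supp hw a ha).primeCompl)

theorem aA_mul_eq_zero {z : limRing hw a ha} (h : aA hw a ha * z = 0) : z = 0 := by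
  apply Subtype.ext
  have h' := congrArg Subtype.val h
  simp only [Subalgebra.coe_mul, Subalgebra.coe_algebraMap, Subalgebra.coe_zero] at h'
  rw [Subalgebra.coe_zero]
  exact (isUnit_aA_loc hw a ha).mul_right_eq_zero.1 h'

/-- The prime ideal of fractions with numerator in `supp`. -/
def limPrime : Ideal (limRing hw a ha) :=
  (IsLocalRing.maximalIdeal (Loc hw a ha)).comap (limRing hw a ha).val.toRingHom

instance : (limPrime hw a ha).IsPrime := Ideal.IsPrime.comap _

theorem mem_limPrime {y : R} {σ : (supp hw a ha).primeCompl} {h : w σ y} :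
    frac hw a ha y σ h ∈ limPrime hw a ha ↔ y ∈ supp hw a ha :=
  (IsLocalization.AtPrime.mk'_mem_maximal_iff (Loc hw a ha) (supp hw a ha) y σ)

theorem exists_aA_mul {z : limRing hw a ha} (hz : z ∈ limPrime hw a ha) :
    ∃ z' ∈ limPrime hw a ha, z = aA hw a ha * z' := by
  obtain ⟨y, σ, h, rfl⟩ := exists_frac hw a ha z
  have hy := (mem_limPrime hw a ha).1 hz
  let σ' : (supp hw a ha).primeCompl := ⟨a, self_notMem_supp hw a ha⟩ * σ
  refine ⟨frac hw a ha y σ' (dvd_of_mem_supp hw a ha hy σ'.2), (mem_limPrime hw a ha).2 hy, Subtype.ext ?_⟩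
  rw [Subalgebra.coe_mul, Subalgebra.coe_algebraMap, coe_frac, coe_frac, IsLocalization.mul_mk'_eq_mk'_of_mul]
  exact (IsLocalization.mk'_cancel (S := Loc hw a ha) y σ ⟨a, self_notMem_supp hw a ha⟩ ▸ by
    simp only [σ', mul_comm, mul_left_comm])

theorem dvd_pow_of_notMem {z : limRing hw a ha} (hz : z ∉ limPrime hw a ha) : ∃ n : ℕ, z ∣ aA hw a ha ^ n := by
  obtain ⟨y, σ, h, rfl⟩ := exists_frac hw a ha z
  have hy : y ∉ supp hw a ha := fun hy => hz ((mem_limPrime hw a ha).2 hy)
  obtain ⟨n, hn⟩ := (notMem_supp hw a ha).1 hy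
  have h1 : w y (a ^ n * σ) := hw.trans _ _ _ hn (by rw [mul_comm]; exact hw.mul_left' _ _)
  refine ⟨n, frac hw a ha (a ^ n * σ) ⟨y, hy⟩ h1, Subtype.ext ?_⟩
  rw [Subalgebra.coe_pow, Subalgebra.coe_algebraMap, Subalgebra.coe_mul, coe_frac, coe_frac, ← map_pow,
    ← IsLocalization.mk'_mul, eq_comm, IsLocalization.mk'_eq_iff_eq_mul, ← map_mul]
  congr 1
  simp only [Submonoid.coe_mul]
  ring

theorem dvd_total {z z' : limRing hw a ha} (hz : z ∉ limPrime hw a ha) (hz' : z' ∉ limPrime hw a ha) :
    z ∣ z' ∨ z' ∣ z := by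
  have key : ∀ (y y' : R) (σ σ' : (supp hw a ha).primeCompl) (h : w σ y) (h' : w σ' y'),
      y ∉ supp hw a ha → w (y * σ') (y' * σ) → frac hw a ha y σ h ∣ frac hw a ha y' σ' h' := by
    intro y y' σ σ' h h' hy hle
    let τ : (supp hw a ha).primeCompl := ⟨y, hy⟩ * σ'
    refine ⟨frac hw a ha (y' * σ) τ hle, Subtype.ext ?_⟩
    rw [Subalgebra.coe_mul, coe_frac, coe_frac, coe_frac, ← IsLocalization.mk'_mul]
    refine IsLocalization.mk'_eq_of_eq' ?_
    simp only [τ, Submonoid.coe_mul]
    ring
  obtain ⟨y, σ, h, rfl⟩ := exists_frac hw a ha z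
  obtain ⟨y', σ', h', rfl⟩ := exists_frac hw a ha z'
  rcases hw.total (y * σ') (y' * σ) with hle | hle
  · exact Or.inl (key y y' σ σ' h h' (fun hy => hz ((mem_limPrime hw a ha).2 hy)) hle)
  · exact Or.inr (key y' y σ' σ h' h (fun hy => hz' ((mem_limPrime hw a ha).2 hy)) hle)

open MvPolynomial in
/-- Every finitely presented algebra mapping to the limit ring maps to every algebra in which finitely many
elements become multiples of one of them, which is a nonzerodivisor. -/
theorem exists_chart {G : Type u} [CommRing G] [Algebra R G] [Algebra.FinitePresentation R G]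
    (ρ : G →ₐ[R] limRing hw a ha) :
    ∃ (x : R) (S : Finset R) (N : ℕ), w x (a ^ N) ∧ (∀ s ∈ S, w x s) ∧
      ∀ (D : Type u) [CommRing D] [Algebra R D], algebraMap R D x ∈ nonZeroDivisors D →
        (∀ s ∈ S, algebraMap R D x ∣ algebraMap R D s) → Nonempty (G →ₐ[R] D) := by
  classical
  obtain ⟨m, π, hπ, hker⟩ := Algebra.FinitePresentation.out (R := R) (A := G)
  choose y σ hy hz using fun t : Fin m => exists_frac hw a ha (ρ (π (X t)))
  let s₀ : (supp hw a ha).primeCompl := ∏ t, σ t
  let y₀ : Fin m → R := fun t => y t * ∏ t' ∈ Finset.univ.erase t, (σ t' : R)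
  have hs₀ : ∀ t, (σ t : R) * ∏ t' ∈ Finset.univ.erase t, (σ t' : R) = s₀ := fun t => by
    rw [Finset.mul_prod_erase Finset.univ (fun t' => (σ t' : R)) (Finset.mem_univ t)]
    simp [s₀, SubmonoidClass.coe_finsetProd]
  have hy₀ : ∀ t, w s₀ (y₀ t) := fun t => by
    rw [← hs₀ t]
    exact hw.mul _ _ _ (hy t)
  have hval : ∀ t, ((ρ (π (X t)) : limRing hw a ha) : Loc hw a ha) = IsLocalization.mk' (Loc hw a ha) (y₀ t) s₀ :=
    fun t => by
      rw [hz t, coe_frac]
      refine IsLocalization.mk'_eq_of_eq' ?_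
      rw [← hs₀ t]
      ring
  obtain ⟨rels, hrels⟩ := hker
  let L := Localization.Away (s₀ : R)
  let v : Fin m → L := fun t => IsLocalization.mk' L (y₀ t) (⟨(s₀ : R), Submonoid.mem_powers _⟩ : Submonoid.powers (s₀ : R))
  let ι : L →ₐ[R] Loc hw a ha := IsLocalization.liftAlgHom (M := Submonoid.powers (s₀ : R)) (f := Algebra.ofId R (Loc hw a ha))
    fun u => by
      obtain ⟨u, n, rfl⟩ := u
      exact IsLocalization.map_units (Loc hw a ha) (s₀ ^ n)
  have hι : ∀ r : R, ι (algebraMap R L r) = algebraMap R (Loc hw a ha) r := fun r => ι.commutes r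
  have hιv : ∀ t, ι (v t) = IsLocalization.mk' (Loc hw a ha) (y₀ t) s₀ := fun t => by
    have h1 : algebraMap R L (s₀ : R) * v t = algebraMap R L (y₀ t) :=
      IsLocalization.mk'_spec' (M := Submonoid.powers (s₀ : R)) L _ _
    rw [IsLocalization.eq_mk'_iff_mul_eq, ← hι, ← map_mul, mul_comm (v t), h1, hι]
  have hrel0 : ∀ q ∈ rels, ∃ τ : (supp hw a ha).primeCompl, algebraMap R L τ * MvPolynomial.aeval v q = 0 := by
    intro q hq
    have h0 : π q = 0 := RingHom.mem_ker.1 (hrels.le (Ideal.subset_span hq))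
    have h1 : ι (MvPolynomial.aeval v q) = 0 := by
      have he : ι.comp (MvPolynomial.aeval v) = ((limRing hw a ha).val.comp ρ).comp π := by
        refine MvPolynomial.algHom_ext fun t => ?_
        simp [hιv, hval]
      rw [show ι (MvPolynomial.aeval v q) = (ι.comp (MvPolynomial.aeval v)) q from rfl, he]
      simp [h0]
    obtain ⟨⟨r, ⟨_, n, rfl⟩⟩, hr⟩ := IsLocalization.surj (Submonoid.powers (s₀ : R)) (MvPolynomial.aeval v q)
    simp only at hr
    have h2 : algebraMap R (Loc hw a ha) r = 0 := by rw [← hι, ← hr, map_mul, h1, zero_mul]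
    obtain ⟨τ, hτ⟩ := (IsLocalization.map_eq_zero_iff (supp hw a ha).primeCompl (Loc hw a ha) r).1 h2
    refine ⟨τ, ?_⟩
    have hu : IsUnit (algebraMap R L ((s₀ : R) ^ n)) := IsLocalization.map_units L (⟨_, n, rfl⟩ : Submonoid.powers (s₀ : R))
    refine hu.mul_left_eq_zero.1 ?_
    rw [mul_assoc, hr, ← map_mul, hτ, map_zero]
  choose! τ hτ using hrel0
  let T : (supp hw a ha).primeCompl := ∏ q ∈ rels, τ q
  let x : R := (s₀ : R) * T
  obtain ⟨N, hN⟩ := (notMem_supp hw a ha).1 (s₀ * T).2
  refine ⟨x, Finset.univ.image fun t => y₀ t * T, N, hN, fun s hs => ?_, fun D _ _ hx hdvd => ?_⟩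
  · obtain ⟨t, -, rfl⟩ := Finset.mem_image.1 hs
    exact hw.mul _ _ _ (hy₀ t)
  choose z hz' using fun t : Fin m => hdvd _ (Finset.mem_image_of_mem _ (Finset.mem_univ t))
  let E := Localization.Away (algebraMap R D x)
  have hinj : Function.Injective (algebraMap D E) :=
    IsLocalization.injective E ((Submonoid.powers_le.2 hx))
  have huE : ∀ u : Submonoid.powers (s₀ : R), IsUnit (algebraMap R E u) := fun u => by
    obtain ⟨u, n, rfl⟩ := u
    have h0 : IsUnit (algebraMap R E x) := by
      rw [IsScalarTower.algebraMap_apply R D E]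
      exact IsLocalization.Away.algebraMap_isUnit (algebraMap R D x)
    rw [map_pow]
    exact (isUnit_of_dvd_unit (map_dvd (algebraMap R E) (dvd_mul_right _ _)) h0).pow n
  let κ : L →ₐ[R] E := IsLocalization.liftAlgHom (M := Submonoid.powers (s₀ : R)) (f := Algebra.ofId R E) huE
  have hκv : ∀ t, κ (v t) = algebraMap D E (z t) := fun t => by
    have h1 : algebraMap R L (s₀ : R) * v t = algebraMap R L (y₀ t) :=
      IsLocalization.mk'_spec' (M := Submonoid.powers (s₀ : R)) L _ _
    have h2 := congrArg κ h1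
    rw [map_mul, κ.commutes, κ.commutes] at h2
    have hx0 : IsUnit (algebraMap R E x) := by
      have := IsLocalization.Away.algebraMap_isUnit (S := E) (algebraMap R D x)
      exact (IsScalarTower.algebraMap_apply R D E x).symm ▸ this
    refine hx0.mul_left_cancel ?_
    have h4 : algebraMap R E (y₀ t * (T : R)) = algebraMap R E x * algebraMap D E (z t) := by
      calc algebraMap R E (y₀ t * (T : R)) = algebraMap D E (algebraMap R D (y₀ t * (T : R))) :=
            IsScalarTower.algebraMap_apply R D E _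
        _ = algebraMap D E (algebraMap R D x * z t) := congrArg _ (hz' t)
        _ = _ := by rw [map_mul]; exact congrArg (· * _) (IsScalarTower.algebraMap_apply R D E x).symm
    rw [← h4, map_mul _ (y₀ t), ← h2]
    simp only [x, map_mul]
    ring
  have hTu : ∀ q ∈ rels, IsUnit (algebraMap R E (τ q : R)) := fun q hq => by
    refine isUnit_of_dvd_unit (map_dvd (algebraMap R E) ?_) (show IsUnit (algebraMap R E x) by
      rw [IsScalarTower.algebraMap_apply R D E]
      exact IsLocalization.Away.algebraMap_isUnit (algebraMap R D x))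
    refine Dvd.dvd.mul_left ?_ _
    simp only [T, SubmonoidClass.coe_finsetProd]
    exact Finset.dvd_prod_of_mem _ hq
  have hvanish : ∀ q ∈ RingHom.ker π.toRingHom, MvPolynomial.aeval z q = 0 := by
    intro q hq
    rw [← hrels] at hq
    refine (Submodule.span_le.2 (fun q hq => ?_) : Ideal.span (rels : Set _) ≤ RingHom.ker (MvPolynomial.aeval (R := R) z).toRingHom) hq
    apply hinj
    have he : κ.comp (MvPolynomial.aeval v) = (IsScalarTower.toAlgHom R D E).comp (MvPolynomial.aeval z) :=
      MvPolynomial.algHom_ext fun t => by simp [hκv]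
    have h1 := congrArg κ (hτ q hq)
    rw [map_mul, κ.commutes, map_zero] at h1
    rw [map_zero]
    exact (show _ = algebraMap D E (MvPolynomial.aeval z q) from DFunLike.congr_fun he q) ▸ (hTu q hq).mul_right_eq_zero.1 h1
  exact ⟨AlgHom.liftOfSurjective π hπ (MvPolynomial.aeval z) fun q hq => hvanish q hq⟩

end Groth.Agent.RGBlowLib
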