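import Groth.Agent.RGBlowLib.BaseChange
import Groth.Agent.RGBlowLib.FlatCrit
import Groth.Agent.RGBlowLib.ValRel
import Groth.Agent.RGBlowLib.FPSys
import Groth.Agent.FlatStage.AlgGlobal
import Groth.Agent.FibBasisLib.Basic
import Groth.Agent.S1239

/-!
# Flattening near one valuation
-/

set_option autoImplicit false
set_option linter.style.haveILetI false
set_option backward.isDefEq.respectTransparency false
set_option maxHeartbeats 2000000

universe u

open TensorProduct

noncomputable section

namespace Groth.Agent.RGBlowLib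

attribute [local instance] Algebra.TensorProduct.rightAlgebra

variable {R B M : Type u} [CommRing R] [CommRing B] [Algebra R B] [AddCommGroup M] [Module B M] [Module R M]
  [IsScalarTower R B M]

/-- After inverting `a`, the base change to `A` is flat over `A`. -/
theorem flat_away_tensor (a : R) (A : Type u) [CommRing A] [Algebra R A]
    [Module.Flat R (LocalizedModule (Submonoid.powers a) M)] :
    Module.Flat A (Localization.Away (algebraMap R A a) ⊗[R] M) := by
  let L := Localization.Away (algebraMap R A a)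
  let Ma := LocalizedModule (Submonoid.powers a) M
  haveI : Module.Flat A L := IsLocalization.flat L (Submonoid.powers (algebraMap R A a))
  haveI : Module.Flat A (L ⊗[R] Ma) := Module.Flat.trans A L (L ⊗[R] Ma)
  let ι : M →ₗ[R] L ⊗[R] M := TensorProduct.mk R L M 1
  have hunit : ∀ u : Submonoid.powers a, IsUnit (algebraMap R (Module.End R (L ⊗[R] M)) u) := by
    rintro ⟨_, n, rfl⟩
    have hu : IsUnit (algebraMap R L (a ^ n)) := by
      rw [IsScalarTower.algebraMap_apply R A L, map_pow, map_pow]
      exact (IsLocalization.Away.algebraMap_isUnit (algebraMap R A a)).pow n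
    obtain ⟨u, hu⟩ := hu
    refine (Module.End.isUnit_iff _).2 ⟨fun z z' h => ?_, fun z => ⟨(↑u⁻¹ : L) • z, ?_⟩⟩
    · simp only [Module.algebraMap_end_apply] at h
      have h' := congrArg ((↑u⁻¹ : L) • ·) h
      simpa only [← algebraMap_smul L (a ^ n), ← hu, ← mul_smul, Units.inv_mul, one_smul] using h'
    · simp only [Module.algebraMap_end_apply, ← algebraMap_smul L (a ^ n), ← hu, ← mul_smul, Units.mul_inv, one_smul]
  let l : Ma →ₗ[R] L ⊗[R] M := IsLocalizedModule.lift (Submonoid.powers a) (LocalizedModule.mkLinearMap _ M) ι hunit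
  let back : L ⊗[R] Ma →ₗ[L] L ⊗[R] M := l.liftBaseChange L
  let fwd : L ⊗[R] M →ₗ[L] L ⊗[R] Ma := (LocalizedModule.mkLinearMap (Submonoid.powers a) M).baseChange L
  have h1 : back.comp fwd = LinearMap.id := by
    ext m
    show l.liftBaseChange L ((LocalizedModule.mkLinearMap (Submonoid.powers a) M).baseChange L (1 ⊗ₜ m)) =
      (1 : L) ⊗ₜ[R] m
    rw [LinearMap.baseChange_tmul, LinearMap.liftBaseChange_tmul, one_smul]
    exact IsLocalizedModule.lift_apply (Submonoid.powers a) (LocalizedModule.mkLinearMap _ M) ι hunit m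
  have h2 : fwd.comp back = LinearMap.id := by
    have hl : (fwd.restrictScalars R).comp l = TensorProduct.mk R L Ma 1 := by
      refine IsLocalizedModule.ext (Submonoid.powers a) (LocalizedModule.mkLinearMap _ M) (fun u => ?_) ?_
      · obtain ⟨_, n, rfl⟩ := u
        have hu : IsUnit (algebraMap R L (a ^ n)) := by
          rw [IsScalarTower.algebraMap_apply R A L, map_pow, map_pow]
          exact (IsLocalization.Away.algebraMap_isUnit (algebraMap R A a)).pow n
        obtain ⟨u, hu⟩ := hu
        refine (Module.End.isUnit_iff _).2 ⟨fun z z' h => ?_, fun z => ⟨(↑u⁻¹ : L) • z, ?_⟩⟩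
        · simp only [Module.algebraMap_end_apply] at h
          have h' := congrArg ((↑u⁻¹ : L) • ·) h
          simpa only [← algebraMap_smul L (a ^ n), ← hu, ← mul_smul, Units.inv_mul, one_smul] using h'
        · simp only [Module.algebraMap_end_apply, ← algebraMap_smul L (a ^ n), ← hu, ← mul_smul, Units.mul_inv, one_smul]
      · ext m
        show fwd (l (LocalizedModule.mkLinearMap (Submonoid.powers a) M m)) =
          (1 : L) ⊗ₜ[R] LocalizedModule.mkLinearMap (Submonoid.powers a) M m
        rw [show l (LocalizedModule.mkLinearMap (Submonoid.powers a) M m) = ι m from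
          IsLocalizedModule.lift_apply (Submonoid.powers a) (LocalizedModule.mkLinearMap _ M) ι hunit m]
        rfl
    refine LinearMap.ext fun z => ?_
    induction z using TensorProduct.induction_on with
    | zero => simp
    | add x y hx hy => rw [map_add, map_add, hx, hy]
    | tmul x y =>
      simp only [back, LinearMap.comp_apply, LinearMap.liftBaseChange_tmul, LinearMap.id_apply, map_smul]
      rw [show fwd (l y) = (1 : L) ⊗ₜ[R] y from LinearMap.congr_fun hl y]
      simp [smul_tmul']
  exact Module.Flat.of_linearEquiv ((LinearEquiv.ofLinearMap fwd back h2 h1).restrictScalars A)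

/-- Over a ring like the limit ring, the quotient by torsion is flat. -/
theorem flat_limit {A : Type u} [CommRing A] [Algebra R A] (a : R)
    (hreg : ∀ z : A, algebraMap R A a * z = 0 → z = 0) (p : Ideal A) [p.IsPrime]
    (hp : ∀ z ∈ p, ∃ z' ∈ p, z = algebraMap R A a * z')
    (hdvd : ∀ z ∉ p, ∃ n : ℕ, z ∣ algebraMap R A a ^ n)
    (htot : ∀ z z' : A, z ∉ p → z' ∉ p → z ∣ z' ∨ z' ∣ z)
    [Module.Flat R (LocalizedModule (Submonoid.powers a) M)] :
    Module.Flat A (BC R B M A ⧸ tors R B M A a) := by
  let T := tors R B M A a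
  let L := Localization.Away (algebraMap R A a)
  let Φ : A ⊗[R] M →ₗ[A] L ⊗[R] M := AlgebraTensorModule.rTensor R M (Algebra.linearMap A L)
  let S := Submonoid.powers (algebraMap R A a)
  haveI hΦ : IsLocalizedModule S Φ := inferInstance
  let Φ' : BC R B M A →ₗ[A] L ⊗[R] M := Φ.comp (bcEquiv R B M A).toLinearMap
  have hT : T.restrictScalars A ≤ LinearMap.ker Φ' := fun z hz => by
    obtain ⟨n, hn⟩ := mem_tors.1 hz
    rw [LinearMap.mem_ker]
    have h1 := congrArg Φ' hn
    rw [map_smul, map_zero] at h1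
    exact ((Module.End.isUnit_iff _).1 (IsLocalizedModule.map_units Φ (⟨_, n, rfl⟩ : S))).1
      (h1.trans (map_zero _).symm)
  let Φb : (BC R B M A ⧸ T) →ₗ[A] L ⊗[R] M :=
    ((T.restrictScalars A).liftQ Φ' hT).comp (Submodule.Quotient.restrictScalarsEquiv A T).symm.toLinearMap
  have hΦb : ∀ z, Φb (Submodule.Quotient.mk z) = Φ' z := fun z => by
    simp only [Φb, LinearMap.comp_apply, LinearEquiv.coe_coe, Submodule.Quotient.restrictScalarsEquiv_symm_mk,
      Submodule.liftQ_apply]
  haveI : IsLocalizedModule S Φb := by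
    refine ⟨fun u => IsLocalizedModule.map_units Φ u, fun y => ?_, fun {q q'} h => ?_⟩
    · obtain ⟨⟨z, s⟩, hz⟩ := IsLocalizedModule.surj S Φ y
      exact ⟨⟨Submodule.Quotient.mk ((bcEquiv R B M A).symm z), s⟩, by rw [hΦb]; simpa [Φ'] using hz⟩
    · obtain ⟨z, rfl⟩ := Submodule.Quotient.mk_surjective T q
      obtain ⟨z', rfl⟩ := Submodule.Quotient.mk_surjective T q'
      rw [hΦb, hΦb] at h
      obtain ⟨c, hc⟩ := IsLocalizedModule.exists_of_eq (S := S) (f := Φ) h
      refine ⟨c, ?_⟩
      have hc' : (c : A) • z = (c : A) • z' := (bcEquiv R B M A).injective (by rw [map_smul, map_smul]; exact hc)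
      show (c : A) • (Submodule.Quotient.mk z : BC R B M A ⧸ T) = (c : A) • Submodule.Quotient.mk z'
      rw [← Submodule.Quotient.mk_smul, hc', Submodule.Quotient.mk_smul]
  haveI := flat_away_tensor (M := M) a A
  refine flat_of_criterion (algebraMap R A a) hreg p hp hdvd htot (fun q hq => quot_eq_zero_of_smul q hq) ?_
  exact Module.Flat.of_linearEquiv (IsLocalizedModule.iso S Φb)

/-- The torsion is finitely generated when the quotient by it is flat. -/
theorem fg_tors_limit [Algebra.FinitePresentation R B] [Module.FinitePresentation B M]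
    {A : Type u} [CommRing A] [Algebra R A] (a : R) (hreg : ∀ z : A, algebraMap R A a * z = 0 → z = 0)
    [Module.Flat A (BC R B M A ⧸ tors R B M A a)] :
    (tors R B M A a).FG := by
  let E := A ⊗[R] B
  let T := tors R B M A a
  haveI : Module.Finite E (BC R B M A ⧸ T) := Module.Finite.of_surjective T.mkQ T.mkQ_surjective
  have hfp : Module.FinitePresentation (Localization.Away (algebraMap A E (algebraMap R A a)))
      (LocalizedModule (Submonoid.powers (algebraMap A E (algebraMap R A a))) (BC R B M A ⧸ T)) := by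
    let S := Submonoid.powers (algebraMap A E (algebraMap R A a))
    refine Module.FinitePresentation.of_equiv (LinearEquiv.ofBijective (LocalizedModule.map S T.mkQ)
      ⟨(FibBasisLib.injective_map_iff S T.mkQ).2 fun z hz => ?_, LocalizedModule.map_surjective _ _ T.mkQ_surjective⟩)
    obtain ⟨n, hn⟩ := mem_tors.1 ((Submodule.Quotient.mk_eq_zero T).1 hz)
    refine ⟨_, ⟨n, rfl⟩, ?_⟩
    show algebraMap A E (algebraMap R A a) ^ n • z = 0
    rw [← map_pow (algebraMap A E), algebraMap_smul]
    exact hn
  haveI : Module.FinitePresentation E (BC R B M A ⧸ T) :=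
    S1239.result (A := A) (B := E) (BC R B M A ⧸ T) (n := 1) (fun _ => algebraMap R A a) (by
      rw [injective_iff_map_eq_zero]
      intro z hz
      obtain ⟨⟨_, n, rfl⟩, hn⟩ := (IsLocalization.map_eq_zero_iff (Submonoid.powers (algebraMap R A a))
        (Localization.Away (algebraMap R A a)) z).1 (congrFun hz 0)
      exact eq_zero_of_pow_mul _ hreg n z hn) (fun _ => hfp)
  simpa using Module.FinitePresentation.fg_ker T.mkQ T.mkQ_surjective

/-- Finitely many torsion elements come from one stage with their torsion. -/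
theorem exists_lift_torsion {A : Type u} [CommRing A] [Algebra R A] (a : R) (s : Finset (A ⊗[R] M))
    (hs : ∀ t ∈ s, ∃ n : ℕ, a ^ n • t = 0) :
    ∃ k : (fpSys R A).J, ∀ t ∈ s, ∃ (c : (fpSys R A).R k ⊗[R] M) (n : ℕ),
      ((fpSys R A).ρ k).toLinearMap.rTensor M c = t ∧ a ^ n • c = 0 := by
  classical
  induction s using Finset.induction with
  | empty => exact ⟨fpBot R A, by simp⟩
  | @insert t s _ ih =>
    obtain ⟨k, hk⟩ := ih fun t ht => hs t (Finset.mem_insert_of_mem ht)
    obtain ⟨n, hn⟩ := hs t (Finset.mem_insert_self _ _)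
    obtain ⟨l, g, c, hc⟩ := (fpSys R A).exists_lift (M := M) k t
    obtain ⟨l', g', hg'⟩ := (fpSys R A).exists_zero (M := M) l (a ^ n • c) (by rw [map_smul, hc, hn])
    obtain ⟨e, he⟩ := (fpSys R A).comp g g'
    refine ⟨l', fun t' ht' => ?_⟩
    rcases Finset.mem_insert.1 ht' with rfl | ht'
    · refine ⟨((fpSys R A).τ g').toLinearMap.rTensor M c, n, ?_, ?_⟩
      · rw [(fpSys R A).rho_tau, hc]
      · rw [← map_smul]; exact hg'
    · obtain ⟨c', m, hc', hm⟩ := hk t' ht'
      refine ⟨((fpSys R A).τ e).toLinearMap.rTensor M c', m, ?_, ?_⟩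
      · rw [(fpSys R A).rho_tau, hc']
      · rw [← map_smul, hm, map_zero]

/-- A finitely presented algebra over which the strict transform is flat and finitely presented. -/
theorem exists_model [Algebra.FinitePresentation R B] [Module.FinitePresentation B M]
    {A : Type u} [CommRing A] [Algebra R A] (a : R) (hreg : ∀ z : A, algebraMap R A a * z = 0 → z = 0)
    [Module.Flat A (BC R B M A ⧸ tors R B M A a)] :
    ∃ (Gk : Type u) (_ : CommRing Gk) (_ : Algebra R Gk) (_ : Algebra.FinitePresentation R Gk) (_ : Gk →ₐ[R] A),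
      ∀ (D : Type u) [CommRing D] [Algebra R D], algebraMap R D a ∈ nonZeroDivisors D → (Gk →ₐ[R] D) →
          Module.Flat D (BC R B M D ⧸ tors R B M D a) ∧
            Module.FinitePresentation (D ⊗[R] B) (BC R B M D ⧸ tors R B M D a) := by
  classical
  let TA := tors R B M A a
  obtain ⟨κ, hκ⟩ := fg_tors_limit (B := B) (M := M) a hreg
  have hmemT : ∀ z ∈ κ, ∃ n : ℕ, a ^ n • bcEquiv R B M A z = 0 := fun z hz => by
    obtain ⟨n, hn⟩ := mem_tors.1 (show z ∈ TA from hκ.le (Submodule.subset_span hz))
    refine ⟨n, ?_⟩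
    rw [← algebraMap_smul A (a ^ n), map_pow, ← map_smul, hn, map_zero]
  obtain ⟨k₀, hk₀⟩ := exists_lift_torsion a (κ.image (bcEquiv R B M A)) fun t ht => by
    obtain ⟨z, hz, rfl⟩ := Finset.mem_image.1 ht
    exact hmemT z hz
  let G := (fpSys R A).R k₀
  haveI : Algebra.FinitePresentation R G := FPStage.finitePresentation k₀
  let ρ₀ : G →ₐ[R] A := (fpSys R A).ρ k₀
  choose c nc hc hnc using fun z : κ => hk₀ _ (Finset.mem_image_of_mem (bcEquiv R B M A) z.2)
  let κ₀ : Finset (BC R B M G) := (Finset.univ : Finset κ).image fun z => (bcEquiv R B M G).symm (c z)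
  let K₀ := Submodule.span (G ⊗[R] B) (κ₀ : Set (BC R B M G))
  have hmapA : Submodule.span (A ⊗[R] B) (mapBC ρ₀ '' (κ₀ : Set (BC R B M G))) = TA := by
    show _ = tors R B M A a
    rw [← hκ]
    congr 1
    ext z
    simp only [κ₀, Finset.coe_image, Finset.coe_univ, Set.image_univ, Set.mem_image, Set.mem_range,
      exists_exists_eq_and, Finset.mem_coe]
    constructor
    · rintro ⟨y, rfl⟩
      rw [mapBC_bcEquiv_symm, hc y, LinearEquiv.symm_apply_apply]
      exact y.2
    · intro hz
      exact ⟨⟨z, hz⟩, by rw [mapBC_bcEquiv_symm, hc ⟨z, hz⟩, LinearEquiv.symm_apply_apply]⟩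
  haveI : Module.FinitePresentation (G ⊗[R] B) (BC R B M G ⧸ K₀) :=
    Module.finitePresentation_of_surjective K₀.mkQ K₀.mkQ_surjective (by
      rw [Submodule.ker_mkQ]; exact Submodule.fg_span (Finset.finite_toSet _))
  letI : Algebra G A := ρ₀.toRingHom.toAlgebra
  haveI : IsScalarTower R G A := .of_algebraMap_eq fun r => (ρ₀.commutes r).symm
  have hflatA : Module.Flat A (A ⊗[G] (BC R B M G ⧸ K₀)) := by
    obtain ⟨e⟩ := nonempty_quot_equiv (B := B) (M := M) ρ₀ (κ₀ : Set (BC R B M G))
    haveI : Module.Flat A (BC R B M A ⧸ Submodule.span (A ⊗[R] B) (mapBC ρ₀ '' (κ₀ : Set (BC R B M G)))) := by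
      rw [hmapA]
      infer_instance
    exact Module.Flat.of_linearEquiv e
  obtain ⟨k, -, hk⟩ := FlatStage.exists_flat_stage (A := G) (B := G ⊗[R] B) (M := BC R B M G ⧸ K₀)
    (fpSys G A) (fpBot G A) (fpSys_dir G A) hflatA
  let Gk := (fpSys G A).R k
  haveI : Algebra.FinitePresentation G Gk := FPStage.finitePresentation k
  letI : Algebra R Gk := ((algebraMap G Gk).comp (algebraMap R G)).toAlgebra
  haveI : IsScalarTower R G Gk := .of_algebraMap_eq fun _ => rfl
  haveI : Algebra.FinitePresentation R Gk := Algebra.FinitePresentation.trans R G Gk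
  refine ⟨Gk, inferInstance, inferInstance, inferInstance, ((fpSys G A).ρ k).restrictScalars R,
    fun D _ _ haD ψ => ?_⟩
  let φ : G →ₐ[R] D := ψ.comp (IsScalarTower.toAlgHom R G Gk)
  letI : Algebra G D := φ.toRingHom.toAlgebra
  letI : Algebra Gk D := ψ.toRingHom.toAlgebra
  haveI : IsScalarTower G Gk D := .of_algebraMap_eq fun _ => rfl
  let K := Submodule.span (D ⊗[R] B) (mapBC φ '' (κ₀ : Set (BC R B M G)))
  haveI hflatD : Module.Flat D (BC R B M D ⧸ K) := by
    haveI : Module.Flat Gk (Gk ⊗[G] (BC R B M G ⧸ K₀)) := hk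
    haveI : Module.Flat D (D ⊗[G] (BC R B M G ⧸ K₀)) :=
      Module.Flat.of_linearEquiv (AlgebraTensorModule.cancelBaseChange G Gk D D (BC R B M G ⧸ K₀)).symm
    obtain ⟨e⟩ := nonempty_quot_equiv (B := B) (M := M) φ (κ₀ : Set (BC R B M G))
    exact Module.Flat.of_linearEquiv e.symm
  have hK : tors R B M D a = K := by
    refine le_antisymm (fun z hz => ?_) (Submodule.span_le.2 ?_)
    · obtain ⟨n, hn⟩ := mem_tors.1 hz
      rw [← Submodule.Quotient.mk_eq_zero]
      refine Module.Flat.isSMulRegular_of_nonZeroDivisors (M := BC R B M D ⧸ K) (pow_mem haD n) ?_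
      simp only [smul_zero]
      rw [← Submodule.Quotient.mk_smul, hn, Submodule.Quotient.mk_zero]
    · rintro _ ⟨z, hz, rfl⟩
      obtain ⟨y, -, rfl⟩ := Finset.mem_image.1 (Finset.mem_coe.1 hz)
      rw [SetLike.mem_coe, mem_tors]
      refine ⟨nc y, ?_⟩
      rw [← mapBC_algebraMap_smul, ← map_pow, algebraMap_smul]
      rw [show a ^ nc y • (bcEquiv R B M G).symm (c y) = (bcEquiv R B M G).symm (a ^ nc y • c y) from
        (map_smul ((bcEquiv R B M G).symm.toLinearMap.restrictScalars R) _ _).symm, hnc y, map_zero, map_zero]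
  rw [hK]
  exact ⟨hflatD, Module.finitePresentation_of_surjective K.mkQ K.mkQ_surjective (by
    rw [Submodule.ker_mkQ]; exact Submodule.fg_span (Set.Finite.image _ (Finset.finite_toSet _)))⟩

/-- Flattening near one valuation: some finitely presented blow-up data do it. -/
theorem exists_good [Algebra.FinitePresentation R B] [Module.FinitePresentation B M]
    {w : R → R → Prop} (hw : IsVR w) (a : R) (ha : ¬ w 0 a)
    [Module.Flat R (LocalizedModule (Submonoid.powers a) M)] :
    ∃ (x : R) (S : Finset R) (N : ℕ), w x (a ^ N) ∧ (∀ s ∈ S, w x s) ∧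
      ∀ (D : Type u) [CommRing D] [Algebra R D], algebraMap R D a ∈ nonZeroDivisors D →
        algebraMap R D x ∈ nonZeroDivisors D → (∀ s ∈ S, algebraMap R D x ∣ algebraMap R D s) →
          Module.Flat D (BC R B M D ⧸ tors R B M D a) ∧
            Module.FinitePresentation (D ⊗[R] B) (BC R B M D ⧸ tors R B M D a) := by
  have hreg : ∀ z : limRing hw a ha, algebraMap R (limRing hw a ha) a * z = 0 → z = 0 :=
    fun z hz => aA_mul_eq_zero hw a ha hz
  haveI := flat_limit (B := B) (M := M) (A := limRing hw a ha) a hreg (limPrime hw a ha)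
    (fun z hz => exists_aA_mul hw a ha hz) (fun z hz => dvd_pow_of_notMem hw a ha hz)
    (fun z z' hz hz' => dvd_total hw a ha hz hz')
  obtain ⟨Gk, _, _, hfp, θ, hgood⟩ := exists_model (B := B) (M := M) (A := limRing hw a ha) a hreg
  haveI := hfp
  obtain ⟨x, S, N, hN, hS, hchart⟩ := exists_chart hw a ha θ
  exact ⟨x, S, N, hN, hS, fun D _ _ haD hxD hdvd => hgood D haD (hchart D hxD hdvd).some⟩

end Groth.Agent.RGBlowLib
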