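import Groth.Agent.RGBlowLib.Extend
import Groth.Agent.RGBlowLib.Compose
import Groth.Agent.RGBlowLib.Glue
import Groth.Agent.ModPairLib.Approx
import Groth.Agent.S8858

/-!
# A common target of admissible blow-ups of two compactifications
-/

set_option autoImplicit false
set_option linter.style.haveILetI false
set_option backward.isDefEq.respectTransparency false
set_option maxHeartbeats 1600000

universe u

open CategoryTheory CategoryTheory.Limits AlgebraicGeometry TopologicalSpace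

noncomputable section

namespace Groth.Agent.RGBlowLib

variable {X S U : Scheme.{u}}

/-- Sections killed by a power of an ideal vanish after pulling back to where it is effective Cartier. -/
theorem comap_killed_eq_bot {P T : Scheme.{u}} (E 𝒥 : P.IdealSheafData)
    (hJ : ∀ (O : P.affineOpens) (a : Γ(P, O.1)), a ∈ 𝒥.ideal O ↔
      BlowUp.KilledByPowerNear E (Coh.structureModule P) O a)
    (t : T ⟶ P) (ht : BlowUp.IsEffCartierIdeal (E.comap t)) : 𝒥.comap t = ⊥ := by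
  let J := {p : T.affineOpens × P.affineOpens //
    p.1.1 ≤ t ⁻¹ᵁ p.2.1 ∧ ∃ f ∈ nonZeroDivisors Γ(T, p.1.1), (E.comap t).ideal p.1 = Ideal.span {f}}
  refine Scheme.IdealSheafData.ext_of_iSup_eq_top (ι := J) (fun p => p.1.1) ?_ fun p => ?_
  · refine top_le_iff.1 fun x _ => ?_
    obtain ⟨W₀, hx, f, hf, hI⟩ := ht x
    obtain ⟨_, ⟨O : P.Opens, hO, rfl⟩, hxO, -⟩ := P.isBasis_affineOpens.exists_subset_of_mem_open (Set.mem_univ (t x)) isOpen_univ
    obtain ⟨r, hr, hxr⟩ := W₀.2.exists_basicOpen_le (V := W₀.1 ⊓ t ⁻¹ᵁ O) ⟨x, hx, hxO⟩ hx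
    obtain ⟨f', hf', hI'⟩ := RelDivLib.generator_res (E.comap t) W₀ r hf hI
    exact Opens.mem_iSup.2 ⟨⟨⟨T.affineBasicOpen (U := W₀) r, ⟨O, hO⟩⟩, hr.trans inf_le_right, f', hf', hI'⟩, hxr⟩
  obtain ⟨⟨W, O⟩, e, f, hf, hI⟩ := p
  show (𝒥.comap t).ideal W = (⊥ : T.IdealSheafData).ideal W
  rw [Scheme.IdealSheafData.ideal_bot, Pi.bot_apply, eq_bot_iff, IdealStalkLib.comap_ideal 𝒥 t O.2 W.2 e, Ideal.map_le_iff_le_comap]
  intro a ha
  obtain ⟨n, hn⟩ := (hJ O a).1 ha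
  rw [IdealStalkLib.comap_ideal E t O.2 W.2 e] at hI
  rw [Ideal.mem_comap, Ideal.mem_bot]
  have h1 : f ^ n ∈ ((E.ideal O) ^ n).map (t.appLE O.1 W.1 e).hom := by
    rw [Ideal.map_pow, hI, Ideal.span_singleton_pow]
    exact Ideal.mem_span_singleton_self _
  have h2 : ∀ y ∈ ((E.ideal O) ^ n).map (t.appLE O.1 W.1 e).hom, y * (t.appLE O.1 W.1 e).hom a = 0 := by
    intro y hy
    induction hy using Submodule.span_induction with
    | mem y hy =>
      obtain ⟨s, hs, rfl⟩ := hy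
      have h3 : s * a = 0 := hn s (by rw [Scheme.IdealSheafData.ideal_pow, Pi.pow_apply]; exact hs)
      rw [← map_mul, h3, map_zero]
    | zero => rw [zero_mul]
    | add u v _ _ hu hv => rw [add_mul, hu, hv, add_zero]
    | smul c u _ hu => rw [smul_eq_mul, mul_assoc, hu, mul_zero]
  exact (mem_nonZeroDivisors_iff.1 (pow_mem hf n)).1 _ (h2 _ h1)

/-- The strict transform of a morphism is the blow-up of its source in the pulled back centre. -/
theorem isBlowUp_killed {S' : Scheme.{u}} (φ : X ⟶ S) {𝓘 : S.IdealSheafData} {b : S' ⟶ S} (hb : BlowUp.IsBlowUp b 𝓘)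
    (𝒥 : (pullback φ b).IdealSheafData)
    (hJ : ∀ (O : (pullback φ b).affineOpens) (a : Γ(pullback φ b, O.1)), a ∈ 𝒥.ideal O ↔
      BlowUp.KilledByPowerNear ((𝓘.comap φ).comap (pullback.fst φ b)) (Coh.structureModule (pullback φ b)) O a)
    [IsOpenImmersion (𝒥.subschemeι ≫ pullback.snd φ b)] :
    BlowUp.IsBlowUp (𝒥.subschemeι ≫ pullback.fst φ b) (𝓘.comap φ) := by
  refine ⟨?_, fun T h hh => ?_⟩
  · have e : (𝓘.comap φ).comap (𝒥.subschemeι ≫ pullback.fst φ b) =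
        (𝓘.comap b).comap (𝒥.subschemeι ≫ pullback.snd φ b) := by
      rw [← Scheme.IdealSheafData.comap_comp, ← Scheme.IdealSheafData.comap_comp, Category.assoc, Category.assoc,
        pullback.condition]
    rw [e]
    exact BlowCompLib.isEffCartier_comap_openImmersion hb.1 _
  · obtain ⟨k, hk, huniq⟩ := hb.2 T (h ≫ φ) (by rw [Scheme.IdealSheafData.comap_comp]; exact hh)
    let t : T ⟶ pullback φ b := pullback.lift h k hk.symm
    have hker : 𝒥.subschemeι.ker ≤ t.ker := by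
      rw [Scheme.IdealSheafData.ker_subschemeι, ← Scheme.IdealSheafData.map_bot t]
      exact Scheme.IdealSheafData.le_map_iff_comap_le.2 (comap_killed_eq_bot _ 𝒥 hJ t (by
        rw [← Scheme.IdealSheafData.comap_comp, pullback.lift_fst]; exact hh)).le
    let s := IsClosedImmersion.lift 𝒥.subschemeι t hker
    have hs : s ≫ 𝒥.subschemeι = t := IsClosedImmersion.lift_fac _ _ _
    refine ⟨s, by show s ≫ 𝒥.subschemeι ≫ pullback.fst φ b = h; rw [← Category.assoc, hs, pullback.lift_fst],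
      fun s' hs' => ?_⟩
    rw [← cancel_mono 𝒥.subschemeι, hs]
    refine pullback.hom_ext ?_ ?_
    · rw [pullback.lift_fst, Category.assoc]
      exact hs'
    · rw [pullback.lift_snd, Category.assoc]
      refine huniq _ ?_
      show (s' ≫ 𝒥.subschemeι ≫ pullback.snd φ b) ≫ b = h ≫ φ
      rw [← (show s' ≫ 𝒥.subschemeι ≫ pullback.fst φ b = h from hs'), Category.assoc, Category.assoc, Category.assoc,
        Category.assoc, pullback.condition]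

/-- After an admissible blow-up, the strict transform is an open of the base and a blow-up of the source. -/
theorem exists_open_strict_blowUp [CompactSpace S] [QuasiSeparatedSpace S] (φ : X ⟶ S) [IsSeparated φ]
    [LocallyOfFiniteType φ] [QuasiCompact φ] (R : S.Opens) (hR : IsCompact (R : Set S)) [IsIso (φ ∣_ R)] :
    ∃ (𝓘 : S.IdealSheafData) (S' : Scheme.{u}) (b : S' ⟶ S), BlowUp.IsBlowUp b 𝓘 ∧ BlowUp.IsAdmissibleFor R 𝓘 ∧
      ∃ (V : S'.Opens) (m : (V : Scheme.{u}) ⟶ X),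
        b ⁻¹ᵁ R ≤ V ∧ IsProper m ∧ m ≫ φ = V.ι ≫ b ∧ BlowUp.IsBlowUp m (𝓘.comap φ) := by
  obtain ⟨𝓘, S', b, hb, hadm, -, H⟩ := exists_openImmersion φ R hR
  refine ⟨𝓘, S', b, hb, hadm, ?_⟩
  have hc := IsPullback.of_hasPullback φ b
  obtain ⟨𝒥, hJ⟩ := exists_killed_of_fg ((𝓘.comap φ).comap (pullback.fst φ b)) (by
    rw [← Scheme.IdealSheafData.comap_comp, pullback.condition, Scheme.IdealSheafData.comap_comp]
    exact ModPairLib.fg_of_isLP ((ModPairLib.isLP_of_cart hb.1).comap _))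
  obtain ⟨hopen, hiso⟩ := H _ _ _ hc 𝒥 hJ
  haveI := hopen
  haveI := hiso
  let g := 𝒥.subschemeι ≫ pullback.snd φ b
  haveI : IsProper b := isProper_blowUp hb hadm
  haveI : IsProper (pullback.fst φ b) := MorphismProperty.pullback_fst (P := @IsProper) _ _ inferInstance
  haveI : IsProper (𝒥.subschemeι ≫ pullback.fst φ b) :=
    MorphismProperty.comp_mem (W := @IsProper) _ _ inferInstance inferInstance
  refine ⟨g.opensRange, g.isoOpensRange.inv ≫ 𝒥.subschemeι ≫ pullback.fst φ b, fun y hy => ?_, ?_, ?_, ?_⟩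
  · obtain ⟨x, hx⟩ := (g ∣_ (b ⁻¹ᵁ R)).surjective ⟨y, hy⟩
    refine ⟨(g ⁻¹ᵁ (b ⁻¹ᵁ R)).ι x, ?_⟩
    rw [← Scheme.Hom.comp_apply, ← morphismRestrict_ι, Scheme.Hom.comp_apply, hx]
    rfl
  · exact MorphismProperty.comp_mem (W := @IsProper) _ _ inferInstance inferInstance
  · simp only [Category.assoc, pullback.condition]
    rw [← Scheme.Hom.isoOpensRange_inv_comp g, Category.assoc, Category.assoc]
  · exact S8857.isBlowUp_iso (isBlowUp_killed φ hb 𝒥 hJ) g.isoOpensRange.symm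

/-- The scheme-theoretic image of an open of the base is isomorphic to it over it. -/
theorem isIso_image_restrict' {W : Scheme.{u}} (f : X ⟶ W) [IsSeparated f] (t : U ⟶ X) [QuasiCompact t]
    (j : U ⟶ W) [IsOpenImmersion j] [QuasiCompact j] (ht : t ≫ f = j) :
    IsIso ((t.imageι ≫ f) ∣_ j.opensRange) := by
  haveI : QuasiCompact j.opensRange.ι := by rw [← Scheme.Hom.isoOpensRange_inv_comp j]; infer_instance
  have h := isIso_image_restrict f j.opensRange (j.isoOpensRange.inv ≫ t)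
    (by rw [Category.assoc, ht, Scheme.Hom.isoOpensRange_inv_comp])
  have hk : (j.isoOpensRange.inv ≫ t).ker = t.ker := Scheme.Hom.ker_comp_of_isIso _ _
  simp only [Scheme.Hom.imageι] at h ⊢
  dsimp only [Scheme.Hom.image] at h ⊢
  have key : ∀ I J : X.IdealSheafData, I = J → IsIso ((I.subschemeι ≫ f) ∣_ j.opensRange) →
      IsIso ((J.subschemeι ≫ f) ∣_ j.opensRange) := by rintro I J rfl h'; exact h'
  exact key _ _ hk h

/-- The image of an open maps onto the whole preimage of that open. -/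
theorem mem_range_toImage {W : Scheme.{u}} (f : X ⟶ W) (t : U ⟶ X) [QuasiCompact t] (j : U ⟶ W) [IsOpenImmersion j]
    (ht : t ≫ f = j) [IsIso ((t.imageι ≫ f) ∣_ j.opensRange)] (z : t.image)
    (hz : (t.imageι ≫ f) z ∈ j.opensRange) : ∃ u, t.toImage u = z := by
  obtain ⟨u, hu⟩ := hz
  let q := t.imageι ≫ f
  have hq : q (t.toImage u) = q z := by
    rw [← hu, ← Scheme.Hom.comp_apply, show t.toImage ≫ q = j by simp [q, ht]]
  have hz' : q z ∈ j.opensRange := ⟨u, hu⟩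
  have hu' : q (t.toImage u) ∈ j.opensRange := hq ▸ hz'
  refine ⟨u, congrArg Subtype.val ((q ∣_ j.opensRange).isOpenEmbedding.injective
    (show (q ∣_ j.opensRange) ⟨t.toImage u, hu'⟩ = (q ∣_ j.opensRange) ⟨z, hz'⟩ from Subtype.ext ?_))⟩
  rw [morphismRestrict_base_coe, morphismRestrict_base_coe]
  exact hq

/-- Extend a centre from an open of a blow-up and compose. -/
theorem exists_side {Y : Scheme.{u}} [CompactSpace X] [QuasiSeparatedSpace X] (R : X.Opens) (hR : IsCompact (R : Set X))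
    {𝓘 : X.IdealSheafData} {c : Y ⟶ X} (hc : BlowUp.IsBlowUp c 𝓘) (hadm : BlowUp.IsAdmissibleFor R 𝓘)
    (V : Y.Opens) (hV : IsCompact (V : Set Y)) (K : (V : Scheme.{u}).IdealSheafData)
    (hK : BlowUp.IsAdmissibleFor (V.ι ⁻¹ᵁ (c ⁻¹ᵁ R)) K) :
    ∃ (𝓚 : X.IdealSheafData) (Y' : Scheme.{u}) (d : Y' ⟶ Y), BlowUp.IsBlowUp (d ≫ c) 𝓚 ∧
      BlowUp.IsAdmissibleFor R 𝓚 ∧ BlowUp.IsBlowUp (d ∣_ V) K := by
  haveI : IsProper c := isProper_blowUp hc hadm
  haveI : CompactSpace Y := QuasiCompact.compactSpace_of_compactSpace c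
  haveI : QuasiSeparatedSpace Y := quasiSeparatedSpace_of_quasiSeparated c
  obtain ⟨K', hK', -, hres⟩ := S8857.result Y (c ⁻¹ᵁ R) V (QuasiCompact.isCompact_preimage _ R.2 hR) hV K hK
  obtain ⟨Y', d, hd⟩ := S8859.result Y K'
  obtain ⟨𝓚, hft, hsupp, hcomp⟩ := exists_isBlowUp_comp hc hadm.1 K' hK'.1 hd
  refine ⟨𝓚, Y', d, hcomp, ⟨hft, ?_⟩, hres Y' d hd⟩
  rw [hsupp, Set.disjoint_union_left]
  refine ⟨hadm.2, ?_⟩
  rw [Set.disjoint_left]
  rintro _ ⟨y, hy, rfl⟩ hyR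
  exact Set.disjoint_left.1 hK'.2 hy hyR

theorem exists_common_target {X₁ X₂ : Scheme.{u}} [CompactSpace S] [QuasiSeparatedSpace S]
    (gU : U ⟶ S) (g₁ : X₁ ⟶ S) (g₂ : X₂ ⟶ S)
    [IsSeparated gU] [LocallyOfFiniteType gU] [QuasiCompact gU]
    [IsSeparated g₁] [LocallyOfFiniteType g₁] [QuasiCompact g₁]
    [IsSeparated g₂] [LocallyOfFiniteType g₂] [QuasiCompact g₂]
    (j₁ : U ⟶ X₁) (j₂ : U ⟶ X₂) [IsOpenImmersion j₁] [IsOpenImmersion j₂] (hj₁ : j₁ ≫ g₁ = gU) (hj₂ : j₂ ≫ g₂ = gU) :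
    ∃ (X : Scheme.{u}) (q : X ⟶ S) (_ : IsSeparated q) (_ : LocallyOfFiniteType q) (_ : QuasiCompact q)
      (𝓘₁ : X₁.IdealSheafData) (𝓘₂ : X₂.IdealSheafData) (X₁' X₂' : Scheme.{u}) (b₁ : X₁' ⟶ X₁) (b₂ : X₂' ⟶ X₂)
      (o₁ : X₁' ⟶ X) (o₂ : X₂' ⟶ X) (u₁ : U ⟶ X₁') (u₂ : U ⟶ X₂'),
      BlowUp.IsBlowUp b₁ 𝓘₁ ∧ BlowUp.IsAdmissibleFor j₁.opensRange 𝓘₁ ∧
      BlowUp.IsBlowUp b₂ 𝓘₂ ∧ BlowUp.IsAdmissibleFor j₂.opensRange 𝓘₂ ∧
      IsOpenImmersion o₁ ∧ IsOpenImmersion o₂ ∧ o₁ ≫ q = b₁ ≫ g₁ ∧ o₂ ≫ q = b₂ ≫ g₂ ∧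
      u₁ ≫ b₁ = j₁ ∧ u₂ ≫ b₂ = j₂ ∧ u₁ ≫ o₁ = u₂ ≫ o₂ := by
  haveI : CompactSpace U := QuasiCompact.compactSpace_of_compactSpace gU
  haveI : CompactSpace X₁ := QuasiCompact.compactSpace_of_compactSpace g₁
  haveI : CompactSpace X₂ := QuasiCompact.compactSpace_of_compactSpace g₂
  haveI : QuasiSeparatedSpace X₁ := quasiSeparatedSpace_of_quasiSeparated g₁
  haveI : QuasiSeparatedSpace X₂ := quasiSeparatedSpace_of_quasiSeparated g₂
  haveI : QuasiCompact (j₁ ≫ g₁) := hj₁ ▸ ‹QuasiCompact gU›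
  haveI : QuasiCompact (j₂ ≫ g₂) := hj₂ ▸ ‹QuasiCompact gU›
  haveI : QuasiCompact j₁ := QuasiCompact.of_comp j₁ g₁
  haveI : QuasiCompact j₂ := QuasiCompact.of_comp j₂ g₂
  let p₁ := pullback.fst g₁ g₂
  let p₂ := pullback.snd g₁ g₂
  let t : U ⟶ pullback g₁ g₂ := pullback.lift j₁ j₂ (hj₁.trans hj₂.symm)
  have ht₁ : t ≫ p₁ = j₁ := pullback.lift_fst _ _ _
  have ht₂ : t ≫ p₂ = j₂ := pullback.lift_snd _ _ _
  haveI : IsSeparated p₁ := MorphismProperty.pullback_fst (P := @IsSeparated) _ _ inferInstance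
  haveI : IsSeparated p₂ := MorphismProperty.pullback_snd (P := @IsSeparated) _ _ inferInstance
  haveI : LocallyOfFiniteType p₁ := MorphismProperty.pullback_fst (P := @LocallyOfFiniteType) _ _ inferInstance
  haveI : LocallyOfFiniteType p₂ := MorphismProperty.pullback_snd (P := @LocallyOfFiniteType) _ _ inferInstance
  haveI : QuasiCompact p₁ := MorphismProperty.pullback_fst (P := @QuasiCompact) _ _ inferInstance
  haveI : QuasiCompact p₂ := MorphismProperty.pullback_snd (P := @QuasiCompact) _ _ inferInstance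
  haveI : QuasiCompact (t ≫ p₁) := by rw [ht₁]; infer_instance
  haveI : QuasiCompact t := QuasiCompact.of_comp t p₁
  let q₁ := t.imageι ≫ p₁
  let q₂ := t.imageι ≫ p₂
  haveI hiso₁ : IsIso (q₁ ∣_ j₁.opensRange) := isIso_image_restrict' p₁ t j₁ ht₁
  haveI hiso₂ : IsIso (q₂ ∣_ j₂.opensRange) := isIso_image_restrict' p₂ t j₂ ht₂
  have hq₁ : t.toImage ≫ q₁ = j₁ := by simp [q₁, ht₁]
  have hq₂ : t.toImage ≫ q₂ = j₂ := by simp [q₂, ht₂]
  haveI : CompactSpace t.image := QuasiCompact.compactSpace_of_compactSpace q₁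
  have hR₁ : IsCompact (j₁.opensRange : Set X₁) := isCompact_range j₁.continuous
  have hR₂ : IsCompact (j₂.opensRange : Set X₂) := isCompact_range j₂.continuous
  obtain ⟨I₁, Y₁, c₁, hc₁, ha₁, V₁, m₁, hV₁, hp₁, hm₁, hbm₁⟩ := exists_open_strict_blowUp q₁ j₁.opensRange hR₁
  obtain ⟨I₂, Y₂, c₂, hc₂, ha₂, V₂, m₂, hV₂, hp₂, hm₂, hbm₂⟩ := exists_open_strict_blowUp q₂ j₂.opensRange hR₂
  haveI := hp₁
  haveI := hp₂
  let J₁ := I₁.comap q₁
  let J₂ := I₂.comap q₂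
  have hJft₁ : BlowUp.IsFiniteTypeIdeal J₁ := ModPairLib.fg_comap I₁ q₁ ha₁.1
  have hJft₂ : BlowUp.IsFiniteTypeIdeal J₂ := ModPairLib.fg_comap I₂ q₂ ha₂.1
  have hJU₁ : ∀ u, t.toImage u ∉ J₁.support := fun u h => by
    rw [Scheme.IdealSheafData.support_comap] at h
    exact Set.disjoint_left.1 ha₁.2 (show q₁ (t.toImage u) ∈ I₁.support from h) ⟨u, by rw [← Scheme.Hom.comp_apply, hq₁]⟩
  have hJU₂ : ∀ u, t.toImage u ∉ J₂.support := fun u h => by
    rw [Scheme.IdealSheafData.support_comap] at h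
    exact Set.disjoint_left.1 ha₂.2 (show q₂ (t.toImage u) ∈ I₂.support from h) ⟨u, by rw [← Scheme.Hom.comp_apply, hq₂]⟩
  have hK₁ : BlowUp.IsAdmissibleFor (V₁.ι ⁻¹ᵁ (c₁ ⁻¹ᵁ j₁.opensRange)) (J₂.comap m₁) := by
    refine ⟨ModPairLib.fg_comap J₂ m₁ hJft₂, Set.disjoint_left.2 fun v hv hvR => ?_⟩
    rw [Scheme.IdealSheafData.support_comap] at hv
    have hz : q₁ (m₁ v) ∈ j₁.opensRange := by
      rw [← Scheme.Hom.comp_apply, hm₁, Scheme.Hom.comp_apply]; exact hvR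
    obtain ⟨u, hu⟩ := mem_range_toImage p₁ t j₁ ht₁ (m₁ v) hz
    exact hJU₂ u (hu ▸ hv)
  have hK₂ : BlowUp.IsAdmissibleFor (V₂.ι ⁻¹ᵁ (c₂ ⁻¹ᵁ j₂.opensRange)) (J₁.comap m₂) := by
    refine ⟨ModPairLib.fg_comap J₁ m₂ hJft₁, Set.disjoint_left.2 fun v hv hvR => ?_⟩
    rw [Scheme.IdealSheafData.support_comap] at hv
    have hz : q₂ (m₂ v) ∈ j₂.opensRange := by
      rw [← Scheme.Hom.comp_apply, hm₂, Scheme.Hom.comp_apply]; exact hvR
    obtain ⟨u, hu⟩ := mem_range_toImage p₂ t j₂ ht₂ (m₂ v) hz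
    exact hJU₁ u (hu ▸ hv)
  have hcV₁ : CompactSpace (V₁ : Scheme.{u}) := QuasiCompact.compactSpace_of_compactSpace m₁
  have hcV₂ : CompactSpace (V₂ : Scheme.{u}) := QuasiCompact.compactSpace_of_compactSpace m₂
  obtain ⟨𝓚₁, Y₁', d₁, hb₁, hadm₁, he₁⟩ :=
    exists_side j₁.opensRange hR₁ hc₁ ha₁ V₁ (isCompact_iff_compactSpace.2 hcV₁) _ hK₁
  obtain ⟨𝓚₂, Y₂', d₂, hb₂, hadm₂, he₂⟩ :=
    exists_side j₂.opensRange hR₂ hc₂ ha₂ V₂ (isCompact_iff_compactSpace.2 hcV₂) _ hK₂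
  let b₁ := d₁ ≫ c₁
  let b₂ := d₂ ≫ c₂
  let n₁ := (d₁ ∣_ V₁) ≫ m₁
  let n₂ := (d₂ ∣_ V₂) ≫ m₂
  have hn₁ : BlowUp.IsBlowUp n₁ (J₁ * J₂) := S1683.result J₁ J₂ m₁ hbm₁ _ he₁
  have hn₂ : BlowUp.IsBlowUp n₂ (J₁ * J₂) := mul_comm J₂ J₁ ▸ S1683.result J₂ J₁ m₂ hbm₂ _ he₂
  obtain ⟨α, hα⟩ := S8858.exists_iso_blowUp hn₁ hn₂
  let O₁ : Y₁'.Opens := d₁ ⁻¹ᵁ V₁
  let O₂ : Y₂'.Opens := d₂ ⁻¹ᵁ V₂
  have hs₁ : O₁.ι ≫ b₁ = n₁ ≫ q₁ := by
    simp only [O₁, b₁, n₁, Category.assoc, hm₁, morphismRestrict_ι_assoc]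
  have hs₂ : O₂.ι ≫ b₂ = n₂ ≫ q₂ := by
    simp only [O₂, b₂, n₂, Category.assoc, hm₂, morphismRestrict_ι_assoc]
  have hqg : q₁ ≫ g₁ = q₂ ≫ g₂ := by simp [q₁, q₂, p₁, p₂, pullback.condition]
  let a : (O₁ : Scheme.{u}) ⟶ Y₁' := O₁.ι
  let a' : (O₁ : Scheme.{u}) ⟶ Y₂' := α.hom ≫ O₂.ι
  have hcompat : a ≫ b₁ ≫ g₁ = a' ≫ b₂ ≫ g₂ := by
    simp only [a, a', Category.assoc]
    rw [reassoc_of% hs₁, reassoc_of% hs₂, hqg, ← Category.assoc α.hom n₂, hα]
  obtain ⟨P, o₁, o₂, ho₁, ho₂, hw, hcov, hint, hdesc⟩ := exists_glue a a'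
  haveI := ho₁
  haveI := ho₂
  obtain ⟨q, hq₁', hq₂'⟩ := hdesc S (b₁ ≫ g₁) (b₂ ≫ g₂) hcompat
  haveI : IsProper b₁ := isProper_blowUp hb₁ hadm₁
  haveI : IsProper b₂ := isProper_blowUp hb₂ hadm₂
  haveI : IsProper n₁ := BlowExistsLib.isProper_of_FG hn₁ (fun V => by
    rw [Scheme.IdealSheafData.ideal_mul, Pi.mul_apply]
    exact Submodule.FG.mul (hJft₁ V) (hJft₂ V))
  haveI : IsSeparated (o₁ ≫ q) := by rw [hq₁']; infer_instance
  haveI : IsSeparated (o₂ ≫ q) := by rw [hq₂']; infer_instance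
  haveI hclosed : IsClosedImmersion (pullback.lift (f := o₁ ≫ q) (g := o₂ ≫ q) a a' (by rw [reassoc_of% hw])) := by
    let L := pullback.lift (f := o₁ ≫ q) (g := o₂ ≫ q) a a' (by rw [reassoc_of% hw])
    let M : pullback (o₁ ≫ q) (o₂ ≫ q) ⟶ pullback g₁ g₂ :=
      pullback.map _ _ _ _ b₁ b₂ (𝟙 S) (by simp [hq₁']) (by simp [hq₂'])
    haveI : IsProper M := MorphismProperty.pullbackMap (P := @IsProper) (f' := g₁) (g' := g₂) ‹IsProper b₁› ‹IsProper b₂› hq₁' hq₂'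
    have hLM : L ≫ M = n₁ ≫ t.imageι := by
      apply pullback.hom_ext
      · simp only [L, M, Category.assoc, pullback.lift_fst, pullback.lift_fst_assoc, a]
        exact hs₁.trans rfl
      · simp only [L, M, Category.assoc, pullback.lift_snd, pullback.lift_snd_assoc, a', hs₂]
        rw [← Category.assoc α.hom n₂, hα]
    haveI : IsProper (L ≫ M) := by rw [hLM]; infer_instance
    haveI : IsProper L := IsProper.of_comp L M
    haveI : Mono L := mono_of_mono_fac (pullback.lift_fst a a' _ : L ≫ pullback.fst _ _ = a)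
    exact (IsClosedImmersion.iff_isProper_and_mono L).2 ⟨inferInstance, inferInstance⟩
  have hsep : IsSeparated q := isSeparated_glue a a' o₁ o₂ hw hcov hint q
  have hlft : LocallyOfFiniteType q := by
    let 𝒰 : P.OpenCover := Scheme.Cover.mkOfCovers (ULift.{u} Bool) (fun i => bif i.down then Y₁' else Y₂')
      (fun ⟨i⟩ => match i with | true => o₁ | false => o₂)
      (fun p => by
        rcases hcov p with ⟨x, hx⟩ | ⟨x, hx⟩
        · exact ⟨⟨true⟩, x, hx⟩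
        · exact ⟨⟨false⟩, x, hx⟩)
      (fun ⟨i⟩ => match i with | true => ‹IsOpenImmersion o₁› | false => ‹IsOpenImmersion o₂›)
    refine IsZariskiLocalAtSource.of_openCover 𝒰 fun ⟨i⟩ => ?_
    cases i
    · show LocallyOfFiniteType (o₂ ≫ q); rw [hq₂']; infer_instance
    · show LocallyOfFiniteType (o₁ ≫ q); rw [hq₁']; infer_instance
  have hqc : QuasiCompact q := by
    haveI : CompactSpace Y₁' := QuasiCompact.compactSpace_of_compactSpace b₁
    haveI : CompactSpace Y₂' := QuasiCompact.compactSpace_of_compactSpace b₂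
    haveI : CompactSpace P := ⟨by
      rw [show (Set.univ : Set P) = Set.range o₁ ∪ Set.range o₂ from (Set.eq_univ_of_forall hcov).symm]
      exact (isCompact_range o₁.continuous).union (isCompact_range o₂.continuous)⟩
    infer_instance
  -- the open lifts
  have htop₁ : 𝓚₁.comap j₁ = ⊤ := BlowCompLib.comap_eq_top _ _ fun u h => Set.disjoint_left.1 hadm₁.2 h ⟨u, rfl⟩
  have htop₂ : 𝓚₂.comap j₂ = ⊤ := BlowCompLib.comap_eq_top _ _ fun u h => Set.disjoint_left.1 hadm₂.2 h ⟨u, rfl⟩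
  obtain ⟨u₁, hu₁, -⟩ := hb₁.2 U j₁ (htop₁ ▸ BlowCompLib.isEffCartier_top)
  obtain ⟨u₂, hu₂, -⟩ := hb₂.2 U j₂ (htop₂ ▸ BlowCompLib.isEffCartier_top)
  have hr₁ : Set.range u₁ ⊆ Set.range O₁.ι := by
    rintro _ ⟨u, rfl⟩
    rw [Scheme.Opens.range_ι]
    exact hV₁ (show c₁ (d₁ (u₁ u)) ∈ j₁.opensRange from ⟨u, by
      rw [← Scheme.Hom.comp_apply d₁, ← Scheme.Hom.comp_apply u₁]; exact congrArg (fun k : U ⟶ X₁ => k u) hu₁.symm⟩)
  have hr₂ : Set.range u₂ ⊆ Set.range O₂.ι := by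
    rintro _ ⟨u, rfl⟩
    rw [Scheme.Opens.range_ι]
    exact hV₂ (show c₂ (d₂ (u₂ u)) ∈ j₂.opensRange from ⟨u, by
      rw [← Scheme.Hom.comp_apply d₂, ← Scheme.Hom.comp_apply u₂]; exact congrArg (fun k : U ⟶ X₂ => k u) hu₂.symm⟩)
  let l₁ := IsOpenImmersion.lift O₁.ι u₁ hr₁
  let l₂ := IsOpenImmersion.lift O₂.ι u₂ hr₂
  have hl₁ : l₁ ≫ n₁ = t.toImage := by
    refine eq_of_iso_over q₁ j₁.opensRange _ _ ?_ fun u => ?_
    · rw [Category.assoc, ← hs₁, IsOpenImmersion.lift_fac_assoc, hu₁, hq₁]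
    · rw [hq₁]; exact ⟨u, rfl⟩
  have hl₂ : l₂ ≫ n₂ = t.toImage := by
    refine eq_of_iso_over q₂ j₂.opensRange _ _ ?_ fun u => ?_
    · rw [Category.assoc, ← hs₂, IsOpenImmersion.lift_fac_assoc, hu₂, hq₂]
    · rw [hq₂]; exact ⟨u, rfl⟩
  have hll : l₁ ≫ α.hom = l₂ := by
    have htopJ : (J₁ * J₂).comap t.toImage = ⊤ := BlowCompLib.comap_eq_top _ _ fun u h => by
      rw [Scheme.IdealSheafData.support_mul] at h
      rcases h with h | h
      · exact hJU₁ u h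
      · exact hJU₂ u h
    exact (hn₂.2 U t.toImage (htopJ ▸ BlowCompLib.isEffCartier_top)).unique (by rw [Category.assoc, hα, hl₁]) hl₂
  refine ⟨P, q, hsep, hlft, hqc, 𝓚₁, 𝓚₂, Y₁', Y₂', b₁, b₂, o₁, o₂, u₁, u₂, hb₁, hadm₁, hb₂, hadm₂, ho₁, ho₂,
    hq₁', hq₂', hu₁, hu₂, ?_⟩
  rw [← IsOpenImmersion.lift_fac O₁.ι u₁ hr₁, ← IsOpenImmersion.lift_fac O₂.ι u₂ hr₂, Category.assoc, Category.assoc]
  show l₁ ≫ a ≫ o₁ = l₂ ≫ O₂.ι ≫ o₂
  rw [hw, ← hll]
  simp only [a', Category.assoc]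

end Groth.Agent.RGBlowLib
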